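import Cfsg.Agent.Lib.Gold1169.Two.NoCompBasic
import Cfsg.Agent.Lib.Gold1169.Three.Kind

/-!
`C(A) ⧸ O(C(A))` has no component.
-/

set_option autoImplicit false
set_option linter.style.haveILetI false
set_option linter.unusedSectionVars false

namespace Cfsg.Agent.Gold1169.Two

open Subgroup
open Cfsg.Agent.Walter4 (cen cenS ocen cor XB pre CA mem_pre pre_le map_pre_conj)
open Cfsg.Agent.OddDown.CoreSep (q im mem_im)
open scoped commutatorElement

universe u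

attribute [local instance] FittingCores.pPrimeCore_normal

/-- In a perfect group a central element of a Sylow 2-subgroup lies in its commutator subgroup. -/
theorem central_mem_commutator {L : Type u} [Group L] [Finite L] [Group.IsPerfect L] {P : Subgroup L}
    (hP : IsPGroup 2 P) (hi : ¬ 2 ∣ P.index) {z : L} (hz : z ∈ P) (hzc : z ∈ center L) : z ∈ ⁅P, P⁆ := by
  haveI : Fact (Nat.Prime 2) := ⟨Nat.prime_two⟩
  let f : ↥P →* Abelianization ↥P := Abelianization.of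
  have h1 := MonoidHom.transfer_eq_pow f z fun k g _ => by
    rw [mul_assoc, ← mem_center_iff.1 ((center L).pow_mem hzc k) g, inv_mul_cancel_left]
  have h0 : f.transfer z = 1 := Abelianization.commutator_subset_ker (G := L) _
    (by rw [Group.IsPerfect.commutator_eq_top]; exact mem_top z)
  rw [h0] at h1
  have h2 : (⟨z, hz⟩ : ↥P) ^ P.index ∈ _root_.commutator ↥P := by
    rw [← Abelianization.ker_of, MonoidHom.mem_ker]
    refine Eq.trans ?_ h1.symm
    exact congrArg f (Subtype.ext rfl)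
  have h3 : z ^ P.index ∈ ⁅P, P⁆ := by
    rw [← Subgroup.map_subtype_commutator]
    exact ⟨_, h2, rfl⟩
  obtain ⟨k, hk⟩ := hP ⟨z, hz⟩
  have hk' : z ^ 2 ^ k = 1 := congrArg Subtype.val hk
  obtain ⟨m, hm⟩ := exists_pow_eq_self_of_coprime (n := P.index) (x := z)
    ((((Nat.prime_two.coprime_iff_not_dvd.2 hi).pow_left k).coprime_dvd_left
      (orderOf_dvd_of_pow_eq_one hk')).symm)
  rw [← hm]
  exact pow_mem h3 m

variable {G : Type u} [Group G] [Finite G] {S : Sylow 2 G} {A T Y : Subgroup G}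

/-- The commutator subgroup of a small subgroup with central `A` has order at most two. -/
theorem card_commutator_le_two (h : Ctx S A) {Q : Subgroup G} (hAQ : A ≤ Q)
    (hQS : Q ≤ (S : Subgroup G)) (hcA : ∀ x ∈ Q, ∀ y ∈ Q, x * y * x⁻¹ * y⁻¹ ∈ A)
    (hcard : Nat.card Q ≤ 16) : Nat.card ↥⁅Q, Q⁆ ≤ 2 := by
  by_cases hab : ∀ x ∈ Q, ∀ y ∈ Q, x * y = y * x
  · rw [show ⁅Q, Q⁆ = ⊥ from le_bot_iff.1 (commutator_le.2 fun x hx y hy =>
      mem_bot.2 (commutatorElement_eq_one_iff_mul_comm.2 (hab x hx y hy))), card_bot]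
    omega
  push Not at hab
  obtain ⟨u, hu, v, hv, huv⟩ := hab
  set c := u * v * u⁻¹ * v⁻¹ with hc
  set M := zpowers c with hM
  have hMcard : Nat.card M ≤ 2 := by
    rw [hM, Nat.card_zpowers]
    exact Nat.le_of_dvd two_pos (orderOf_dvd_of_pow_eq_one (by rw [pow_two]; exact h.sq (hcA u hu v hv)))
  have hMc : ∀ m ∈ M, ∀ x ∈ Q, x * m * x⁻¹ = m := fun m hm x hx => by
    rw [← h.comm_S (hQS hx) ((zpowers_le.2 (hcA u hu v hv)) hm), mul_inv_cancel_right]
  have key : ∀ w ∈ Q, ∃ K : Subgroup G, K ≤ Q ∧ ∀ x ∈ Q, x ∈ K ↔ w * x * w⁻¹ * x⁻¹ ∈ M := fun w hw =>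
    ⟨{ carrier := {x | x ∈ Q ∧ w * x * w⁻¹ * x⁻¹ ∈ M}
       one_mem' := ⟨one_mem _, by simp⟩
       mul_mem' := fun {x y} hx hy => ⟨mul_mem hx.1 hy.1, by
         have e : w * (x * y) * w⁻¹ * (x * y)⁻¹ =
             w * x * w⁻¹ * x⁻¹ * (x * (w * y * w⁻¹ * y⁻¹) * x⁻¹) := by group
         rw [e, hMc _ hy.2 x hx.1]
         exact mul_mem hx.2 hy.2⟩
       inv_mem' := fun {x} hx => ⟨inv_mem hx.1, by
         have e : w * x⁻¹ * w⁻¹ * x⁻¹⁻¹ = x⁻¹ * (w * x * w⁻¹ * x⁻¹)⁻¹ * x⁻¹⁻¹ := by group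
         rw [e, hMc _ (inv_mem hx.2) x⁻¹ (inv_mem hx.1)]
         exact inv_mem hx.2⟩ }, fun x hx => hx.1, fun x hx => ⟨fun h' => h'.2, fun h' => ⟨hx, h'⟩⟩⟩
  have hA1 : ∀ w ∈ Q, ∀ a ∈ A, w * a * w⁻¹ * a⁻¹ ∈ M := fun w hw a ha => by
    rw [← h.comm_S (hQS hw) ha, mul_inv_cancel_right, mul_inv_cancel]; exact one_mem _
  have full : ∀ w ∈ Q, w * u * w⁻¹ * u⁻¹ ∈ M → w * v * w⁻¹ * v⁻¹ ∈ M →
      ∀ x ∈ Q, w * x * w⁻¹ * x⁻¹ ∈ M := by
    intro w hw h1 h2
    obtain ⟨K, hKQ, hK⟩ := key w hw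
    set E := K ⊓ centralizer ({u} : Set G) with hE
    have hAK : A ≤ K := fun a ha => (hK a (hAQ ha)).2 (hA1 w hw a ha)
    have huE : u ∈ E := ⟨(hK u hu).2 h1, mem_centralizer_singleton_iff.2 rfl⟩
    have huA : u ∉ A := fun h' => huv (h.comm_S (hQS hv) h')
    have hAE : A < E := lt_of_le_not_ge (fun a ha => ⟨hAK ha,
      mem_centralizer_singleton_iff.2 (h.comm_S (hQS hu) ha)⟩) fun h' => huA (h' huE)
    have hEK : E < K := lt_of_le_not_ge inf_le_left fun h' =>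
      huv (mem_centralizer_singleton_iff.1 (h' ((hK v hv).2 h2)).2).symm
    have e1 := two_mul_card_le hAE
    have e2 := two_mul_card_le hEK
    rw [h.card] at e1
    have hKeq : K = Q := eq_of_le_of_card_ge hKQ (by omega)
    exact fun x hx => (hK x hx).1 (hKeq.ge hx)
  have hswap : ∀ x y : G, x * y * x⁻¹ * y⁻¹ ∈ M → y * x * y⁻¹ * x⁻¹ ∈ M := fun x y h' => by
    have := inv_mem h'
    simpa [mul_assoc] using this
  have hu' := full u hu (by simp) (mem_zpowers c)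
  have hv' := full v hv (hswap u v (mem_zpowers c)) (by simp)
  refine (Subgroup.card_le_of_le (commutator_le.2 fun x hx y hy => ?_)).trans hMcard
  exact full x hx (hswap u x (hu' x hx)) (hswap v x (hv' x hx)) y hy

/-- `C(A) ⧸ O(C(A))` has no component. -/
theorem Final.no_comp (hF : Final S A T Y) (h : Ctx S A) (L : Subgroup (XB A)) :
    ¬ Cfsg.IsComponent L := by
  intro hL
  classical
  haveI : Fact (Nat.Prime 2) := ⟨Nat.prime_two⟩
  haveI : Group.IsPerfect ↥L := hL.2.1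
  have hSC : (S : Subgroup G) ≤ cenS A := h.S_le
  have hAC : A ≤ cenS A := h.set.le.trans hSC
  have hsurj : Function.Surjective (q (cenS A)) := QuotientGroup.mk'_surjective _
  have hAz : ∀ a (ha : a ∈ A) (x : XB A), q (cenS A) ⟨a, hAC ha⟩ * x = x * q (cenS A) ⟨a, hAC ha⟩ := by
    intro a ha x
    obtain ⟨⟨g, hg⟩, rfl⟩ := hsurj x
    rw [← map_mul, ← map_mul]
    exact congrArg _ (Subtype.ext (mem_centralizer_iff.1 hg a ha))
  -- the Sylow subgroup of the component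
  set Q : Subgroup G := (S : Subgroup G) ⊓ pre A L with hQ
  have hQS : Q ≤ (S : Subgroup G) := inf_le_left
  have hQmem : ∀ {x : G} (hx : x ∈ (S : Subgroup G)), q (cenS A) ⟨x, hSC hx⟩ ∈ L → x ∈ Q := fun hx hl =>
    ⟨hx, mem_pre.2 ⟨hSC hx, hl⟩⟩
  have hQL : ∀ x : ↥Q, q (cenS A) ⟨x, hSC (hQS x.2)⟩ ∈ L := fun x => (mem_pre.1 x.2.2).2
  let φ : ↥Q →* ↥L :=
    { toFun := fun x => ⟨q (cenS A) ⟨x, hSC (hQS x.2)⟩, hQL x⟩
      map_one' := Subtype.ext (map_one (q (cenS A)))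
      map_mul' := fun x y => Subtype.ext (map_mul (q (cenS A)) ⟨x, hSC (hQS x.2)⟩ ⟨y, hSC (hQS y.2)⟩) }
  have hφinj : Function.Injective φ := by
    rw [injective_iff_map_eq_one]
    exact fun x hx => Subtype.ext (hF.eq_one_of_q h (hQS x.2) (congrArg Subtype.val hx))
  have hcomm : ∀ x y : ↥Q, φ x * φ y = φ y * φ x → (x : G) * y = y * x := fun x y e => by
    rw [← map_mul, ← map_mul] at e
    exact congrArg Subtype.val (hφinj e)
  set P := φ.range with hP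
  have hP2 : IsPGroup 2 P := (S.isPGroup'.to_le hQS).of_surjective φ.rangeRestrict φ.rangeRestrict_surjective
  let SX : Sylow 2 (XB A) := (S.subtype hSC).mapSurjective hsurj
  have hSX : ∀ z, z ∈ (SX : Subgroup (XB A)) ↔ ∃ x, ∃ hx : x ∈ (S : Subgroup G),
      q (cenS A) ⟨x, hSC hx⟩ = z := by
    intro z
    rw [Sylow.coe_mapSurjective, Sylow.coe_subtype, mem_map]
    exact ⟨fun ⟨⟨x, hxC⟩, hx, e⟩ => ⟨x, hx, e⟩, fun ⟨x, hx, e⟩ => ⟨⟨x, hSC hx⟩, hx, e⟩⟩
  have hPeq : P = (SX : Subgroup (XB A)).subgroupOf L := by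
    ext z
    rw [mem_subgroupOf, hSX]
    constructor
    · rintro ⟨x, rfl⟩
      exact ⟨x, hQS x.2, rfl⟩
    · rintro ⟨x, hx, e⟩
      exact ⟨⟨x, hQmem hx (e ▸ z.2)⟩, Subtype.ext e⟩
  have hPi : ¬ 2 ∣ P.index := hPeq ▸ PTerm.sylow_inf_subnormal SX.not_dvd_index hL.1
  have hcoreX : Cfsg.pPrimeCore 2 (XB A) = ⊥ := Components.pPrimeCore_quotient (p := 2) ↥(cenS A)
  have hcoreL : Cfsg.pPrimeCore 2 ↥L = ⊥ := by
    have hle : (Cfsg.pPrimeCore 2 ↥L).map L.subtype ≤ Cfsg.pPrimeCore 2 (XB A) := by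
      refine Components.subnormal_le_pPrimeCore
        ((inferInstance : (Cfsg.pPrimeCore 2 ↥L).Normal).isSubnormal.trans' hL.1) ?_
      rw [card_map_of_injective L.subtype_injective]
      exact FittingCores.pPrimeCore_coprime 2
    rwa [hcoreX, le_bot_iff, map_eq_bot_iff_of_injective _ L.subtype_injective] at hle
  have hPc : ¬ P ≤ center ↥L := PTerm.sylow_not_central hL.2 hcoreL hP2 hPi
  -- `S` normalises it
  have hSn : ∀ s (hs : s ∈ (S : Subgroup G)),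
      L.map (MulAut.conj (q (cenS A) ⟨s, hSC hs⟩)).toMonoidHom = L := by
    intro s hs
    by_contra hne
    refine hPc ?_
    rintro _ ⟨x, rfl⟩
    refine mem_center_iff.2 fun l => Subtype.ext ?_
    set sb := q (cenS A) ⟨s, hSC hs⟩ with hsb
    set xb := q (cenS A) ⟨(x : G), hSC (hQS x.2)⟩ with hxb
    show (l : XB A) * xb = xb * l
    have hc := commutator_eq_bot_iff_le_centralizer.1 (Components.components_commute hL
      (Components.component_conj hL sb) (Ne.symm hne))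
    have h1 : (l : XB A) * (sb * xb * sb⁻¹) = sb * xb * sb⁻¹ * l :=
      (mem_centralizer_iff.1 (hc l.2) _ ⟨xb, hQL x, rfl⟩).symm
    set cb := q (cenS A) ⟨_, hAC (hF.comm_A s hs x (hQS x.2))⟩ with hcb
    have h2 : cb⁻¹ * (sb * xb * sb⁻¹) = xb := by
      rw [inv_mul_eq_iff_eq_mul, hcb, hxb, hsb, ← map_inv, ← map_mul, ← map_mul, ← map_mul]
      refine congrArg _ (Subtype.ext ?_)
      show s * (x : G) * s⁻¹ = s * (x : G) * s⁻¹ * (x : G)⁻¹ * x
      rw [inv_mul_cancel_right]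
    have h3 : Commute (l : XB A) cb := (hAz _ (hF.comm_A s hs x (hQS x.2)) (l : XB A)).symm
    rw [← h2]
    exact (h3.inv_right.mul_right h1).eq
  have hQn : ∀ s ∈ (S : Subgroup G), ∀ x ∈ Q, s * x * s⁻¹ ∈ Q := by
    intro s hs x hx
    refine hQmem (mul_mem (mul_mem hs (hQS hx)) (inv_mem hs)) ?_
    rw [← hSn s hs]
    refine ⟨_, hQL ⟨x, hx⟩, ?_⟩
    simp only [MulEquiv.coe_toMonoidHom, MulAut.conj_apply, ← map_inv, ← map_mul]
    rfl
  -- an element of `A` in it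
  obtain ⟨a₀, ha₀, ha₀Q, ha₀1⟩ : ∃ a, a ∈ A ∧ a ∈ Q ∧ a ≠ 1 := by
    haveI : (Q.subgroupOf (S : Subgroup G)).Normal :=
      (normal_subgroupOf_iff_le_normalizer hQS).2 (Subgroup.le_normalizer_iff.2 hQn)
    have hne : Q.subgroupOf (S : Subgroup G) ≠ ⊥ := fun e => by
      rw [subgroupOf_eq_bot, disjoint_iff, inf_eq_left.2 hQS] at e
      refine hPc ?_
      rintro _ ⟨x, rfl⟩
      rw [show x = 1 from Subtype.ext (mem_bot.1 (e ▸ x.2)), map_one]
      exact one_mem _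
    haveI := S.isPGroup'.isNilpotent
    obtain ⟨z, hz, hz1⟩ := (Q.subgroupOf (S : Subgroup G) ⊓ center _).bot_or_exists_ne_one.resolve_left
      (SolvStruct.inf_center_ne_bot hne)
    exact ⟨z, hF.mem_A_of_central z.2 fun x hx =>
      congrArg Subtype.val (mem_center_iff.1 hz.2 ⟨x, hx⟩), hz.1, fun e => hz1 (Subtype.ext e)⟩
  have hAcen : ∀ a : ↥Q, (a : G) ∈ A → φ a ∈ center ↥L := fun a ha =>
    mem_center_iff.2 fun l => Subtype.ext (hAz a ha (l : XB A)).symm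
  have hQnc : ¬ ∀ x : ↥Q, ∀ y : ↥Q, (x : G) * y = y * x := by
    intro hab
    refine ha₀1 ?_
    have hbot := center_eq_bot_of_abelian (center_two hcoreX hL) (hP2.toSylow hPi) (by
      rintro _ ⟨x, rfl⟩ _ ⟨y, rfl⟩
      rw [← map_mul, ← map_mul, show x * y = y * x from Subtype.ext (hab x y)])
    have h1 := hAcen ⟨a₀, ha₀Q⟩ ha₀
    rw [hbot, mem_bot] at h1
    exact congrArg Subtype.val (hφinj (h1.trans (map_one φ).symm))
  have hQA : ∀ x : ↥Q, φ x ∈ center ↥L → (x : G) ∈ A := by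
    intro x hx
    by_contra hxA
    exact hQnc fun y z => hF.comm_of_comm h (hQS y.2) (hQS z.2) (hQS x.2) hxA
      (hcomm y x (mem_center_iff.1 hx _)) (hcomm z x (mem_center_iff.1 hx _))
  have hZP : center ↥L ≤ P :=
    le_sup_left.trans_eq ((hP2.toSylow hPi).is_maximal'
      (IsPGroup.to_sup_of_normal_left (center_two hcoreX hL) (hP2.toSylow hPi).2) le_sup_right)
  -- the element of order three fixes it
  obtain ⟨n, hnN, hnC, -, hnS, -⟩ := hF.mover
  obtain ⟨f, hf⟩ := map_pre_conj (W := A) (W' := A) (g := n) fun x =>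
    mem_normalizer_iff.1 (LELarge.normalizer_le_normalizer_centralizer A hnN) x
  have hnx : ∀ x ∈ Q, n * x * n⁻¹ ∈ (S : Subgroup G) ∧ n * x * n⁻¹ ∈ pre A (L.map f.toMonoidHom) :=
    fun x hx => ⟨(mem_normalizer_iff.1 hnS x).1 (hQS hx), (hf L x).2 hx.2⟩
  have hfix : L.map f.toMonoidHom = L := by
    by_contra hne
    have hc := commutator_eq_bot_iff_le_centralizer.1 (Components.components_commute hL
      (Components.component_map_equiv f hL) (Ne.symm hne))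
    refine hQnc fun x y => ?_
    by_contra hxy
    have hA : ∀ w : ↥Q, (w : G) ∈ A := by
      intro w
      obtain ⟨hwS, hwL⟩ := hnx w w.2
      obtain ⟨hwC, hwq⟩ := mem_pre.1 hwL
      have hcw : ∀ u : ↥Q, (u : G) * (n * w * n⁻¹) = n * w * n⁻¹ * u := fun u => by
        refine commutatorElement_eq_one_iff_mul_comm.1 (hF.eq_one_of_q h
          (mul_mem (mul_mem (mul_mem (hQS u.2) hwS) (inv_mem (hQS u.2))) (inv_mem hwS)) ?_)
        show q (cenS A) (⟨(u : G), hSC (hQS u.2)⟩ * ⟨n * w * n⁻¹, hwC⟩ * ⟨(u : G), hSC (hQS u.2)⟩⁻¹ *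
          ⟨n * w * n⁻¹, hwC⟩⁻¹) = 1
        rw [map_mul, map_mul, map_mul, map_inv, map_inv, ← commutatorElement_def,
          commutatorElement_eq_one_iff_mul_comm]
        exact (mem_centralizer_iff.1 (hc (hQL u)) _ hwq).symm
      rw [h.set.conj_mem_iff hnN]
      by_contra hwA
      exact hxy (hF.comm_of_comm h (hQS x.2) (hQS y.2) hwS hwA (hcw x) (hcw y))
    exact hxy (h.comm (hA x) (hA y))
  have hAQ : A ≤ Q := by
    obtain ⟨hne, -⟩ := h.moving_cycle hnN hnC ha₀ ha₀1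
    have hb : n * a₀ * n⁻¹ ∈ Q := ⟨(hnx a₀ ha₀Q).1, hfix ▸ (hnx a₀ ha₀Q).2⟩
    have hbA : n * a₀ * n⁻¹ ∈ A := (h.set.conj_mem_iff hnN).1 ha₀
    intro a ha
    rcases h.cases_four ha₀ hbA ha₀1 (fun e => ha₀1 (conj_eq_one_iff.1 e)) (Ne.symm hne) ha with
      e | e | e | e <;> rw [e]
    exacts [one_mem _, ha₀Q, hb, mul_mem ha₀Q hb]
  have hAder : A ≤ ⁅Q, Q⁆ := by
    intro a ha
    have h1 : φ ⟨a, hAQ ha⟩ ∈ ⁅P, P⁆ :=
      central_mem_commutator hP2 hPi ⟨_, rfl⟩ (hAcen ⟨a, hAQ ha⟩ ha)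
    rw [hP, MonoidHom.range_eq_map, ← map_commutator] at h1
    obtain ⟨x, hx, e⟩ := h1
    rw [← Subgroup.map_subtype_commutator]
    exact ⟨x, hx, congrArg Subtype.val (hφinj e)⟩
  -- the simple quotient
  have hsimp : IsSimpleGroup (↥L ⧸ center ↥L) := hL.2.2
  have hnab : ¬ IsMulCommutative (↥L ⧸ center ↥L) := fun hcom => by
    refine Components.quasisimple_center_ne_top hL.2 (eq_top_iff.2 ?_)
    rw [← Group.IsPerfect.commutator_eq_top (G := ↥L), commutator_def, commutator_le]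
    intro x _ y _
    rw [← QuotientGroup.eq_one_iff, ← QuotientGroup.mk'_apply, map_commutatorElement,
      commutatorElement_eq_one_iff_mul_comm]
    exact hcom.is_comm.comm _ _
  set π := QuotientGroup.mk' (center ↥L) with hπ
  have hπs : Function.Surjective π := QuotientGroup.mk'_surjective _
  let TK : Sylow 2 (↥L ⧸ center ↥L) := (hP2.toSylow hPi).mapSurjective hπs
  have hTK : ∀ z, z ∈ (TK : Subgroup (↥L ⧸ center ↥L)) ↔ ∃ x : ↥Q, π (φ x) = z := fun z =>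
    ⟨fun ⟨_, ⟨x, rfl⟩, e⟩ => ⟨x, e⟩, fun ⟨x, e⟩ => ⟨_, ⟨x, rfl⟩, e⟩⟩
  have hsq : ∀ z ∈ (TK : Subgroup (↥L ⧸ center ↥L)), z * z = 1 := by
    intro z hz
    obtain ⟨x, rfl⟩ := (hTK z).1 hz
    rw [← map_mul, ← map_mul, hπ, QuotientGroup.mk'_apply, QuotientGroup.eq_one_iff]
    exact hAcen _ (hF.sq_A x (hQS x.2))
  have hTea : Cfsg.IsElementaryAbelian 2 (TK : Subgroup (↥L ⧸ center ↥L)) :=
    ⟨⟨⟨fun a b => Subtype.ext (by
      have hi : ∀ {z}, z ∈ (TK : Subgroup (↥L ⧸ center ↥L)) → z⁻¹ = z :=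
        fun hz => inv_eq_of_mul_eq_one_right (hsq _ hz)
      have h1 := hi (mul_mem a.2 b.2)
      rw [mul_inv_rev, hi a.2, hi b.2] at h1
      exact h1.symm)⟩⟩, fun z hz => by rw [pow_two]; exact hsq z hz⟩
  have hTne : (TK : Subgroup (↥L ⧸ center ↥L)) ≠ ⊥ := fun e => hPc (by
    rintro _ ⟨x, rfl⟩
    exact (QuotientGroup.eq_one_iff _).1 (mem_bot.1 (e ▸ (hTK _).2 ⟨x, rfl⟩)))
  have hlt : Nat.card (↥L ⧸ center ↥L) < Nat.card G :=
    lt_of_le_of_lt ((Nat.le_of_dvd Nat.card_pos (card_quotient_dvd_card _)).trans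
      ((Nat.le_of_dvd Nat.card_pos (card_subgroup_dvd_card _)).trans
        (Nat.le_of_dvd Nat.card_pos (card_quotient_dvd_card _)))) (CombAux.cenS_lt h.set le_rfl h.ne_bot)
  have hkind := h.set.ind _ hlt hsimp hnab TK (TK : Subgroup (↥L ⧸ center ↥L)) hTne hTea
    ⟨le_rfl, fun _ _ _ hg => hg⟩
  obtain ⟨P', hP'⟩ := h.set.kind _ hsimp hnab hkind TK
  obtain ⟨d, -, -, htr, -, -⟩ := hP'.reg
  have hmem : ∀ x : ↥Q, π (φ x) ∈ P' := fun x =>
    (hP'.mem_iff _ ((hTK _).2 ⟨x, rfl⟩)).1 (hsq _ ((hTK _).2 ⟨x, rfl⟩))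
  have hne1 : ∀ x : ↥Q, (x : G) ∉ A → π (φ x) ≠ 1 := fun x hx e =>
    hx (hQA x ((QuotientGroup.eq_one_iff _).1 e))
  by_cases hex : ∃ x : ↥Q, (x : G) ∉ A ∧ (x : G) * x = 1
  · obtain ⟨x, hxA, hx2⟩ := hex
    have hall : ∀ w : ↥Q, (w : G) * w = 1 := by
      intro w
      by_cases hwA : (w : G) ∈ A
      · exact h.sq hwA
      obtain ⟨i, hi⟩ := htr _ (hmem x) (hne1 x hxA) _ (hmem w) (hne1 w hwA)
      obtain ⟨g, hg⟩ := hπs (d ^ i)
      rw [← hg, ← map_inv, ← map_mul, ← map_mul] at hi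
      have hz : (φ w)⁻¹ * (g * φ x * g⁻¹) ∈ center ↥L := by
        rw [← QuotientGroup.eq_one_iff, ← QuotientGroup.mk'_apply, ← hπ, map_mul, map_inv, hi, inv_mul_cancel]
      obtain ⟨a, ha⟩ := hZP hz
      have haA : (a : G) ∈ A := hQA a (ha ▸ hz)
      have e : φ (w * a) = g * φ x * g⁻¹ := by rw [map_mul, ha, mul_inv_cancel_left]
      have h2 : φ (w * a * (w * a)) = 1 := by
        rw [map_mul, e, conj_mul, ← map_mul, show x * x = 1 from Subtype.ext hx2, map_one, mul_one,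
          mul_inv_cancel]
      have h3 : (w : G) * a * ((w : G) * a) = 1 :=
        congrArg Subtype.val (hφinj (h2.trans (map_one φ).symm))
      rw [mul_assoc (w : G) a, ← mul_assoc (a : G) w, h.comm_S (hQS w.2) haA, mul_assoc (w : G) a a,
        h.sq haA, mul_one] at h3
      exact h3
    refine hQnc fun y z => ?_
    have hi : ∀ w : ↥Q, (w : G)⁻¹ = w := fun w => inv_eq_of_mul_eq_one_right (hall w)
    have h1 := hi (y * z)
    rw [Subgroup.coe_mul, mul_inv_rev, hi y, hi z] at h1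
    exact h1.symm
  push Not at hex
  have hTQ : T ⊓ Q ≤ A := fun t ht => by
    by_contra htA
    exact hex ⟨t, ht.2⟩ htA (hF.T_sq t ht.1)
  have hcard : Nat.card Q ≤ 16 := by
    have h1 := hF.card_le_inf hQS
    have h2 := Subgroup.card_le_of_le hTQ
    rw [h.card] at h2
    omega
  have h4 := (Subgroup.card_le_of_le hAder).trans (card_commutator_le_two h hAQ hQS
    (fun x hx y hy => hF.comm_A x (hQS hx) y (hQS hy)) hcard)
  rw [h.card] at h4
  omega

end Cfsg.Agent.Gold1169.Two
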