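import Cfsg.Agent.Lib.Gold1169.Two.MainOf
import Cfsg.Agent.Lib.Gold1169.Two.NoComp

/-!
No rank two configuration with an involution of `S` outside `A`.
-/

set_option autoImplicit false

namespace Cfsg.Agent.Gold1169.Two

universe u

theorem twoStmt : TwoStmt.{u} :=
  twoStmt_of fun _ _ _ _ _ _ _ hF h L => hF.no_comp h L

end Cfsg.Agent.Gold1169.Two
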