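import Cfsg.Agent.Lib.Gold1169.CombBase
import Cfsg.Agent.Lib.Gold1169.Three.Basic

/-!
Rank two: the action of `N(A)` on `A`, the centralisers of the elements of `A`, and tori.
-/

set_option autoImplicit false
set_option linter.style.haveILetI false
set_option linter.unusedSectionVars false

namespace Cfsg.Agent.Gold1169.Two

open Subgroup
open Cfsg.Agent.Walter4 (cen cenS ocen cor XB pre CA mem_pre cor_zpowers pre_le map_pre_conj)
open Cfsg.Agent.OddDown.CoreSep (q im mem_im)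
open scoped commutatorElement

universe u

attribute [local instance] FittingCores.pPrimeCore_normal

variable {G : Type u} [Group G]

/-- The configuration of rank two. -/
structure Ctx [Finite G] (S : Sylow 2 G) (A : Subgroup G) : Prop where
  set : Setup S A
  loc : Local A
  card : Nat.card A = 4

/-- `y` is a torus element: it centralises `a` and is inverted by `b`. -/
def TorAt (A B : Subgroup G) (L : Subgroup (XB B)) (a b y : G) : Prop :=
  a ∈ A ∧ b ∈ A ∧ a ≠ 1 ∧ y ∈ pre B L ∧ y * a = a * y ∧ Odd (orderOf y) ∧ y ∉ cor B ∧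
    b * y * b⁻¹ = y⁻¹

/-- A moved component at `B` has a torus. -/
def Tor (A B : Subgroup G) : Prop := ∃ L, Moved A B L ∧ ∃ a b y, TorAt A B L a b y

/-- An involution outside `A` centralising `A`, with a torus in a moved component. -/
def Special (A : Subgroup G) (e : G) : Prop :=
  e * e = 1 ∧ e ∈ centralizer (A : Set G) ∧ e ∉ A ∧ Tor A (zpowers e)

theorem cenS_zpowers (a : G) : cenS (zpowers a) = cen a := by
  rw [cenS, cen, zpowers_eq_closure, centralizer_closure]

theorem mem_cen {a x : G} : x ∈ cen a ↔ x * a = a * x := mem_centralizer_singleton_iff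

theorem mem_cenS_zpowers {a x : G} : x ∈ cenS (zpowers a) ↔ x * a = a * x := by
  rw [cenS_zpowers, mem_cen]

theorem conj_pow (b x : G) (n : ℕ) : b * x ^ n * b⁻¹ = (b * x * b⁻¹) ^ n := by
  have := map_pow (MulAut.conj b) x n
  simpa only [MulAut.conj_apply] using this

/-- An element of odd order with square in a subgroup lies in it. -/
theorem mem_of_sq_odd {H : Subgroup G} {x : G} (h : x * x ∈ H) (ho : Odd (orderOf x)) : x ∈ H :=
  ClosedAbelian.mem_of_sq_mem h ho

/-- An element of odd order equal to its inverse is trivial. -/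
theorem eq_one_of_sq_odd {x : G} (h : x * x = 1) (ho : Odd (orderOf x)) : x = 1 :=
  mem_bot.1 (mem_of_sq_odd (H := ⊥) (mem_bot.2 h) ho)

/-- The power of odd order of an element. -/
theorem exists_odd_pow [Finite G] (x : G) :
    ∃ s : ℕ, Odd (orderOf (x ^ 2 ^ s)) ∧ ∀ (K : Type u) [Group K] (f : G →* K),
      Odd (orderOf (f x)) → f x ≠ 1 → f (x ^ 2 ^ s) ≠ 1 := by
  have hord : orderOf x ≠ 0 := (orderOf_pos x).ne'
  refine ⟨(orderOf x).factorization 2, ?_, fun K _ f ho hne he => hne ?_⟩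
  · rw [orderOf_pow, Nat.gcd_eq_right (Nat.ordProj_dvd _ 2)]
    exact Nat.odd_iff.2 (Nat.two_dvd_ne_zero.1 (Nat.not_dvd_ordCompl Nat.prime_two hord))
  · rw [map_pow] at he
    have h1 := orderOf_dvd_of_pow_eq_one he
    rw [← orderOf_eq_one_iff]
    exact Nat.Coprime.eq_one_of_dvd (ho.coprime_two_right.pow_right _) h1

theorem eq_or_mul_of_four [Finite G] {A : Subgroup G} (hc : Nat.card A = 4) {a b x : G} (ha : a ∈ A)
    (hb : b ∈ A) (ha1 : a ≠ 1) (hb1 : b ≠ 1) (hab : a ≠ b) (haa : a * a = 1) (hx : x ∈ A) :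
    x = 1 ∨ x = a ∨ x = b ∨ x = a * b := by
  have h1 : a * b ≠ 1 := fun e => hab (by
    rw [← mul_one a, ← e, ← mul_assoc, haa, one_mul])
  have h2 : a * b ≠ a := fun e => hb1 (mul_left_cancel (e.trans (mul_one a).symm))
  have h3 : a * b ≠ b := fun e => ha1 (mul_right_cancel (e.trans (one_mul b).symm))
  have hsub : ({1, a, b, a * b} : Set G) ⊆ (A : Set G) := by
    rintro y (rfl | rfl | rfl | rfl)
    exacts [one_mem A, ha, hb, mul_mem ha hb]
  have h4 : ({1, a, b, a * b} : Set G).ncard = 4 := by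
    rw [Set.ncard_insert_of_notMem (by simp [Ne.symm ha1, Ne.symm hb1, Ne.symm h1]),
      Set.ncard_eq_three.2 ⟨a, b, a * b, hab, Ne.symm h2, Ne.symm h3, rfl⟩]
  have heq : ({1, a, b, a * b} : Set G) = (A : Set G) :=
    Set.eq_of_subset_of_ncard_le hsub (by
      rw [h4, ← Nat.card_coe_set_eq, SetLike.coe_sort_coe, hc]) (Set.toFinite _)
  have := heq.ge hx
  simpa [Set.mem_insert_iff, Set.mem_singleton_iff] using this

variable [Finite G] {S : Sylow 2 G} {A : Subgroup G}

namespace Ctx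

variable (h : Ctx S A)
include h

theorem comm {x y : G} (hx : x ∈ A) (hy : y ∈ A) : x * y = y * x := h.set.comm hx hy

theorem sq {x : G} (hx : x ∈ A) : x * x = 1 := h.set.sq hx

theorem inv_eq {x : G} (hx : x ∈ A) : x⁻¹ = x := h.set.inv_eq hx

theorem ne_bot : A ≠ ⊥ := h.set.ne

/-- An element of `A#` different from a given one. -/
theorem exists_ne (a : G) : ∃ b ∈ A, b ≠ 1 ∧ b ≠ a := by
  by_contra hno
  push Not at hno
  have hsub : (A : Set G) ⊆ {1, a} := fun w hw => by
    by_cases hw1 : w = 1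
    · exact Or.inl hw1
    · exact Or.inr (hno w hw hw1)
  have h1 := (Set.ncard_le_ncard hsub).trans (Set.ncard_insert_le _ _)
  rw [Set.ncard_singleton, ← Nat.card_coe_set_eq, SetLike.coe_sort_coe, h.card] at h1
  omega

theorem cases_four {a b x : G} (ha : a ∈ A) (hb : b ∈ A) (ha1 : a ≠ 1) (hb1 : b ≠ 1) (hab : a ≠ b)
    (hx : x ∈ A) : x = 1 ∨ x = a ∨ x = b ∨ x = a * b :=
  eq_or_mul_of_four h.card ha hb ha1 hb1 hab (h.sq ha) hx

/-- An element of `N(A)` fixing a point of `A#` centralises `A`. -/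
theorem centralizes_of_fix {g a : G} (hg : g ∈ normalizer (A : Set G)) (ha : a ∈ A) (ha1 : a ≠ 1)
    (hga : g * a * g⁻¹ = a) : g ∈ centralizer (A : Set G) := by
  classical
  obtain ⟨b, hb, hb1, hba⟩ := h.exists_ne a
  by_contra hgc
  have hgb : g * b * g⁻¹ ∈ A := (h.set.conj_mem_iff hg).1 hb
  have hgb2 : g * b * g⁻¹ = a * b := by
    rcases h.cases_four ha hb ha1 hb1 (Ne.symm hba) hgb with e | e | e | e
    · exact absurd (conj_eq_one_iff.1 e) hb1
    · exact absurd (mul_left_cancel (mul_right_cancel (e.trans hga.symm))) hba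
    · refine absurd (mem_centralizer_iff.2 fun x hx => ?_) hgc
      rcases h.cases_four ha hb ha1 hb1 (Ne.symm hba) hx with rfl | rfl | rfl | rfl
      · rw [one_mul, mul_one]
      · exact (mul_inv_eq_iff_eq_mul.1 hga).symm
      · exact (mul_inv_eq_iff_eq_mul.1 e).symm
      · rw [mul_assoc, ← mul_inv_eq_iff_eq_mul.1 e, ← mul_assoc, ← mul_inv_eq_iff_eq_mul.1 hga,
          mul_assoc]
    · exact e
  haveI : Fintype ↥A := Fintype.ofFinite _
  let φ : ↥(normalizer (A : Set G)) →* Equiv.Perm ↥A :=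
    { toFun := fun n => (normalizerMonoidHom A n).toEquiv
      map_one' := by rw [map_one]; rfl
      map_mul' := fun x y => by rw [map_mul]; rfl }
  have hφ : ∀ (n : ↥(normalizer (A : Set G))) (x : ↥A), ((φ n x : ↥A) : G) = n * x * (n : G)⁻¹ :=
    fun n x => rfl
  have hb' : a * b ∈ A := mul_mem ha hb
  have hswap : φ ⟨g, hg⟩ = Equiv.swap ⟨b, hb⟩ ⟨a * b, hb'⟩ := by
    ext ⟨x, hx⟩
    rw [hφ]
    show g * x * g⁻¹ = _
    have hab1 : a * b ≠ 1 := fun e => hba (by
      rw [← mul_one b, ← h.sq ha, ← mul_assoc, h.comm hb ha, e, one_mul])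
    rcases h.cases_four ha hb ha1 hb1 (Ne.symm hba) hx with rfl | rfl | rfl | rfl
    · rw [mul_one, mul_inv_cancel,
        Equiv.swap_apply_of_ne_of_ne (fun e => hb1 (congrArg Subtype.val e).symm)
          (fun e => hab1 (congrArg Subtype.val e).symm)]
    · rw [hga, Equiv.swap_apply_of_ne_of_ne (fun e => hba (congrArg Subtype.val e).symm)
        (fun e => hb1 (mul_left_cancel ((mul_one _).trans (congrArg Subtype.val e))).symm)]
    · rw [hgb2, Equiv.swap_apply_left]
    · rw [Equiv.swap_apply_right, show g * (a * b) * g⁻¹ = g * a * g⁻¹ * (g * b * g⁻¹) by group,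
        hga, hgb2, ← mul_assoc, h.sq ha, one_mul]
  have hsign : Equiv.Perm.sign (φ ⟨g, hg⟩) = -1 := by
    rw [hswap, Equiv.Perm.sign_swap]
    intro e
    exact ha1 (mul_right_cancel ((one_mul b).trans (congrArg Subtype.val e))).symm
  refine h.set.no_index_two (MonoidHom.ker (Equiv.Perm.sign.comp φ)) ?_
  rw [Subgroup.index_ker, MonoidHom.range_eq_top.2 fun z => ?_]
  · rw [Nat.card_eq_fintype_card, ← Fintype.card_units_int]
    exact Fintype.card_congr Subgroup.topEquiv.toEquiv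
  · rcases Int.units_eq_one_or z with rfl | rfl
    · exact ⟨1, map_one _⟩
    · exact ⟨_, hsign⟩

theorem centralizes_of_comm {g a : G} (hg : g ∈ normalizer (A : Set G)) (ha : a ∈ A) (ha1 : a ≠ 1)
    (hga : g * a = a * g) : g ∈ centralizer (A : Set G) :=
  h.centralizes_of_fix hg ha ha1 (by rw [hga, mul_inv_cancel_right])

/-- A 2-element normalising `A` centralises it. -/
theorem centralizes_of_two : ∀ (k : ℕ) {g : G}, g ∈ normalizer (A : Set G) → g ^ 2 ^ k = 1 →
    g ∈ centralizer (A : Set G)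
  | 0, g, _, hk => by
    rw [pow_zero, pow_one] at hk
    rw [hk]
    exact one_mem _
  | k + 1, g, hg, hk => by
    have h2 := centralizes_of_two k (g := g ^ 2) (pow_mem hg 2) (by rw [← pow_mul, ← pow_succ', hk])
    obtain ⟨x, hx, hx1⟩ := A.bot_or_exists_ne_one.resolve_left h.ne_bot
    by_cases hgx : g * x * g⁻¹ = x
    · exact h.centralizes_of_fix hg hx hx1 hgx
    have hgxA : g * x * g⁻¹ ∈ A := (h.set.conj_mem_iff hg).1 hx
    refine h.centralizes_of_fix hg (mul_mem hx hgxA) (fun e => hgx ?_) ?_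
    · exact mul_left_cancel (e.trans (h.sq hx).symm)
    · have h3 : g * (g * x * g⁻¹) * g⁻¹ = x := by
        rw [show g * (g * x * g⁻¹) * g⁻¹ = g ^ 2 * x * (g ^ 2)⁻¹ by rw [pow_two]; group,
          ← mem_centralizer_iff.1 h2 x hx, mul_inv_cancel_right]
      calc g * (x * (g * x * g⁻¹)) * g⁻¹ = g * x * g⁻¹ * (g * (g * x * g⁻¹) * g⁻¹) := by group
        _ = g * x * g⁻¹ * x := by rw [h3]
        _ = x * (g * x * g⁻¹) := h.comm hgxA hx

theorem centralizes_of_orderOf {g : G} (hg : g ∈ normalizer (A : Set G)) {R : Subgroup G}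
    (hR : IsPGroup 2 R) (hgR : g ∈ R) : g ∈ centralizer (A : Set G) := by
  obtain ⟨k, hk⟩ := hR ⟨g, hgR⟩
  exact h.centralizes_of_two k hg (congrArg Subtype.val hk)

/-- A 2-group containing `A` centralises it. -/
theorem le_centralizer_two {R : Subgroup G} (hR : IsPGroup 2 R) (hAR : A ≤ R) :
    R ≤ centralizer (A : Set G) := fun _ hg =>
  h.centralizes_of_orderOf (CombAux.le_normalizer_of_two h.set hR hAR hg) hR hg

theorem S_le : (S : Subgroup G) ≤ centralizer (A : Set G) := h.le_centralizer_two S.isPGroup' h.set.le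

theorem comm_S {s a : G} (hs : s ∈ (S : Subgroup G)) (ha : a ∈ A) : a * s = s * a :=
  mem_centralizer_iff.1 (h.S_le hs) a ha

/-- A 2-group centralising `A` is conjugate into `S` by an element of `N(A)`. -/
theorem exists_conj_into {R : Subgroup G} (hR : IsPGroup 2 R) (hRA : R ≤ centralizer (A : Set G)) :
    ∃ g ∈ normalizer (A : Set G), ∀ x ∈ R, g * x * g⁻¹ ∈ (S : Subgroup G) := by
  haveI : Fact (Nat.Prime 2) := ⟨Nat.prime_two⟩
  set N := normalizer (A : Set G)
  have hRN : R ≤ N := hRA.trans (centralizer_le_normalizer _)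
  obtain ⟨Q, hQ⟩ := (hR.comap_of_injective N.subtype N.subtype_injective :
    IsPGroup 2 (R.subgroupOf N)).exists_le_sylow
  obtain ⟨c, hc⟩ := MulAction.exists_smul_eq ↥N Q (S.subtype h.set.S_le_normalizer)
  refine ⟨c, c.2, fun x hx => ?_⟩
  have : c * ⟨x, hRN hx⟩ * c⁻¹ ∈ ((S.subtype h.set.S_le_normalizer : Sylow 2 ↥N) : Subgroup ↥N) := by
    rw [← hc, Sylow.coe_subgroup_smul]
    exact ⟨_, hQ hx, rfl⟩
  rw [Sylow.coe_subtype] at this
  exact this

/-- An element of `N(A)` outside `C(A)`. -/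
theorem exists_moving : ∃ n ∈ normalizer (A : Set G), n ∉ centralizer (A : Set G) := by
  by_contra hno
  push Not at hno
  obtain ⟨a, ha, ha1⟩ := A.bot_or_exists_ne_one.resolve_left h.ne_bot
  have hle : normalizer (A : Set G) ≤ normalizer (zpowers a : Set G) := fun n hn =>
    centralizer_le_normalizer _ (centralizer_le (zpowers_le.2 ha) (hno n hn))
  have := h.set.irred _ (zpowers_le.2 ha) (fun e => ha1 (zpowers_eq_bot.1 e)) hle
  have h2 : Nat.card (zpowers a) = 2 := by rw [Nat.card_zpowers, h.set.orderOf_eq ha ha1]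
  rw [this, h.card] at h2
  omega

/-- An element of `N(A)` outside `C(A)` permutes `A#` in a 3-cycle. -/
theorem moving_cycle {n : G} (hn : n ∈ normalizer (A : Set G)) (hnc : n ∉ centralizer (A : Set G))
    {a : G} (ha : a ∈ A) (ha1 : a ≠ 1) :
    n * a * n⁻¹ ≠ a ∧ n * (n * a * n⁻¹) * n⁻¹ = a * (n * a * n⁻¹) := by
  have hfix : ∀ x ∈ A, x ≠ 1 → n * x * n⁻¹ ≠ x := fun x hx hx1 e =>
    hnc (h.centralizes_of_fix hn hx hx1 e)
  set b := n * a * n⁻¹ with hb
  have hbA : b ∈ A := (h.set.conj_mem_iff hn).1 ha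
  have hb1 : b ≠ 1 := fun e => ha1 (conj_eq_one_iff.1 e)
  have hba : b ≠ a := hfix a ha ha1
  refine ⟨hba, ?_⟩
  rcases h.cases_four ha hbA ha1 hb1 (Ne.symm hba) ((h.set.conj_mem_iff hn).1 hbA) with e | e | e | e
  · exact absurd (conj_eq_one_iff.1 e) hb1
  · refine absurd ?_ (hfix (a * b) (mul_mem ha hbA) fun e' => hba ?_)
    · calc n * (a * b) * n⁻¹ = n * a * n⁻¹ * (n * b * n⁻¹) := by group
        _ = a * b := by rw [← hb, e, h.comm hbA ha]
    · rw [← mul_one b, ← h.sq ha, ← mul_assoc, h.comm hbA ha, e', one_mul]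
  · exact absurd e (hfix b hbA hb1)
  · exact e

/-! ### Moved components -/

theorem torus_eq {B : Subgroup G} (hB : Loc A B) {L : Subgroup (XB B)} (hL : Moved A B L) :
    A ≤ pre B L ∧ CA A B L = ⊥ := by
  obtain ⟨U, t, ht⟩ := h.loc.torus B hB L hL
  have hUA : U = A := eq_of_le_of_card_ge ht.le (h.card.trans_le ht.four)
  refine ⟨hUA ▸ ht.inU, ?_⟩
  have := ht.inf
  rwa [hUA, inf_eq_right.2 (show CA A B L ≤ A from inf_le_left)] at this

/-- The moved component is unique. -/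
theorem moved_unique {B : Subgroup G} (hB : Loc A B) {L M : Subgroup (XB B)} (hL : Moved A B L)
    (hM : Moved A B M) : M = L := by
  by_contra hne
  obtain ⟨U, t, ht⟩ := h.loc.torus B hB L hL
  have hUA : U = A := eq_of_le_of_card_ge ht.le (h.card.trans_le ht.four)
  exact CA_ne hM (le_antisymm inf_le_left
    (hUA ▸ h.loc.orth B hB L M hL hM.1 (Ne.symm hne) U t ht))

/-- No component is moved at a subgroup of `A`. -/
theorem not_moved {B : Subgroup G} (hBA : B ≤ A) (hB0 : B ≠ ⊥) (L : Subgroup (XB B)) :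
    ¬ Moved A B L := fun hL =>
  h.set.CA_ne_bot hBA hB0 L (h.torus_eq (h.set.loc hBA hB0) hL).2

theorem fixes_A {a : G} (ha : a ∈ A) (ha1 : a ≠ 1) {L : Subgroup (XB (zpowers a))}
    (hL : Cfsg.IsComponent L) {X : Subgroup G} (hX : X ≤ A) : Fixes X L :=
  fixes_of_not_moved hL (h.not_moved (zpowers_le.2 ha) (fun e => ha1 (zpowers_eq_bot.1 e)) L) hX

theorem layA_eq_bot {a : G} (ha : a ∈ A) (ha1 : a ≠ 1) : layA A (zpowers a) = ⊥ := by
  refine le_bot_iff.1 (iSup_le fun L => ?_)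
  exact absurd L.2 (h.not_moved (zpowers_le.2 ha) (fun e => ha1 (zpowers_eq_bot.1 e)) _)

theorem false_of_core {M : Subgroup G} (hM : M ≠ ⊤) (hcore : ∀ a ∈ A, a ≠ 1 → ocen a ≤ M) : False :=
  h.set.false_of_le h.loc hM hcore fun a ha ha1 => (h.layA_eq_bot ha ha1).trans_le bot_le

/-- `C(a) = O(C(a)) C(A)`. -/
theorem cen_eq {a : G} (ha : a ∈ A) (ha1 : a ≠ 1) {x : G} (hx : x * a = a * x) :
    ∃ o ∈ ocen a, ∃ c ∈ centralizer (A : Set G), x = o * c := by
  have hg := h.loc.gen (zpowers a) (h.set.loc_zpowers ha ha1)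
  rw [h.layA_eq_bot ha ha1, sup_bot_eq, cor_zpowers] at hg
  have hle : normalizer (A : Set G) ⊓ cenS (zpowers a) ≤ centralizer (A : Set G) := fun g hg' =>
    h.centralizes_of_comm hg'.1 ha ha1 (mem_cenS_zpowers.1 hg'.2)
  have hCN : centralizer (A : Set G) ≤ normalizer (ocen a : Set G) := fun c hc =>
    (OddDown.CoreSep.core_props a).2.1 (mem_cen.2 (mem_centralizer_iff.1 hc a ha).symm)
  have hx' := (hg.trans (sup_le_sup le_rfl hle)) (mem_cenS_zpowers.2 hx)
  exact (SolvBasic.mem_sup_iff_of_le_normalizer hCN).1 hx'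

/-- An element of odd order of `C(a)` inverted by an element of `A` lies in `O(C(a))`. -/
theorem mem_ocen_of_inverted {a b y : G} (ha : a ∈ A) (ha1 : a ≠ 1) (hb : b ∈ A) (hy : y * a = a * y)
    (ho : Odd (orderOf y)) (hby : b * y * b⁻¹ = y⁻¹) : y ∈ ocen a := by
  obtain ⟨o, hoO, c, hc, hyoc⟩ := h.cen_eq ha ha1 hy
  have hoc : o * c = y := hyoc.symm
  have hn : ∀ g : G, g * a = a * g → g ∈ normalizer (ocen a : Set G) := fun g hg =>
    (OddDown.CoreSep.core_props a).2.1 (mem_cen.2 hg)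
  refine mem_of_sq_odd ?_ ho
  have hbc : b * c * b⁻¹ = c := by
    rw [mem_centralizer_iff.1 hc b hb, mul_inv_cancel_right]
  have h1 : b * o * b⁻¹ ∈ ocen a :=
    (mem_normalizer_iff.1 (hn b (h.comm hb ha)) o).1 hoO
  have h2 : b * o * b⁻¹ * c = y⁻¹ := by
    rw [← hby, ← hoc]
    calc b * o * b⁻¹ * c = b * o * b⁻¹ * (b * c * b⁻¹) := by rw [hbc]
      _ = b * (o * c) * b⁻¹ := by group
  -- `y = o c` and `y⁻¹ = o' c`, so `y y` is in the core
  have e : y * y = o * (b * o * b⁻¹)⁻¹ := by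
    calc y * y = (o * c) * (y⁻¹)⁻¹ := by rw [hoc, inv_inv]
      _ = (o * c) * (b * o * b⁻¹ * c)⁻¹ := by rw [h2]
      _ = o * (b * o * b⁻¹)⁻¹ := by group
  rw [e]
  exact mul_mem hoO (inv_mem h1)

/-- Conjugation by `N(A)` carries tori to tori. -/
theorem tor_conj {n : G} (hn : n ∈ normalizer (A : Set G)) {B : Subgroup G} (hT : Tor A B) :
    Tor A (B.map (MulAut.conj n).toMonoidHom) := by
  obtain ⟨L, hL, a, b, y, ha, hb, ha1, hyL, hya, hyo, hyc, hby⟩ := hT
  set B' := B.map (MulAut.conj n).toMonoidHom with hB'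
  have hcen : ∀ x, x ∈ cenS B ↔ n * x * n⁻¹ ∈ cenS B' := fun x => by
    rw [hB']
    simp only [cenS, mem_centralizer_iff, SetLike.mem_coe, mem_map, MulEquiv.coe_toMonoidHom,
      MulAut.conj_apply]
    constructor
    · rintro h _ ⟨b, hb, rfl⟩
      rw [conj_mul, conj_mul, h b hb]
    · intro h b hb
      have := h _ ⟨b, hb, rfl⟩
      rw [conj_mul, conj_mul] at this
      exact mul_left_cancel (mul_right_cancel this)
  obtain ⟨f, hf⟩ := map_pre_conj hcen
  have hcor : ∀ x, n * x * n⁻¹ ∈ cor B' ↔ x ∈ cor B := fun x => by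
    have e : ∀ X : Subgroup G, pre X (⊥ : Subgroup (XB X)) = cor X := fun X => by
      rw [pre, MonoidHom.comap_bot, QuotientGroup.ker_mk']
    rw [← e, ← e, ← hf ⊥ x, Subgroup.map_bot]
  refine ⟨L.map f.toMonoidHom, ⟨Components.component_map_equiv f hL.1, fun h' => hL.2 ?_⟩,
    n * a * n⁻¹, n * b * n⁻¹, n * y * n⁻¹, (h.set.conj_mem_iff hn).1 ha, (h.set.conj_mem_iff hn).1 hb,
    fun e => ha1 (conj_eq_one_iff.1 e), (hf L y).2 hyL, ?_, ?_, fun e => hyc ((hcor y).1 e), ?_⟩
  · rw [fixes_iff] at h' ⊢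
    rintro x ⟨hx, hx'⟩
    rw [← hf, Components.map_centralizer_equiv]
    exact h' ⟨(h.set.conj_mem_iff hn).1 hx, (hcen x).1 hx'⟩
  · rw [conj_mul, conj_mul, hya]
  · rwa [show n * y * n⁻¹ = MulAut.conj n y from rfl, MulEquiv.orderOf_eq]
  · rw [show n * b * n⁻¹ * (n * y * n⁻¹) * (n * b * n⁻¹)⁻¹ = n * (b * y * b⁻¹) * n⁻¹ by group, hby]
    group

theorem special_conj {n : G} (hn : n ∈ normalizer (A : Set G)) {e : G} (he : Special A e) :
    Special A (n * e * n⁻¹) := by
  obtain ⟨he2, heC, heA, hT⟩ := he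
  refine ⟨by rw [conj_mul, he2, mul_one, mul_inv_cancel], mem_centralizer_iff.2 fun a ha => ?_,
    fun h' => heA ((h.set.conj_mem_iff hn).2 h'), ?_⟩
  · have hb : n⁻¹ * a * n ∈ A := (h.set.conj_mem_iff hn).2 (by
      rwa [show n * (n⁻¹ * a * n) * n⁻¹ = a by group])
    calc a * (n * e * n⁻¹) = n * ((n⁻¹ * a * n) * e) * n⁻¹ := by group
      _ = n * (e * (n⁻¹ * a * n)) * n⁻¹ := by rw [mem_centralizer_iff.1 heC _ hb]
      _ = n * e * n⁻¹ * a := by group
  · have := h.tor_conj hn hT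
    rwa [MonoidHom.map_zpowers] at this

end Ctx

end Cfsg.Agent.Gold1169.Two
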