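import Cfsg.Agent.Lib.Gold1169.KindSE
import Cfsg.Agent.Lib.Gold1169.KindGood
import Cfsg.Agent.Lib.Involutions.StronglyEmbedded
import Cfsg.Agent.Lib.Transfer.HallComplement
import Cfsg.Agent.Lib.Classical.SL2Sylow
import Cfsg.Agent.Lib.SubThree.PSLFacts

/-!
A known simple group `K` whose involutions of a Sylow 2-subgroup `T` form a four-group `P`: without a torus
it has a strongly embedded subgroup and is balanced, with one it is `PSL₂` of odd characteristic.
-/

set_option autoImplicit false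
set_option linter.style.haveILetI false
set_option linter.unusedSectionVars false

namespace Cfsg.Agent.Gold1169.Two

open Subgroup MulAction
open Cfsg.Agent.RankOne
open scoped Pointwise

universe u

variable {K : Type u} [Group K]

/-- No element of odd order centralising `a ∈ P#` is inverted by an element of `P`. -/
def NoTor (P : Subgroup K) : Prop :=
  ∀ a ∈ P, a ≠ 1 → ∀ b ∈ P, ∀ y : K, Odd (orderOf y) → y * a = a * y → b * y * b⁻¹ = y⁻¹ → y = 1

variable [Finite K] {T : Sylow 2 K} {P : Subgroup K}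

/-- With a good group the Sylow subgroup consists of involutions. -/
theorem good_le (hP : Facts K T P) (hsimp : IsSimpleGroup K) (hG : Walter4.Good K) :
    (T : Subgroup K) ≤ P := fun x hx =>
  (hP.mem_iff x hx).1 ((Walter4.kindStmt K hsimp hG T).sq x hx)

/-- The centraliser of an involution has a normal 2-complement centralising `P`. -/
theorem centralizer_le_of_noTor (hP : Facts K T P) (hTP : (T : Subgroup K) = P) (h4 : Nat.card P = 4)
    (hn : NoTor P) {a : K} (ha : a ∈ P) (ha1 : a ≠ 1) :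
    centralizer ({a} : Set K) ≤ centralizer (P : Set K) := by
  haveI : Fact (Nat.Prime 2) := ⟨Nat.prime_two⟩
  set C := centralizer ({a} : Set K) with hC
  have haa : a * a = 1 := (hP.mem_iff a (hP.le ha)).2 ha
  have hPC : P ≤ C := fun x hx => mem_centralizer_singleton_iff.2 (hP.comm x hx a ha)
  have hTC : (T : Subgroup K) ≤ C := hTP.trans_le hPC
  set H := ((T.subtype hTC : Sylow 2 ↥C) : Subgroup ↥C) with hH
  have hHmem : ∀ x : ↥C, x ∈ H ↔ (x : K) ∈ P := fun x => by
    rw [hH, Sylow.coe_subtype, mem_subgroupOf, hTP]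
  have hnc : normalizer (H : Set ↥C) ≤ centralizer (H : Set ↥C) := by
    intro g hg
    refine mem_centralizer_iff.2 fun x hx => ?_
    have hxP := (hHmem x).1 hx
    have hgx : ∀ y : ↥C, y ∈ H → (g : K) * y * (g : K)⁻¹ ∈ P := fun y hy =>
      (hHmem _).1 ((mem_normalizer_iff.1 hg y).1 hy)
    have hga : (g : K) * a * (g : K)⁻¹ = a := by
      rw [mem_centralizer_singleton_iff.1 g.2, mul_inv_cancel_right]
    have hsq : (g : K) * ((g : K) * x * (g : K)⁻¹) * (g : K)⁻¹ = x := by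
      by_cases hx1 : (x : K) = 1
      · simp [hx1]
      by_cases hxa : (x : K) = a
      · rw [hxa, hga, hga]
      have hx' : (g : K) * x * (g : K)⁻¹ ∈ P := hgx x hx
      have key : ∀ y ∈ P, y = (1 : K) ∨ y = a ∨ y = x ∨ y = a * x := by
        intro y hy
        have h1 : a * (x : K) ≠ 1 := fun e => hxa (mul_left_cancel (e.trans haa.symm))
        have h2 : a * (x : K) ≠ a := fun e => hx1 (mul_left_cancel (e.trans (mul_one a).symm))
        have h3 : a * (x : K) ≠ x := fun e => ha1 (mul_right_cancel (e.trans (one_mul _).symm))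
        have hsub : ({1, a, (x : K), a * x} : Set K) ⊆ (P : Set K) := by
          rintro z (rfl | rfl | rfl | rfl)
          exacts [one_mem P, ha, hxP, mul_mem ha hxP]
        have h5 : ({1, a, (x : K), a * x} : Set K).ncard = 4 := by
          rw [Set.ncard_insert_of_notMem (by simp [Ne.symm ha1, Ne.symm hx1, Ne.symm h1]),
            Set.ncard_eq_three.2 ⟨a, x, a * x, fun e => hxa e.symm, Ne.symm h2, Ne.symm h3, rfl⟩]
        have := (Set.eq_of_subset_of_ncard_le hsub (by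
          rw [h5, ← Nat.card_coe_set_eq, SetLike.coe_sort_coe, h4]) (Set.toFinite _)).ge hy
        simpa [Set.mem_insert_iff, Set.mem_singleton_iff] using this
      rcases key _ hx' with e | e | e | e
      · exact absurd (conj_eq_one_iff.1 e) hx1
      · exact absurd (mul_left_cancel (mul_right_cancel (e.trans hga.symm))) hxa
      · rw [e, e]
      · rw [e, show (g : K) * (a * x) * (g : K)⁻¹ = (g : K) * a * (g : K)⁻¹ * ((g : K) * x * (g : K)⁻¹)
          by group, hga, e, ← mul_assoc, haa, one_mul]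
    have h2 : g * g ∈ centralizer ({x} : Set ↥C) := mem_centralizer_singleton_iff.2 (Subtype.ext (by
      calc (g : K) * g * x = (g : K) * ((g : K) * x * (g : K)⁻¹) * (g : K)⁻¹ * ((g : K) * g) := by group
        _ = x * ((g : K) * g) := by rw [hsq]))
    haveI : (H.subgroupOf (normalizer (H : Set ↥C))).Normal :=
      (normal_subgroupOf_iff_le_normalizer le_normalizer).2 le_rfl
    set m := (H.subgroupOf (normalizer (H : Set ↥C))).index with hm
    have hmo : Odd m := Nat.odd_iff.2 (Nat.two_dvd_ne_zero.1 fun h => (T.subtype hTC).not_dvd_index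
      (h.trans (relIndex_dvd_index_of_le le_normalizer)))
    have hgm : g ^ m ∈ H := by
      have := Subgroup.pow_index_mem (H.subgroupOf (normalizer (H : Set ↥C))) ⟨g, hg⟩
      simpa [mem_subgroupOf] using this
    have h3 : g ^ m ∈ centralizer ({x} : Set ↥C) := mem_centralizer_singleton_iff.2 (Subtype.ext (by
      show ((g ^ m : ↥C) : K) * x = x * ((g ^ m : ↥C) : K)
      exact hP.comm _ ((hHmem _).1 hgm) _ hxP))
    obtain ⟨j, hj⟩ := hmo
    rw [hj, pow_succ, pow_mul, pow_two] at h3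
    have h4' : g ∈ centralizer ({x} : Set ↥C) := by
      have := mul_mem (inv_mem (pow_mem h2 j)) h3
      simpa using this
    exact (mem_centralizer_singleton_iff.1 h4').symm
  obtain ⟨N, hN, hNc⟩ := HallComplement.burnside H (T.subtype hTC).card_coprime_index hnc
  have hNodd : Odd (Nat.card N) := by
    refine Nat.odd_iff.2 (Nat.two_dvd_ne_zero.1 ?_)
    rw [← hNc.index_eq_card]
    exact (T.subtype hTC).not_dvd_index
  have hNP : ∀ o : ↥C, o ∈ N → (o : K) ∈ centralizer (P : Set K) := by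
    intro o ho
    refine mem_centralizer_iff.2 fun b hb => ?_
    have hbb : b * b = 1 := (hP.mem_iff b (hP.le hb)).2 hb
    set bC : ↥C := ⟨b, hPC hb⟩
    set z : ↥C := o⁻¹ * (bC * o * bC⁻¹) with hz
    have hzN : z ∈ N := mul_mem (inv_mem ho) (hN.conj_mem o ho bC)
    have hzo : Odd (orderOf (z : K)) := by
      rw [orderOf_coe]
      exact hNodd.of_dvd_nat (orderOf_dvd_natCard N hzN)
    have hbi : b⁻¹ = b := inv_eq_of_mul_eq_one_right hbb
    have hzc : (z : K) = (o : K)⁻¹ * (b * o * b⁻¹) := rfl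
    have hz1 := hn a ha ha1 b hb (z : K) hzo (mem_centralizer_singleton_iff.1 z.2) (by
      rw [hzc]
      calc b * ((o : K)⁻¹ * (b * o * b⁻¹)) * b⁻¹ = b * (o : K)⁻¹ * b * o * (b⁻¹ * b⁻¹) := by group
        _ = b * (o : K)⁻¹ * b⁻¹ * o := by rw [hbi, hbb, mul_one]
        _ = ((o : K)⁻¹ * (b * o * b⁻¹))⁻¹ := by group)
    rw [hzc, inv_mul_eq_one, eq_mul_inv_iff_mul_eq] at hz1
    exact hz1.symm
  intro x hx
  have htop : (⟨x, hx⟩ : ↥C) ∈ N ⊔ H := by rw [hNc.sup_eq_top]; exact mem_top _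
  obtain ⟨o, ho, p, hp, e⟩ := Subgroup.mem_sup_of_normal_left.1 htop
  rw [show x = (o : K) * p from (congrArg Subtype.val e).symm]
  exact mul_mem (hNP o ho) (mem_centralizer_iff.2 fun b hb => hP.comm b hb _ ((hHmem p).1 hp))

/-- Without a torus there is a strongly embedded subgroup. -/
theorem se_of_noTor (hP : Facts K T P) (hsimp : IsSimpleGroup K) (hnc : ¬ IsMulCommutative K)
    (h4 : Nat.card P = 4) (hK : Walter4.Good K ∨ ∃ H : Subgroup K, Cfsg.IsStronglyEmbedded H)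
    (hn : NoTor P) : ∃ H : Subgroup K, Cfsg.IsStronglyEmbedded H := by
  refine hK.elim (fun hG => ?_) id
  haveI : Fact (Nat.Prime 2) := ⟨Nat.prime_two⟩
  have hTP : (T : Subgroup K) = P := le_antisymm (good_le hP hsimp hG) hP.le
  have hne : normalizer (P : Set K) ≠ ⊤ := fun h => by
    haveI := hsimp
    rcases (normalizer_eq_top_iff.1 h).eq_bot_or_eq_top with hb | ht
    · rw [hb, card_bot] at h4; omega
    · exact hnc ⟨⟨fun x y => hP.comm x (ht ▸ mem_top x) y (ht ▸ mem_top y)⟩⟩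
  refine ⟨_, Invol.se_of_centralizers hne (T.subtype (hTP.trans_le le_normalizer)) ?_ ?_ ?_⟩
  · rw [even_iff_two_dvd]
    exact dvd_trans (by rw [h4]; norm_num) (card_dvd_of_le (le_normalizer (H := P)))
  · rw [Sylow.coe_subtype, map_subgroupOf_eq_of_le (hTP.trans_le le_normalizer), hTP]
  · intro x hx hx2
    haveI : (P.subgroupOf (normalizer (P : Set K))).Normal :=
      (normal_subgroupOf_iff_le_normalizer le_normalizer).2 le_rfl
    have hxP : x ∈ P := by
      have hp : IsPGroup 2 ↥(zpowers (⟨x, hx⟩ : ↥(normalizer (P : Set K)))) := IsPGroup.of_card (n := 1)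
        (by rw [Nat.card_zpowers, Subgroup.orderOf_mk, hx2, pow_one])
      obtain ⟨R, hR⟩ := hp.exists_le_sylow
      obtain ⟨g, hg⟩ := MulAction.exists_smul_eq ↥(normalizer (P : Set K))
        (T.subtype (hTP.trans_le le_normalizer)) R
      have h1 := hR (mem_zpowers _)
      rw [← hg, Sylow.coe_subgroup_smul] at h1
      obtain ⟨p, hp', he⟩ := h1
      have hpP : (p : K) ∈ P := by
        have := hp'
        rwa [Sylow.coe_subtype, SetLike.mem_coe, mem_subgroupOf, hTP] at this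
      have := (mem_normalizer_iff.1 g.2 _).1 hpP
      have he' : (g : K) * p * (g : K)⁻¹ = x := congrArg Subtype.val he
      rwa [he'] at this
    exact (centralizer_le_of_noTor hP hTP h4 hn hxP fun e => by
      rw [e, orderOf_one] at hx2; omega).trans (centralizer_le_normalizer _)

/-! ### The rank-one set-up -/

/-- A strongly embedded subgroup gives a rank-one set-up with `Q = T`. -/
theorem setup_of_se [IsSimpleGroup K] {H : Subgroup K} (hH : Cfsg.IsStronglyEmbedded H)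
    (T : Sylow 2 K) : ∃ (H' : Subgroup K) (a : K ⧸ H') (t : K) (Q : Subgroup K),
      FaithfulSMul K (K ⧸ H') ∧ Cfsg.IsRankOneSetup K (K ⧸ H') a t Q ∧ (T : Subgroup K) = Q ∧
        ∃ x y : K, x ≠ 1 ∧ y ≠ 1 ∧ x ≠ y ∧ x * x = 1 ∧ y * y = 1 ∧ x * y = y * x := by
  haveI : Fact (Nat.Prime 2) := ⟨Nat.prime_two⟩
  obtain ⟨Q₀, hQ₀⟩ := SEMain.exists_reg_simple SEMain.stmt hH
  obtain ⟨S, hS0⟩ := hQ₀.exists_sylow hH
  obtain ⟨g, hg⟩ := MulAction.exists_smul_eq K S T
  set H' := MulAction.stabilizer K (g • ((1 : K) : K ⧸ H)) with hH'def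
  have hH' : Cfsg.IsStronglyEmbedded H' := SEMain.se_stab hH _
  have hTH : (T : Subgroup K) ≤ H' := by
    rw [← hg, Sylow.coe_subgroup_smul, hH'def, MulAction.stabilizer_smul_eq_stabilizer_map_conj,
      MulAction.stabilizer_quotient, hS0]
    exact Subgroup.map_mono hQ₀.le
  obtain ⟨Q, hQ⟩ := SEMain.exists_reg_simple SEMain.stmt hH'
  have hTQ : (T : Subgroup K) = Q := by
    refine (T.is_maximal' hQ.two fun x hx => ?_).symm
    obtain ⟨k, hk⟩ := T.isPGroup' ⟨x, hx⟩
    obtain ⟨i, -, hi⟩ := (Nat.dvd_prime_pow Nat.prime_two).1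
      (orderOf_dvd_of_pow_eq_one (congrArg Subtype.val hk : x ^ 2 ^ k = 1))
    exact hQ.mem_of_two hH' (hTH hx) ⟨i, hi⟩
  obtain ⟨t, hSt⟩ := RankOne.exists_setup hH' hQ.le hQ.norm hQ.trans hQ.reg
  exact ⟨H', _, t, Q, RankOne.faithful_of_simple hH'.1, hSt, hTQ, RankOne.exists_commuting_of_simple hH'⟩

section Setup

variable {Ω : Type u} [MulAction K Ω] {a₀ : Ω} {t : K} {Q : Subgroup K} [FaithfulSMul K Ω]
  (hS : Cfsg.IsRankOneSetup K Ω a₀ t Q)
  (h2 : ∃ x y : K, x ≠ 1 ∧ y ≠ 1 ∧ x ≠ y ∧ x * x = 1 ∧ y * y = 1 ∧ x * y = y * x)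
  (hP : Facts K T P) (hTQ : (T : Subgroup K) = Q)
include hS h2 hP hTQ

local notation "Z" => invSub hS h2

theorem invSub_eq : Z = P := by
  refine le_antisymm (fun x hx => ?_) fun x hx => ?_
  · exact (hP.mem_iff x (hTQ ▸ invSub_le_Q hS h2 hx)).1 (invSub_sq hS h2 hx)
  · exact (KindPf.mem_Z_iff hS h2 (hTQ ▸ hP.le hx)).1 ((hP.mem_iff x (hP.le hx)).2 hx)

theorem cent_le_stab {a : K} (ha : a ∈ P) (ha1 : a ≠ 1) {g : K} (hg : g * a = a * g) : g • a₀ = a₀ :=
  fixed_of_commute hS (z := a) ⟨ha1, (hP.mem_iff a (hP.le ha)).2 ha⟩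
    (RankOne.smul_a hS (hTQ ▸ hP.le ha)) hg.symm

theorem Q_comm {a : K} (ha : a ∈ P) {x : K} (hx : x ∈ Q) : x * a = a * x :=
  (invSub_comm hS h2 (by rw [invSub_eq hS h2 hP hTQ]; exact ha) hx).symm

/-- The stabiliser of the base point meets the centraliser of `Q` in `Q`. -/
theorem cent_Q_mem {g : K} (hga : g • a₀ = a₀) (hg : ∀ x ∈ Q, g * x = x * g) : g ∈ Q := by
  obtain ⟨q, hq, d, hd, rfl⟩ := exists_qd hS (mem_stabilizer_iff.2 hga)
  have hdq : ∀ x ∈ Q, d * x * d⁻¹ = q⁻¹ * x * q := fun x hx => by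
    calc d * x * d⁻¹ = q⁻¹ * (q * d * x) * d⁻¹ := by group
      _ = q⁻¹ * (x * (q * d)) * d⁻¹ := by rw [hg x hx]
      _ = q⁻¹ * x * q := by group
  have hm : ∀ m : ℕ, ∀ x ∈ Q, d ^ m * x * (d ^ m)⁻¹ = (q ^ m)⁻¹ * x * q ^ m := by
    intro m
    induction m with
    | zero => intro x _; simp
    | succ m ih =>
      intro x hx
      calc d ^ (m + 1) * x * (d ^ (m + 1))⁻¹ = d * (d ^ m * x * (d ^ m)⁻¹) * d⁻¹ := by
            rw [pow_succ']; group
        _ = d * ((q ^ m)⁻¹ * x * q ^ m) * d⁻¹ := by rw [ih x hx]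
        _ = q⁻¹ * ((q ^ m)⁻¹ * x * q ^ m) * q :=
            hdq _ (mul_mem (mul_mem (inv_mem (pow_mem hq m)) hx) (pow_mem hq m))
        _ = (q ^ (m + 1))⁻¹ * x * q ^ (m + 1) := by rw [pow_succ q m]; group
  obtain ⟨j, hj⟩ := T.isPGroup' ⟨q, hTQ ▸ hq⟩
  have hj' : q ^ 2 ^ j = 1 := congrArg Subtype.val hj
  have hodd := RankOne.odd_orderOf hS.odd_card hd
  have hqc : ∀ x ∈ Q, q * x = x * q := by
    intro x hx
    have h1 : q ^ orderOf d ∈ centralizer ({x} : Set K) := mem_centralizer_singleton_iff.2 (by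
      have := hm (orderOf d) x hx
      rw [pow_orderOf_eq_one, one_mul, inv_one, mul_one] at this
      conv_lhs => rw [this]
      group)
    have h3 : q ∈ centralizer ({x} : Set K) := by
      have hcop : Nat.Coprime (orderOf d) (2 ^ j) := (Nat.coprime_two_right.2 hodd).pow_right j
      have hb : orderOf d * Nat.gcdA (orderOf d) (2 ^ j) + (2 ^ j : ℕ) * Nat.gcdB (orderOf d) (2 ^ j) =
          (1 : ℤ) := by
        rw [← Nat.gcd_eq_gcd_ab, hcop]; rfl
      have : q = (q ^ orderOf d) ^ Nat.gcdA (orderOf d) (2 ^ j) := by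
        conv_lhs => rw [← zpow_one q, ← hb]
        rw [zpow_add, zpow_mul, zpow_mul, zpow_natCast, zpow_natCast, hj', one_zpow, mul_one]
      rw [this]
      exact zpow_mem h1 _
    exact mem_centralizer_singleton_iff.1 h3
  have hd1 := KindPf.eq_one_of_comm_Q hS h2 hd fun x hx => by
    have := hdq x hx
    rw [mul_assoc q⁻¹, ← hqc x hx, inv_mul_cancel_left] at this
    exact mul_inv_eq_iff_eq_mul.1 this
  rw [hd1, mul_one]
  exact hq

/-- An odd group of automorphisms fixing an involution and invariant under its centraliser is trivial. -/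
theorem balance_setup {R : Subgroup (MulAut K)} (hR : Odd (Nat.card R)) {a : K} (ha : a ∈ P) (ha1 : a ≠ 1)
    (hfix : ∀ φ ∈ R, φ a = a)
    (hinv : ∀ c : K, c * a = a * c → ∀ φ ∈ R, MulAut.conj c * φ * (MulAut.conj c)⁻¹ ∈ R) : R = ⊥ := by
  classical
  haveI : Fact (Nat.Prime 2) := ⟨Nat.prime_two⟩
  have hQ2 : IsPGroup 2 Q := hTQ ▸ T.isPGroup'
  have hQstab : ∀ g : K, g • a₀ = a₀ → ∀ x ∈ Q, g * x * g⁻¹ ∈ Q := fun g hg x hx =>
    hS.conj_mem g hg x hx
  have hdvd : ∀ φ ∈ R, Odd (orderOf φ) := fun φ hφ => hR.of_dvd_nat (orderOf_dvd_natCard R hφ)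
  -- conjugations in `R`
  have hO : ∀ x : K, x * a = a * x → MulAut.conj x ∈ R → x = 1 := by
    intro x hxa hxR
    have hxs := cent_le_stab hS h2 hP hTQ ha ha1 hxa
    have hxodd : Odd (orderOf (MulAut.conj x)) := hdvd _ hxR
    have hxQ : ∀ v ∈ Q, x * v = v * x := by
      intro v hv
      have hwQ : x * v * x⁻¹ * v⁻¹ ∈ Q := mul_mem (hQstab x hxs v hv) (inv_mem hv)
      have hwR : MulAut.conj (x * v * x⁻¹ * v⁻¹) ∈ R := by
        have e : MulAut.conj (x * v * x⁻¹ * v⁻¹) =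
            MulAut.conj x * (MulAut.conj v * (MulAut.conj x)⁻¹ * (MulAut.conj v)⁻¹) := by
          simp only [map_mul, map_inv]; group
        rw [e]
        exact mul_mem hxR (hinv v (Q_comm hS h2 hP hTQ ha hv) _ (inv_mem hxR))
      obtain ⟨j, hj⟩ := hQ2 ⟨_, hwQ⟩
      have h1 : MulAut.conj (x * v * x⁻¹ * v⁻¹) ^ 2 ^ j = 1 := by
        rw [← map_pow, show (x * v * x⁻¹ * v⁻¹) ^ 2 ^ j = 1 from congrArg Subtype.val hj, map_one]
      have h3 : MulAut.conj (x * v * x⁻¹ * v⁻¹) = 1 := by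
        rw [← orderOf_eq_one_iff]
        exact Nat.Coprime.eq_one_of_dvd ((Nat.coprime_two_right.2 (hdvd _ hwR)).pow_right j)
          (orderOf_dvd_of_pow_eq_one h1)
      have h4 : x * v * x⁻¹ * v⁻¹ = 1 := by
        refine eq_of_smul_eq_smul (α := Ω) fun p => ?_
        haveI := pretransitive hS
        obtain ⟨g, rfl⟩ := MulAction.exists_smul_eq K a₀ p
        have h5 := DFunLike.congr_fun h3 g
        rw [MulAut.conj_apply, MulAut.one_apply, mul_inv_eq_iff_eq_mul] at h5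
        rw [one_smul, ← mul_smul, h5, mul_smul, RankOne.smul_a hS hwQ]
      rw [mul_inv_eq_one, mul_inv_eq_iff_eq_mul] at h4
      exact h4
    have hxmem := cent_Q_mem hS h2 hP hTQ hxs hxQ
    obtain ⟨j, hj⟩ := hQ2 ⟨x, hxmem⟩
    have h1 : MulAut.conj x ^ 2 ^ j = 1 := by
      rw [← map_pow, show x ^ 2 ^ j = 1 from congrArg Subtype.val hj, map_one]
    have h3 : MulAut.conj x = 1 := by
      rw [← orderOf_eq_one_iff]
      exact Nat.Coprime.eq_one_of_dvd ((Nat.coprime_two_right.2 hxodd).pow_right j)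
        (orderOf_dvd_of_pow_eq_one h1)
    refine eq_of_smul_eq_smul (α := Ω) fun p => ?_
    haveI := pretransitive hS
    obtain ⟨g, rfl⟩ := MulAction.exists_smul_eq K a₀ p
    have h5 := DFunLike.congr_fun h3 g
    rw [MulAut.conj_apply, MulAut.one_apply, mul_inv_eq_iff_eq_mul] at h5
    rw [one_smul, ← mul_smul, h5, mul_smul, hxs]
  rw [eq_bot_iff_forall]
  intro φ hφ
  have hfc : ∀ c : K, c * a = a * c → φ c = c := by
    intro c hc
    have hcφ : φ c * a = a * φ c := by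
      have := congrArg φ hc
      rwa [map_mul, map_mul, hfix φ hφ] at this
    have h1 : MulAut.conj (c * (φ c)⁻¹) ∈ R := by
      have e : MulAut.conj (c * (φ c)⁻¹) = MulAut.conj c * φ * (MulAut.conj c)⁻¹ * φ⁻¹ := by
        refine MulEquiv.ext fun g => ?_
        simp only [MulAut.mul_apply, MulAut.conj_apply, MulAut.conj_inv_apply, map_mul, map_inv,
          MulAut.apply_inv_self]
      rw [e]
      exact mul_mem (hinv c hc φ hφ) (inv_mem hφ)
    have h2' : c * (φ c)⁻¹ * a = a * (c * (φ c)⁻¹) :=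
      (Commute.mul_left (show Commute c a from hc) (Commute.inv_left hcφ)).eq
    exact (mul_inv_eq_one.1 (hO _ h2' h1)).symm
  have hφQ : ∀ v ∈ Q, φ v = v := fun v hv => hfc v (Q_comm hS h2 hP hTQ ha hv)
  have hodd := hdvd φ hφ
  have hstab : ∀ g : K, g • a₀ = a₀ → φ g = g := by
    intro g hg
    set δ := g⁻¹ * φ g with hδ
    have hδc : ∀ v ∈ Q, δ * v = v * δ := by
      intro v hv
      have h1 := hφQ _ (hQstab g hg v hv)
      rw [map_mul, map_mul, map_inv, hφQ v hv, mul_inv_eq_iff_eq_mul] at h1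
      calc δ * v = g⁻¹ * (φ g * v) := by rw [hδ]; group
        _ = g⁻¹ * (g * v * g⁻¹ * φ g) := by rw [h1]
        _ = v * δ := by rw [hδ]; group
    have hδQ : δ ∈ Q := cent_Q_mem hS h2 hP hTQ
      (cent_le_stab hS h2 hP hTQ ha ha1 (hδc a (hTQ ▸ hP.le ha))) hδc
    have hiter : ∀ n : ℕ, (φ ^ n) g = g * δ ^ n := by
      intro n
      induction n with
      | zero => simp
      | succ n ih =>
        rw [pow_succ', MulAut.mul_apply, ih, map_mul, map_pow, hφQ δ hδQ, pow_succ', ← mul_assoc g δ,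
          hδ, mul_inv_cancel_left]
    have h1 := hiter (orderOf φ)
    rw [pow_orderOf_eq_one, MulAut.one_apply, left_eq_mul] at h1
    obtain ⟨j, hj⟩ := hQ2 ⟨δ, hδQ⟩
    have h3 : δ = 1 := by
      rw [← orderOf_eq_one_iff]
      exact Nat.Coprime.eq_one_of_dvd (((Nat.coprime_two_right.2 hodd).pow_right j).coprime_dvd_left
        (orderOf_dvd_of_pow_eq_one h1))
        (orderOf_dvd_of_pow_eq_one (congrArg Subtype.val hj))
    rw [hδ, inv_mul_eq_one] at h3
    exact h3.symm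
  -- an inverted element fixes exactly two points
  obtain ⟨b, hb, hb1, hba⟩ : ∃ b ∈ P, b ≠ 1 ∧ b ≠ a := by
    by_contra hno
    push Not at hno
    have hsub : (P : Set K) ⊆ {1, a} := fun w hw => by
      by_cases hw1 : w = 1
      · exact Or.inl hw1
      · exact Or.inr (hno w hw hw1)
    have h1 := (Set.ncard_le_ncard hsub).trans (Set.ncard_insert_le _ _)
    rw [Set.ncard_singleton, ← Nat.card_coe_set_eq, SetLike.coe_sort_coe] at h1
    have := hP.four
    omega
  have hinI : ∀ x ∈ P, x ≠ 1 → x ∈ Cfsg.involutionsIn (stabilizer K a₀ : Set K) := fun x hx hx1 =>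
    ⟨mem_stabilizer_iff.2 (RankOne.smul_a hS (hTQ ▸ hP.le hx)), hx1, (hP.mem_iff x (hP.le hx)).2 hx⟩
  obtain ⟨k, hk, hkab⟩ := inverted_transitive hS (hinI a ha ha1) (hinI b hb hb1)
  have hk1 : k ≠ 1 := fun e => hba (by rw [← hkab, e]; simp)
  obtain ⟨hka, hkb⟩ := mem_twoStab hS hk.1
  have hφt : φ t • a₀ = t • a₀ := by
    have hne : φ t • a₀ ≠ a₀ := fun e => by
      have h1 := hstab _ e
      have h2' : φ t = t := φ.injective h1
      rw [h2'] at e
      exact ta_ne hS e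
    have hkφ : φ k = k := hstab k hka
    have hconj : φ t * k * (φ t)⁻¹ = k⁻¹ := by
      have := congrArg φ hk.2
      rwa [map_mul, map_mul, map_inv, map_inv, hkφ] at this
    have hfixp : k • (φ t • a₀) = φ t • a₀ := by
      have e : k * φ t = φ t * k⁻¹ := by
        have h1 := congrArg (fun z => z⁻¹) hconj
        simp only [mul_inv_rev, inv_inv] at h1
        calc k * φ t = φ t * (k⁻¹ * (φ t)⁻¹) * φ t := by rw [h1]
          _ = φ t * k⁻¹ := by group
      rw [← mul_smul, e, mul_smul, inv_smul_eq_iff.2 hka.symm]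
    obtain ⟨v, hv, hve⟩ := exists_q_smul hS hne
    have hkv : k * v = v * k := by
      have hkvQ : k * v * k⁻¹ ∈ Q := hQstab k hka v hv
      have h1 : (v⁻¹ * (k * v * k⁻¹)) • (t • a₀) = t • a₀ := by
        rw [mul_smul, mul_smul, mul_smul, inv_smul_eq_iff.2 hkb.symm, hve, hfixp, inv_smul_eq_iff, hve]
      have h2' : v⁻¹ * (k * v * k⁻¹) ∈ Q ⊓ stabilizer K (t • a₀) :=
        Subgroup.mem_inf.2 ⟨mul_mem (inv_mem hv) hkvQ, mem_stabilizer_iff.2 h1⟩
      rw [hS.inf_eq_bot, Subgroup.mem_bot, inv_mul_eq_one] at h2'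
      exact (mul_inv_eq_iff_eq_mul.1 h2'.symm)
    have : v ∈ Q ⊓ Subgroup.centralizer {k} :=
      Subgroup.mem_inf.2 ⟨hv, Subgroup.mem_centralizer_singleton_iff.2 hkv.symm⟩
    rw [inverted_fpf hS hk hk1, Subgroup.mem_bot] at this
    rw [← hve, this, one_smul]
  haveI := pretransitive hS
  have hpt : ∀ g : K, φ g • a₀ = g • a₀ := by
    intro g
    by_cases hg : g • a₀ = a₀
    · rw [hstab g hg]
    obtain ⟨v, hv, hvg⟩ := exists_q_smul hS hg
    have h1 : ((v * t)⁻¹ * g) • a₀ = a₀ := by rw [mul_smul, inv_smul_eq_iff, mul_smul, hvg]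
    calc φ g • a₀ = φ (v * t * ((v * t)⁻¹ * g)) • a₀ := by rw [mul_inv_cancel_left]
      _ = g • a₀ := by
        rw [map_mul, map_mul, hstab _ (RankOne.smul_a hS hv), hstab _ h1, mul_smul, mul_smul, h1, hφt, hvg]
  refine MulEquiv.ext fun g => eq_of_smul_eq_smul (α := Ω) fun p => ?_
  obtain ⟨h, rfl⟩ := MulAction.exists_smul_eq K a₀ p
  rw [MulAut.one_apply, ← mul_smul g h, ← hpt (g * h), map_mul, mul_smul, hpt h]

/-- A torus excludes a strongly embedded subgroup. -/
theorem eq_one_setup {a b y : K} (ha : a ∈ P) (ha1 : a ≠ 1) (hb : b ∈ P) (hy : Odd (orderOf y))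
    (hya : y * a = a * y) (hby : b * y * b⁻¹ = y⁻¹) : y = 1 := by
  have hys := cent_le_stab hS h2 hP hTQ ha ha1 hya
  have hbQ : b ∈ Q := hTQ ▸ hP.le hb
  have hyb : y * b⁻¹ * y⁻¹ ∈ P := by
    have hQ' : y * b⁻¹ * y⁻¹ ∈ Q := hS.conj_mem y hys _ (inv_mem hbQ)
    refine (hP.mem_iff _ (hTQ.symm ▸ hQ')).1 ?_
    rw [conj_mul, ← mul_inv_rev, (hP.mem_iff b (hP.le hb)).2 hb, inv_one, mul_one, mul_inv_cancel]
  have hmem : y⁻¹ * y⁻¹ ∈ P := by
    have e : y⁻¹ * y⁻¹ = b * (y * b⁻¹ * y⁻¹) := by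
      calc y⁻¹ * y⁻¹ = b * y * b⁻¹ * y⁻¹ := by rw [hby]
        _ = _ := by group
    rw [e]
    exact mul_mem hb hyb
  have h1 := (hP.mem_iff _ (hP.le hmem)).2 hmem
  have h3 : orderOf y ∣ 2 ^ 2 := by
    refine orderOf_dvd_of_pow_eq_one ?_
    calc y ^ 2 ^ 2 = (y⁻¹ * y⁻¹ * (y⁻¹ * y⁻¹))⁻¹ := by group
      _ = 1 := by rw [h1, inv_one]
  rw [← orderOf_eq_one_iff]
  exact Nat.Coprime.eq_one_of_dvd ((Nat.coprime_two_right.2 hy).pow_right _) h3

end Setup

variable (hP : Facts K T P) (hsimp : IsSimpleGroup K) (hnc : ¬ IsMulCommutative K) (h4 : Nat.card P = 4)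
  (hK : Walter4.Good K ∨ ∃ H : Subgroup K, Cfsg.IsStronglyEmbedded H)
include hP hsimp hnc h4 hK

/-- Without a torus the group is balanced. -/
theorem balanced (hn : NoTor P) {R : Subgroup (MulAut K)} (hR : Odd (Nat.card R)) {a : K} (ha : a ∈ P)
    (ha1 : a ≠ 1) (hfix : ∀ φ ∈ R, φ a = a)
    (hinv : ∀ c : K, c * a = a * c → ∀ φ ∈ R, MulAut.conj c * φ * (MulAut.conj c)⁻¹ ∈ R) : R = ⊥ := by
  haveI := hsimp
  obtain ⟨H, hH⟩ := se_of_noTor hP hsimp hnc h4 hK hn
  obtain ⟨H', a₀, t, Q, hF, hS, hTQ, h2⟩ := setup_of_se hH T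
  exact balance_setup hS h2 hP hTQ hR ha ha1 hfix hinv

/-- With a torus the ℓ-subgroups are cyclic, `ℓ` an odd prime dividing the order of the centraliser of an
involution. -/
theorem cyclic_of_torus {a b y : K} (ha : a ∈ P) (ha1 : a ≠ 1) (hb : b ∈ P) (hy : Odd (orderOf y))
    (hy1 : y ≠ 1) (hya : y * a = a * y) (hby : b * y * b⁻¹ = y⁻¹) {ℓ : ℕ} [hℓ : Fact ℓ.Prime] (hℓ2 : ℓ ≠ 2)
    {x z : K} (hx : x * x = 1) (hx1 : x ≠ 1) (hz : orderOf z = ℓ) (hzx : z * x = x * z)
    (R : Subgroup K) (hR : IsPGroup ℓ R) : IsCyclic R := by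
  haveI := hsimp
  have hnoSE : ¬ ∃ H : Subgroup K, Cfsg.IsStronglyEmbedded H := by
    rintro ⟨H, hH⟩
    obtain ⟨H', a₀, t, Q, hF, hS, hTQ, h2⟩ := setup_of_se hH T
    exact hy1 (eq_one_setup hS h2 hP hTQ ha ha1 hb hy hya hby)
  have hG := hK.resolve_right hnoSE
  have hTP : (T : Subgroup K) = P := le_antisymm (good_le hP hsimp hG) hP.le
  rcases hG with ⟨F, _, _, hq, ⟨f⟩⟩ | ⟨-, S, hE, -, -⟩
  swap
  · have h1 : Nat.card (S : Subgroup K) = Nat.card (T : Subgroup K) :=
      S.card_eq_multiplicity.trans T.card_eq_multiplicity.symm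
    rw [hE.card, hTP, h4] at h1
    omega
  rcases hq with ⟨h8, h5⟩ | ⟨n, hn, hq⟩
  swap
  · refine absurd (eq_one_of_sq_odd' ?_ hy) hy1
    exact KindPf.sq_of_commute_psl_even hn hq f ((hP.mem_iff a (hP.le ha)).2 ha) ha1 hya
  have hodd : Odd (Fintype.card F) := by rw [Nat.odd_iff]; omega
  obtain ⟨p, hp⟩ := CharP.exists F
  haveI := hp
  haveI : Fact p.Prime := ⟨CharP.char_is_prime F p⟩
  obtain ⟨n, -, hqp⟩ := FiniteField.card F p
  have hℓp : ℓ ≠ p := by
    rintro rfl
    have hdvdq : ℓ ∣ Fintype.card F := by rw [hqp]; exact dvd_pow_self _ n.ne_zero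
    have hdvdC : ℓ ∣ Nat.card (Subgroup.centralizer ({f x} : Set (Matrix.ProjectiveSpecialLinearGroup
        (Fin 2) F))) := by
      have h1 : orderOf (f z) = ℓ := by rw [MulEquiv.orderOf_eq, hz]
      rw [← h1]
      exact orderOf_dvd_natCard _ (Subgroup.mem_centralizer_singleton_iff.2 (by
        rw [← map_mul, ← map_mul, hzx]))
    have h2 := hℓ.out.two_le
    have hne : ℓ ∣ 1 := by
      rcases (SubThree.card_cent_invol hodd (show f x * f x = 1 by rw [← map_mul, hx, map_one])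
        (fun e => hx1 (f.injective (e.trans (map_one f).symm)))).2 with h | h
      · exact (Nat.dvd_add_right hdvdC).1 (h ▸ hdvdq)
      · exact (Nat.dvd_add_right hdvdq).1 (h ▸ hdvdC)
    exact hℓ.out.not_dvd_one hne
  set pr := QuotientGroup.mk' (Subgroup.center (Matrix.SpecialLinearGroup (Fin 2) F)) with hpr
  set R' : Subgroup (Matrix.ProjectiveSpecialLinearGroup (Fin 2) F) := R.map f.toMonoidHom with hR'
  set M := R'.comap pr with hM
  let π : ↥M →* ↥R' := pr.subgroupComap R'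
  have hπ : Function.Surjective π := fun r => by
    obtain ⟨g, hg⟩ := QuotientGroup.mk'_surjective _ (r : Matrix.ProjectiveSpecialLinearGroup (Fin 2) F)
    exact ⟨⟨g, show pr g ∈ R' by rw [hpr, hg]; exact r.2⟩, Subtype.ext hg⟩
  obtain ⟨Q⟩ : Nonempty (Sylow ℓ ↥M) := inferInstance
  have hQc : IsCyclic ↥((Q : Subgroup ↥M).map M.subtype) :=
    SL2Sylow.sylow_odd_cyclic p ℓ hℓ2 hℓp _ (Q.isPGroup'.map _)
  haveI : IsCyclic ↥(Q : Subgroup ↥M) := isCyclic_of_injective
    (((Q : Subgroup ↥M).equivMapOfInjective M.subtype M.subtype_injective).toMonoidHom)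
    (MulEquiv.injective _)
  have hR'p : IsPGroup ℓ ↥R' := hR.map _
  have htop : (Q : Subgroup ↥M).map π = ⊤ := by
    have := (Q.mapSurjective hπ).3 (hR'p.to_subgroup ⊤) le_top
    simpa using this.symm
  haveI : IsCyclic ↥R' := by
    refine isCyclic_of_surjective (π.comp (Q : Subgroup ↥M).subtype) fun r => ?_
    obtain ⟨g, hg, he⟩ : r ∈ (Q : Subgroup ↥M).map π := htop ▸ Subgroup.mem_top r
    exact ⟨⟨g, hg⟩, he⟩
  exact isCyclic_of_injective (R.equivMapOfInjective f.toMonoidHom f.injective).toMonoidHom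
    (MulEquiv.injective _)
where
  eq_one_of_sq_odd' {y : K} (h : y * y = 1) (ho : Odd (orderOf y)) : y = 1 := by
    rw [← orderOf_eq_one_iff]
    exact Nat.Coprime.eq_one_of_dvd (Nat.coprime_two_right.2 ho) (orderOf_dvd_of_pow_eq_one (by rw [pow_two]; exact h))

end Cfsg.Agent.Gold1169.Two
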