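import Cfsg.Agent.Lib.Gold1169.CombKind
import Cfsg.Agent.Lib.Gold1169.Three.Kind
import Cfsg.Agent.Lib.Gold1169.Two.Basic
import Cfsg.Agent.Lib.Gold1169.Two.Kind

/-!
A moved component at a 2-subgroup `B` centralising `A` and its simple quotient `K`: centralisers of elements
of `A` lift, tori correspond, and without a torus the component is balanced.
-/

set_option autoImplicit false
set_option linter.style.haveILetI false
set_option linter.unusedSectionVars false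

namespace Cfsg.Agent.Gold1169.Two

open Subgroup
open Cfsg.Agent.Walter4 (cen cenS ocen cor XB pre CA mem_pre cor_zpowers pre_le)
open Cfsg.Agent.OddDown.CoreSep (q im mem_im)
open scoped commutatorElement

universe u

attribute [local instance] FittingCores.pPrimeCore_normal

variable {G : Type u} [Group G]

/-- The component, seen in the simple group `K`. -/
structure KMap (A B : Subgroup G) (L : Subgroup (XB B)) {K : Type u} [Group K] [Finite K]
    (ρ : ↥(pre B L) →* K) (T : Sylow 2 K) (P : Subgroup K) : Prop where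
  surj : Function.Surjective ρ
  facts : Facts K T P
  map : (A.subgroupOf (pre B L)).map ρ = P
  card : Nat.card P = 4
  simple : IsSimpleGroup K
  nonab : ¬ IsMulCommutative K
  kind : Walter4.Good K ∨ ∃ H : Subgroup K, Cfsg.IsStronglyEmbedded H
  sylow : ∃ That : Sylow 2 ↥(pre B L), (T : Subgroup K) = (That : Subgroup ↥(pre B L)).map ρ ∧
    A.subgroupOf (pre B L) ≤ (That : Subgroup ↥(pre B L)) ∧
    ∀ x ∈ (That : Subgroup ↥(pre B L)), (x : G) ∈ centralizer (A : Set G)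
  ker : ∀ x : ↥(pre B L), ρ x = 1 ↔ (x : G) ∈ pre B (centralizer (L : Set (XB B)))

/-- An element of `C(B)` normalising the component normalises its preimages. -/
theorem normalizes_pre {B : Subgroup G} {L : Subgroup (XB B)} {x : G} (hx : x ∈ cenS B)
    (hn : q (cenS B) ⟨x, hx⟩ ∈ normalizer (L : Set (XB B))) {y : G} (hy : y ∈ pre B L) :
    x * y * x⁻¹ ∈ pre B L := by
  obtain ⟨hyC, hy'⟩ := mem_pre.1 hy
  refine mem_pre.2 ⟨mul_mem (mul_mem hx hyC) (inv_mem hx), ?_⟩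
  show q (cenS B) (⟨x, hx⟩ * ⟨y, hyC⟩ * ⟨x, hx⟩⁻¹) ∈ L
  rw [map_mul, map_mul, map_inv]
  exact (mem_normalizer_iff.1 hn _).1 hy'

variable [Finite G]

theorem normalizes_pre_centralizer {B : Subgroup G} {L : Subgroup (XB B)} {x : G} (hx : x ∈ cenS B)
    (hn : q (cenS B) ⟨x, hx⟩ ∈ normalizer (L : Set (XB B))) {y : G}
    (hy : y ∈ pre B (centralizer (L : Set (XB B)))) :
    x * y * x⁻¹ ∈ pre B (centralizer (L : Set (XB B))) :=
  normalizes_pre hx (LELarge.normalizer_le_normalizer_centralizer L hn) hy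

/-- An element acting trivially on a component modulo its centraliser centralises it. -/
theorem mem_centralizer_of_mod {X : Type u} [Group X] [Finite X] {L : Subgroup X}
    (hL : Cfsg.IsComponent L) {x : X} (hn : x ∈ normalizer (L : Set X))
    (h : ∀ l ∈ L, x * l * x⁻¹ * l⁻¹ ∈ centralizer (L : Set X)) : x ∈ centralizer (L : Set X) := by
  refine le_centralizer_iff.1 (?_ : L ≤ centralizer ((zpowers x : Subgroup X) : Set X)) (mem_zpowers x)
  rw [← Components.component_commutator_eq hL, commutator_le]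
  intro l hl m hm
  rw [zpowers_eq_closure, centralizer_closure, mem_centralizer_singleton_iff, eq_comm,
    ← mul_inv_eq_iff_eq_mul]
  have key : ∀ a ∈ L, ∀ c ∈ L, x * a * x⁻¹ * a⁻¹ * c = c * (x * a * x⁻¹ * a⁻¹) := fun a ha c hc =>
    (mem_centralizer_iff.1 (h a ha) c hc).symm
  set z := x * l * x⁻¹ * l⁻¹ with hz
  set w := x * m * x⁻¹ * m⁻¹ with hw
  have hzm : z ∈ L := mul_mem ((mem_normalizer_iff.1 hn l).1 hl) (inv_mem hl)
  have hwm : w ∈ L := mul_mem ((mem_normalizer_iff.1 hn m).1 hm) (inv_mem hm)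
  have e1 : x * ⁅l, m⁆ * x⁻¹ = ⁅z * l, w * m⁆ := by
    rw [hz, hw, commutatorElement_def, commutatorElement_def]; group
  rw [e1, commutatorElement_def, commutatorElement_def]
  have c1 : Commute z l := key l hl l hl
  have c2 : Commute z m := key l hl m hm
  have c3 : Commute w l := key m hm l hl
  have c4 : Commute z w := key l hl w hwm
  have c5 : Commute w m := key m hm m hm
  calc z * l * (w * m) * (z * l)⁻¹ * (w * m)⁻¹ = z * (l * w) * (m * l⁻¹) * z⁻¹ * (m⁻¹ * w⁻¹) := by group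
    _ = z * (w * l) * (m * l⁻¹) * z⁻¹ * (m⁻¹ * w⁻¹) := by rw [c3.eq]
    _ = z * w * (l * m * l⁻¹) * z⁻¹ * m⁻¹ * w⁻¹ := by group
    _ = z * w * (z⁻¹ * (l * m * l⁻¹)) * m⁻¹ * w⁻¹ := by
        rw [(((c1.mul_right c2).mul_right c1.inv_right).inv_left).eq]; group
    _ = w * (l * m * l⁻¹ * m⁻¹) * w⁻¹ := by
        rw [c4.eq]; group
    _ = _ := by
        rw [(((c3.mul_right c5).mul_right c3.inv_right).mul_right c5.inv_right).eq]; group

variable {S : Sylow 2 G} {A : Subgroup G}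

theorem cenS_lt (hs : Setup S A) {B : Subgroup G} (hB : Loc A B) :
    Nat.card (cenS B) < Nat.card G := by
  refine lt_of_le_of_ne (Nat.le_of_dvd Nat.card_pos (card_subgroup_dvd_card _)) fun h => ?_
  have htop : cenS B = ⊤ := Subgroup.eq_top_of_card_eq _ h
  obtain ⟨b, hb, hb1⟩ := B.bot_or_exists_ne_one.resolve_left hB.2.1
  exact hs.cen_ne_top hb1 (eq_top_iff.2 fun g _ => mem_centralizer_singleton_iff.2
    (mem_centralizer_iff.1 (htop ▸ mem_top g : g ∈ cenS B) b hb).symm)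

variable (h : Ctx S A) {B : Subgroup G} (hB : Loc A B) {L : Subgroup (XB B)} (hL : Moved A B L)
include h hB hL

/-- The projection to the simple quotient of the component. -/
theorem exists_kmap : ∃ (K : Type u) (_ : Group K) (_ : Finite K) (ρ : ↥(pre B L) →* K)
    (T : Sylow 2 K) (P : Subgroup K), KMap A B L ρ T P := by
  haveI : Fact (Nat.Prime 2) := ⟨Nat.prime_two⟩
  have hLle : pre B L ≤ cenS B := pre_le
  obtain ⟨hAL, hCA⟩ := h.torus_eq hB hL
  let σ : ↥(pre B L) →* ↥L :=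
    { toFun := fun x => ⟨q (cenS B) ⟨x, hLle x.2⟩, (mem_pre.1 x.2).2⟩
      map_one' := Subtype.ext (map_one (q (cenS B)))
      map_mul' := fun a b => Subtype.ext (map_mul (q (cenS B)) ⟨a, hLle a.2⟩ ⟨b, hLle b.2⟩) }
  let ρ : ↥(pre B L) →* ↥L ⧸ center ↥L := (QuotientGroup.mk' (center ↥L)).comp σ
  have hρ : Function.Surjective ρ := by
    refine (QuotientGroup.mk'_surjective _).comp fun l => ?_
    obtain ⟨x, hx⟩ := QuotientGroup.mk'_surjective _ (l : XB B)
    exact ⟨⟨x, mem_pre.2 ⟨x.2, hx.symm ▸ l.2⟩⟩, Subtype.ext hx⟩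
  have hker : ∀ x : ↥(pre B L), ρ x = 1 ↔ (x : G) ∈ pre B (centralizer (L : Set (XB B))) := fun x => by
    refine Iff.trans (QuotientGroup.eq_one_iff _) ?_
    rw [mem_center_iff, mem_pre]
    exact ⟨fun h => ⟨hLle x.2, mem_centralizer_iff.2 fun l hl => congrArg Subtype.val (h ⟨l, hl⟩)⟩,
      fun ⟨_, h⟩ l => Subtype.ext (mem_centralizer_iff.1 h l l.2)⟩
  set H0 := normalizer (pre B L : Set G) ⊓ cenS B with hH0
  have hAC : A ≤ cenS B := hB.le_cen
  have hLH : pre B L ≤ H0 := le_inf le_normalizer hLle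
  have hAH : A ≤ H0 := hAL.trans hLH
  haveI : ((pre B L).subgroupOf H0).Normal := (normal_subgroupOf_iff_le_normalizer hLH).2 inf_le_left
  obtain ⟨R, hR⟩ := ((h.set.isPGroup).comap_of_injective H0.subtype H0.subtype_injective :
    IsPGroup 2 (A.subgroupOf H0)).exists_le_sylow
  set R' := (R : Subgroup H0).map H0.subtype with hR'
  have hR'p : IsPGroup 2 R' := R.isPGroup'.map _
  have hAR : A ≤ R' := fun a ha => ⟨⟨a, hAH ha⟩, hR ha, rfl⟩
  have hidx : ¬ 2 ∣ (R'.subgroupOf (pre B L)).index := by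
    have h1 := PTerm.sylow_inf_subnormal R.not_dvd_index
      (Subgroup.Normal.isSubnormal (inferInstance : ((pre B L).subgroupOf H0).Normal))
    rwa [← relIndex_map_map_of_injective _ _ H0.subtype_injective, subgroupOf_map_subtype,
      inf_eq_left.2 hLH] at h1
  let That : Sylow 2 ↥(pre B L) := IsPGroup.toSylow
    (hR'p.comap_of_injective (pre B L).subtype (pre B L).subtype_injective :
      IsPGroup 2 (R'.subgroupOf (pre B L))) hidx
  have hThat : ∀ x : ↥(pre B L), x ∈ (That : Subgroup ↥(pre B L)) → (x : G) ∈ R' := fun x hx => hx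
  have hAT : A.subgroupOf (pre B L) ≤ (That : Subgroup ↥(pre B L)) := fun x hx => hAR hx
  let T : Sylow 2 (↥L ⧸ center ↥L) := That.mapSurjective hρ
  set I := (A.subgroupOf (pre B L)).map ρ with hI
  have hIT : I ≤ (T : Subgroup (↥L ⧸ center ↥L)) := map_mono hAT
  have hclosed : ∀ x ∈ I, ∀ k : ↥L ⧸ center ↥L, k * x * k⁻¹ ∈ (T : Subgroup _) → k * x * k⁻¹ ∈ I := by
    rintro _ ⟨x, hxA, rfl⟩ k hk
    obtain ⟨g, rfl⟩ := hρ k
    rw [← map_inv, ← map_mul, ← map_mul] at hk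
    obtain ⟨z, hz, hzy⟩ := CombAux.conj_into ρ That (R := zpowers (g * x * g⁻¹)) (by
      have hxp : IsPGroup 2 (zpowers x) :=
        (h.set.isPGroup.comap_of_injective (pre B L).subtype
          (pre B L).subtype_injective).to_le (zpowers_le.2 hxA)
      have := hxp.map (MulAut.conj g).toMonoidHom
      rwa [MonoidHom.map_zpowers] at this)
      (zpowers_le.2 hk)
    have h1 := hzy _ (mem_zpowers _)
    have h2 : ((z * (g * x * g⁻¹) * z⁻¹ : ↥(pre B L)) : G) ∈ A := by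
      have h3 := CombAux.closed_in h.set hR'p hAR (x := (x : G)) hxA ((z * g : ↥(pre B L)) : G) (by
        have := hThat _ h1
        simpa [mul_assoc] using this)
      simpa [mul_assoc] using h3
    refine ⟨z * (g * x * g⁻¹) * z⁻¹, h2, ?_⟩
    rw [map_mul, map_mul, map_inv, MonoidHom.mem_ker.1 hz, one_mul, inv_one, mul_one, map_mul, map_mul,
      map_inv]
  have hinj : Function.Injective (fun a : A => ρ ⟨a, hAL a.2⟩) := by
    intro a b hab
    have h1 : ρ ((⟨a, hAL a.2⟩ : ↥(pre B L))⁻¹ * ⟨b, hAL b.2⟩) = 1 := by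
      rw [map_mul, map_inv, inv_mul_eq_one]; exact hab
    have h2 : (a : G)⁻¹ * b ∈ CA A B L := ⟨A.mul_mem (A.inv_mem a.2) b.2, (hker _).1 h1⟩
    rw [hCA, mem_bot, inv_mul_eq_one] at h2
    exact Subtype.ext h2
  have hIcard : Nat.card I = 4 := by
    rw [← h.card]
    refine (Nat.card_eq_of_bijective
      (fun a : A => (⟨ρ ⟨a, hAL a.2⟩, mem_map_of_mem ρ (show _ ∈ A.subgroupOf _ from a.2)⟩ : I))
      ⟨fun a b hab => hinj (congrArg Subtype.val hab), ?_⟩).symm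
    rintro ⟨_, x, hx, rfl⟩
    exact ⟨⟨x, hx⟩, rfl⟩
  have hIne : I ≠ ⊥ := fun he => by rw [he, card_bot] at hIcard; omega
  have hIea : Cfsg.IsElementaryAbelian 2 I := by
    refine ⟨⟨⟨?_⟩⟩, ?_⟩
    · rintro ⟨_, x, hx, rfl⟩ ⟨_, y, hy', rfl⟩
      refine Subtype.ext ?_
      show ρ x * ρ y = ρ y * ρ x
      rw [← map_mul, ← map_mul]
      exact congrArg ρ (Subtype.ext (h.comm hx hy'))
    · rintro _ ⟨x, hx, rfl⟩
      rw [← map_pow, show x ^ 2 = 1 from Subtype.ext (h.set.ea.2 _ hx), map_one]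
  have hsimp : IsSimpleGroup (↥L ⧸ center ↥L) := hL.1.2.2
  have hnab : ¬ IsMulCommutative (↥L ⧸ center ↥L) := fun hc => by
    haveI := hsimp
    haveI : Group.IsPerfect ↥L := hL.1.2.1
    haveI : Group.IsPerfect (↥L ⧸ center ↥L) :=
      Group.IsPerfect.ofSurjective (QuotientGroup.mk'_surjective (center ↥L))
    have h1 : _root_.commutator (↥L ⧸ center ↥L) = ⊥ := by
      rw [commutator_eq_closure, closure_eq_bot_iff]
      rintro _ ⟨a, b, rfl⟩
      exact commutatorElement_eq_one_iff_mul_comm.2 (mul_comm' a b)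
    exact bot_ne_top (h1.symm.trans (Group.IsPerfect.commutator_eq_top))
  have hlt : Nat.card (↥L ⧸ center ↥L) < Nat.card G :=
    lt_of_le_of_lt ((Nat.le_of_dvd Nat.card_pos (card_quotient_dvd_card _)).trans
      ((Nat.le_of_dvd Nat.card_pos (card_subgroup_dvd_card _)).trans
        (Nat.le_of_dvd Nat.card_pos (card_quotient_dvd_card _)))) (cenS_lt h.set hB)
  have hkind := h.set.ind _ hlt hsimp hnab T I hIne hIea ⟨hIT, hclosed⟩
  obtain ⟨P, hP⟩ := h.set.kind _ hsimp hnab hkind T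
  have hIP : I = P := by
    refine le_antisymm (fun x hx => (hP.mem_iff x (hIT hx)).1 ?_) fun y hy' => ?_
    · rw [← pow_two]; exact hIea.2 x hx
    by_cases hy1 : y = 1
    · subst hy1; exact one_mem _
    obtain ⟨x, hx, hx1⟩ := I.bot_or_exists_ne_one.resolve_left hIne
    obtain ⟨d, -, -, htr, -, -⟩ := hP.reg
    have hxP : x ∈ P := (hP.mem_iff x (hIT hx)).1 (by rw [← pow_two]; exact hIea.2 x hx)
    obtain ⟨i, hi⟩ := htr x hxP hx1 y hy' hy1
    have := hclosed x hx (d ^ i) (by rw [hi]; exact hP.le hy')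
    rwa [hi] at this
  exact ⟨↥L ⧸ center ↥L, inferInstance, inferInstance, ρ, T, P, hρ, hP, hIP,
    hIP ▸ hIcard, hsimp, hnab, hkind, ⟨That, rfl, hAT,
      fun x hx => h.le_centralizer_two hR'p hAR (hThat x hx)⟩, hker⟩

variable {K : Type u} [Group K] [Finite K] {ρ : ↥(pre B L) →* K} {T : Sylow 2 K} {P : Subgroup K}

/-- The centraliser in `K` of an element of `A` lifts. -/
theorem KMap.lift_cent (hk : KMap A B L ρ T P) {a : G} (ha : a ∈ A) {k : K}
    (hka : k * ρ ⟨a, (h.torus_eq hB hL).1 ha⟩ = ρ ⟨a, (h.torus_eq hB hL).1 ha⟩ * k) :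
    ∃ x : ↥(pre B L), (x : G) * a = a * x ∧ ρ x = k := by
  haveI : Fact (Nat.Prime 2) := ⟨Nat.prime_two⟩
  obtain ⟨hAL, -⟩ := h.torus_eq hB hL
  obtain ⟨That, hT, hAT, hTA⟩ := hk.sylow
  have haC : a ∈ cenS B := pre_le (hAL ha)
  set al : ↥(pre B L) := ⟨a, hAL ha⟩ with hal
  set C : Subgroup ↥(pre B L) := (centralizer ({ρ al} : Set K)).comap ρ with hC
  set ab := q (cenS B) ⟨a, haC⟩ with hab
  have habL : ab ∈ L := (mem_pre.1 (hAL ha)).2
  have haa : ab * ab = 1 := by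
    rw [hab, ← map_mul, show (⟨a, haC⟩ : ↥(cenS B)) * ⟨a, haC⟩ = 1 from Subtype.ext (h.sq ha), map_one]
  let qq : ↥(pre B L) →* XB B := (q (cenS B)).comp (Subgroup.inclusion pre_le)
  have hqL : ∀ x, qq x ∈ L := fun x => (mem_pre.1 x.2).2
  have hzc : ∀ x : ↥C, ⁅qq (x : ↥(pre B L)), ab⁆ ∈ centralizer (L : Set (XB B)) := fun x => by
    have hx : ρ (x : ↥(pre B L)) * ρ al = ρ al * ρ (x : ↥(pre B L)) :=
      mem_centralizer_singleton_iff.1 x.2
    have h1 : ρ ⁅(x : ↥(pre B L)), al⁆ = 1 := by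
      rw [map_commutatorElement, commutatorElement_eq_one_iff_mul_comm]; exact hx
    obtain ⟨_, h2⟩ := mem_pre.1 ((hk.ker _).1 h1)
    exact h2
  have hzL : ∀ x : ↥C, ⁅qq (x : ↥(pre B L)), ab⁆ ∈ L := fun x => by
    rw [commutatorElement_def]
    exact mul_mem (mul_mem (mul_mem (hqL x) habL) (inv_mem (hqL x))) (inv_mem habL)
  let ζ : ↥C →* XB B :=
    { toFun := fun x => ⁅qq (x : ↥(pre B L)), ab⁆
      map_one' := by simp
      map_mul' := fun x y => by
        have h1 := mem_centralizer_iff.1 (hzc y) _ (hqL x)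
        have h2 := mem_centralizer_iff.1 (hzc x) _ (hzL y)
        calc ⁅qq ((x * y : ↥C) : ↥(pre B L)), ab⁆
            = qq x * ⁅qq y, ab⁆ * (qq x)⁻¹ * ⁅qq x, ab⁆ := by
              rw [Subgroup.coe_mul, map_mul]; simp only [commutatorElement_def]; group
          _ = ⁅qq y, ab⁆ * ⁅qq x, ab⁆ := by rw [h1]; group
          _ = ⁅qq x, ab⁆ * ⁅qq y, ab⁆ := h2 }
  have hζ2 : ∀ x : ↥C, ζ x * ζ x = 1 := fun x => by
    show ⁅qq x, ab⁆ * ⁅qq x, ab⁆ = 1
    have h1 := mem_centralizer_iff.1 (hzc x) ab habL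
    have e : ab * ⁅qq x, ab⁆ * ab⁻¹ = ⁅qq x, ab⁆⁻¹ := by
      have hi : ab⁻¹ = ab := inv_eq_of_mul_eq_one_right haa
      calc ab * ⁅qq x, ab⁆ * ab⁻¹ = ab * qq x * ab * (qq x)⁻¹ * (ab⁻¹ * ab⁻¹) := by
            rw [commutatorElement_def]; group
        _ = ab * qq x * ab⁻¹ * (qq x)⁻¹ := by rw [hi, haa, mul_one]
        _ = ⁅qq x, ab⁆⁻¹ := by rw [commutatorElement_def]; group
    rw [h1, mul_inv_cancel_right] at e
    exact mul_eq_one_iff_eq_inv.2 e
  have hTC : (That : Subgroup ↥(pre B L)) ≤ C := fun x hx => by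
    refine mem_centralizer_singleton_iff.2 ?_
    rw [← map_mul, ← map_mul]
    exact congrArg ρ (Subtype.ext (mem_centralizer_iff.1 (hTA x hx) a ha).symm)
  have hker : ((That.subtype hTC : Sylow 2 ↥C) : Subgroup ↥C) ≤ ζ.ker := fun x hx => by
    rw [Sylow.coe_subtype, mem_subgroupOf] at hx
    refine MonoidHom.mem_ker.2 (commutatorElement_eq_one_iff_mul_comm.2 ?_)
    show q (cenS B) _ * q (cenS B) _ = q (cenS B) _ * q (cenS B) _
    rw [← map_mul, ← map_mul]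
    exact congrArg _ (Subtype.ext (mem_centralizer_iff.1 (hTA _ hx) a ha).symm)
  have hζ1 : ∀ x : ↥C, ζ x = 1 := by
    have hp : IsPGroup 2 ↥ζ.range := by
      rintro ⟨_, x, rfl⟩
      exact ⟨1, Subtype.ext (by rw [SubmonoidClass.coe_pow, pow_one, pow_two]; exact hζ2 x)⟩
    obtain ⟨j, hj⟩ := IsPGroup.iff_card.1 hp
    rw [← Subgroup.index_ker] at hj
    have hd : ζ.ker.index ∣ ((That.subtype hTC : Sylow 2 ↥C) : Subgroup ↥C).index :=
      index_dvd_of_le hker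
    have hj0 : ζ.ker.index = 1 := by
      rw [hj] at hd ⊢
      rcases j with _ | j
      · rfl
      · exact absurd ((dvd_pow_self 2 (Nat.succ_ne_zero j)).trans hd) (That.subtype hTC).not_dvd_index
    intro x
    exact MonoidHom.mem_ker.1 ((index_eq_one.1 hj0).symm ▸ mem_top x)
  obtain ⟨x0, rfl⟩ := hk.surj k
  have hx0 := hζ1 ⟨x0, mem_centralizer_singleton_iff.2 hka⟩
  have hcomm : qq x0 * ab = ab * qq x0 := commutatorElement_eq_one_iff_mul_comm.1 hx0
  have hker' : (Nat.card (q (cenS B)).ker).Coprime 2 := by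
    rw [QuotientGroup.ker_mk']
    exact FittingCores.pPrimeCore_coprime 2
  have hpa : IsPGroup 2 ↥(zpowers (⟨a, haC⟩ : ↥(cenS B))) := by
    intro z
    obtain ⟨i, hi⟩ := Subgroup.mem_zpowers_iff.1 z.2
    refine ⟨1, Subtype.ext ?_⟩
    rw [SubmonoidClass.coe_pow, ← hi, ← zpow_natCast, ← zpow_mul, mul_comm, zpow_mul, pow_one,
      Nat.cast_ofNat, show ((⟨a, haC⟩ : ↥(cenS B)) ^ (2 : ℤ)) = 1 from Subtype.ext (by
        rw [SubgroupClass.coe_zpow]
        show a ^ (2 : ℤ) = 1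
        rw [zpow_two]
        exact h.sq ha), one_zpow]
    rfl
  have hC2 := CoprimeQuotient.centralizer_map (q (cenS B)) (QuotientGroup.mk'_surjective _) hker' hpa
  have hmem : qq x0 ∈ centralizer (((zpowers (⟨a, haC⟩ : ↥(cenS B))).map (q (cenS B)) : Subgroup (XB B)) :
      Set (XB B)) := by
    rw [MonoidHom.map_zpowers, zpowers_eq_closure, centralizer_closure, mem_centralizer_singleton_iff]
    exact hcomm
  rw [hC2] at hmem
  obtain ⟨⟨c, hcC⟩, hc, hcq⟩ := hmem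
  have hcL : c ∈ pre B L := mem_pre.2 ⟨hcC, hcq ▸ hqL x0⟩
  refine ⟨⟨c, hcL⟩, ?_, ?_⟩
  · exact (congrArg Subtype.val (mem_centralizer_iff.1 hc ⟨a, haC⟩ (mem_zpowers _))).symm
  · have h1 : ρ ((⟨c, hcL⟩ : ↥(pre B L))⁻¹ * x0) = 1 := by
      refine (hk.ker _).2 (mem_pre.2 ⟨mul_mem (inv_mem hcC) (pre_le x0.2), ?_⟩)
      show q (cenS B) ((⟨c, hcC⟩ : ↥(cenS B))⁻¹ * ⟨(x0 : G), pre_le x0.2⟩) ∈ _
      rw [map_mul, map_inv, hcq]
      show (qq x0)⁻¹ * qq x0 ∈ _
      rw [inv_mul_cancel]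
      exact one_mem _
    rwa [map_mul, map_inv, inv_mul_eq_one] at h1

/-- Without a torus `K` has none. -/
theorem KMap.noTor (hk : KMap A B L ρ T P) (hno : ∀ a b y, ¬ TorAt A B L a b y) : NoTor P := by
  intro pa hpa hpa1 pb hpb yk hyk hya hby
  by_contra hy1
  rw [← hk.map] at hpa hpb
  obtain ⟨al, hal, rfl⟩ := hpa
  obtain ⟨bl, hbl, rfl⟩ := hpb
  have haA : (al : G) ∈ A := hal
  have hbA : (bl : G) ∈ A := hbl
  obtain ⟨x, hxa, hxy⟩ := hk.lift_cent h hB hL haA (k := yk) hya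
  set z : ↥(pre B L) := x⁻¹ * (bl * x * bl⁻¹) with hz
  have hρz : ρ z = (yk ^ 2)⁻¹ := by
    rw [hz, map_mul, map_inv, map_mul, map_mul, map_inv, hxy, hby, pow_two, mul_inv_rev]
  have hbi : (bl : G)⁻¹ = bl := h.inv_eq hbA
  have hbz : bl * z * bl⁻¹ = z⁻¹ := by
    have hbi' : bl⁻¹ = bl := Subtype.ext hbi
    have hb2 : bl * bl = 1 := Subtype.ext (h.sq hbA)
    calc bl * z * bl⁻¹ = bl * x⁻¹ * bl * x * (bl⁻¹ * bl⁻¹) := by rw [hz]; group
      _ = bl * x⁻¹ * bl⁻¹ * x := by rw [hbi', hb2, mul_one]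
      _ = z⁻¹ := by rw [hz]; group
  have hza : (z : G) * al = al * z := by
    have hab : Commute (bl : G) al := h.comm hbA haA
    have hxc : Commute (x : G) al := hxa
    exact (hxc.inv_left.mul_left ((hab.mul_left hxc).mul_left hab.inv_left)).eq
  have hzo : Odd (orderOf (ρ z)) ∧ ρ z ≠ 1 := by
    rw [hρz, orderOf_inv]
    refine ⟨hyk.of_dvd_nat (orderOf_pow_dvd 2), fun e => hy1 ?_⟩
    rw [inv_eq_one, pow_two] at e
    exact mem_bot.1 (mem_of_sq_odd (mem_bot.2 e) hyk)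
  obtain ⟨s, hso, hs⟩ := exists_odd_pow z
  have hne := hs K ρ hzo.1 hzo.2
  refine hno al bl ((z ^ 2 ^ s : ↥(pre B L)) : G) ⟨haA, hbA, fun e => hpa1 ?_, (z ^ 2 ^ s).2, ?_, ?_, ?_, ?_⟩
  · rw [show al = 1 from Subtype.ext e, map_one]
  · rw [SubmonoidClass.coe_pow]
    exact ((show Commute (z : G) al from hza).pow_left _).eq
  · rwa [orderOf_coe]
  · intro hc
    exact hne ((hk.ker _).2 (cor_le_pre B _ hc))
  · rw [SubmonoidClass.coe_pow, conj_pow,
      show (bl : G) * z * (bl : G)⁻¹ = (z : G)⁻¹ from congrArg Subtype.val hbz, inv_pow]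

/-- The image in `K` of a torus. -/
theorem KMap.torus_image (hk : KMap A B L ρ T P) {a b y : G} (ht : TorAt A B L a b y) :
    let al := ρ ⟨a, (h.torus_eq hB hL).1 ht.1⟩
    let bl := ρ ⟨b, (h.torus_eq hB hL).1 ht.2.1⟩
    let yl := ρ ⟨y, ht.2.2.2.1⟩
    al ∈ P ∧ al ≠ 1 ∧ bl ∈ P ∧ Odd (orderOf yl) ∧ yl ≠ 1 ∧ yl * al = al * yl ∧
      bl * yl * bl⁻¹ = yl⁻¹ := by
  obtain ⟨ha, hb, ha1, hyL, hya, hyo, hyc, hby⟩ := ht
  obtain ⟨hAL, hCA⟩ := h.torus_eq hB hL
  set yl : ↥(pre B L) := ⟨y, hyL⟩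
  have hyo' : Odd (orderOf (ρ yl)) := by
    refine hyo.of_dvd_nat ((orderOf_map_dvd ρ yl).trans ?_)
    rw [← orderOf_coe]
  have hy1 : ρ yl ≠ 1 := fun e => by
    obtain ⟨_, h1⟩ := mem_pre.1 ((hk.ker yl).1 e)
    obtain ⟨hyC, h2⟩ := mem_pre.1 hyL
    -- an odd element of the centre of the component is in the core
    have h3 : (⟨q (cenS B) ⟨y, hyC⟩, h2⟩ : ↥L) ∈ center ↥L :=
      mem_center_iff.2 fun l => Subtype.ext (mem_centralizer_iff.1 h1 l l.2)
    refine hyc ((q_eq_one hyC).1 ?_)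
    haveI : Fact (Nat.Prime 2) := ⟨Nat.prime_two⟩
    obtain ⟨j, hj⟩ := center_two (Components.pPrimeCore_quotient (p := 2) ↥(cenS B)) hL.1 ⟨_, h3⟩
    have hj' : q (cenS B) ⟨y, hyC⟩ ^ 2 ^ j = 1 := by
      simpa using congrArg (fun z : center ↥L => ((z : ↥L) : XB B)) hj
    rw [← orderOf_eq_one_iff]
    exact Nat.Coprime.eq_one_of_dvd ((Nat.coprime_two_right.2 (hyo.of_dvd_nat
      ((orderOf_map_dvd _ _).trans (dvd_of_eq (Subgroup.orderOf_mk y hyC))))).pow_right j)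
      (orderOf_dvd_of_pow_eq_one hj')
  refine ⟨hk.map ▸ mem_map_of_mem ρ (show _ ∈ A.subgroupOf _ from ha), fun e => ?_,
    hk.map ▸ mem_map_of_mem ρ (show _ ∈ A.subgroupOf _ from hb), hyo', hy1, ?_, ?_⟩
  · have h2 : a ∈ CA A B L := ⟨ha, (hk.ker _).1 e⟩
    rw [hCA, mem_bot] at h2
    exact ha1 h2
  · rw [← map_mul, ← map_mul]
    exact congrArg ρ (Subtype.ext hya)
  · rw [← map_inv, ← map_mul, ← map_mul, ← map_inv]
    exact congrArg ρ (Subtype.ext hby)

/-- A subgroup normalising the component acts on `K`. -/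
theorem KMap.exists_action (hk : KMap A B L ρ T P) (O : Subgroup G) (hOC : O ≤ cenS B)
    (hOn : ∀ o : G, ∀ ho : o ∈ O, q (cenS B) ⟨o, hOC ho⟩ ∈ normalizer (L : Set (XB B))) :
    ∃ Φ : ↥O →* MulAut K, ∀ (o : ↥O) (y : ↥(pre B L)),
      Φ o (ρ y) = ρ ⟨o * y * (o : G)⁻¹, normalizes_pre (hOC o.2) (hOn o o.2) y.2⟩ := by
  have hcl : ∀ o ∈ O, ∀ y : ↥(pre B L), o * y * o⁻¹ ∈ pre B L := fun o ho y =>
    normalizes_pre (hOC ho) (hOn o ho) y.2
  let γ : ↥O → (↥(pre B L) →* ↥(pre B L)) := fun o =>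
    { toFun := fun y => ⟨o * y * (o : G)⁻¹, hcl o o.2 y⟩
      map_one' := Subtype.ext (by simp)
      map_mul' := fun y z => Subtype.ext (by push_cast; group) }
  have hkerle : ∀ o : ↥O, ρ.ker ≤ (ρ.comp (γ o)).ker := fun o y hy =>
    MonoidHom.mem_ker.2 ((hk.ker _).2 (normalizes_pre_centralizer (hOC o.2) (hOn o o.2)
      ((hk.ker y).1 (MonoidHom.mem_ker.1 hy))))
  let Φ₀ : ↥O → (K →* K) := fun o => ρ.liftOfSurjective hk.surj ⟨ρ.comp (γ o), hkerle o⟩
  have hΦ₀ : ∀ o y, Φ₀ o (ρ y) = ρ (γ o y) := fun o y =>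
    ρ.liftOfRightInverse_comp_apply (Function.surjInv hk.surj) (Function.rightInverse_surjInv hk.surj)
      ⟨ρ.comp (γ o), hkerle o⟩ y
  have hmul : ∀ o o' k, Φ₀ (o * o') k = Φ₀ o (Φ₀ o' k) := by
    intro o o' k
    obtain ⟨y, rfl⟩ := hk.surj k
    rw [hΦ₀, hΦ₀, hΦ₀]
    exact congrArg ρ (Subtype.ext (by simp [γ, mul_assoc]))
  have hone : ∀ k, Φ₀ 1 k = k := by
    intro k
    obtain ⟨y, rfl⟩ := hk.surj k
    rw [hΦ₀]
    exact congrArg ρ (Subtype.ext (by simp [γ]))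
  let Φ : ↥O →* MulAut K :=
    { toFun := fun o =>
        { toFun := Φ₀ o
          invFun := Φ₀ o⁻¹
          left_inv := fun k => by rw [← hmul, inv_mul_cancel, hone]
          right_inv := fun k => by rw [← hmul, mul_inv_cancel, hone]
          map_mul' := map_mul (Φ₀ o) }
      map_one' := MulEquiv.ext hone
      map_mul' := fun o o' => MulEquiv.ext (hmul o o') }
  exact ⟨Φ, hΦ₀⟩

/-- With a torus the Sylow subgroup of `K` is the four-group. -/
theorem KMap.sylow_eq (hk : KMap A B L ρ T P) {a b y : G} (ht : TorAt A B L a b y) :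
    (T : Subgroup K) = P := by
  haveI := hk.simple
  refine le_antisymm (good_le hk.facts hk.simple (hk.kind.resolve_right ?_)) hk.facts.le
  rintro ⟨H, hH⟩
  obtain ⟨H', a₀, t, Q, hF, hS, hTQ, h2⟩ := setup_of_se hH T
  obtain ⟨haP, ha1, hbP, hyo, hy1, hya, hby⟩ := hk.torus_image h hB hL ht
  exact hy1 (eq_one_setup hS h2 hk.facts hTQ haP ha1 hbP hyo hya hby)

/-- Without a torus an odd subgroup fixing a point of `A#` centralises the component. -/
theorem KMap.balance (hk : KMap A B L ρ T P) (hno : ∀ a b y, ¬ TorAt A B L a b y) {a : G} (ha : a ∈ A)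
    (ha1 : a ≠ 1) {O : Subgroup G} (hOodd : Odd (Nat.card O)) (hOC : O ≤ cenS B)
    (hOn : ∀ o : G, ∀ ho : o ∈ O, q (cenS B) ⟨o, hOC ho⟩ ∈ normalizer (L : Set (XB B)))
    (hOa : ∀ o ∈ O, o * a = a * o)
    (hOinv : ∀ x ∈ pre B L, x * a = a * x → ∀ o ∈ O, x * o * x⁻¹ ∈ O) :
    O ≤ pre B (centralizer (L : Set (XB B))) := by
  obtain ⟨hAL, -⟩ := h.torus_eq hB hL
  set al : ↥(pre B L) := ⟨a, hAL ha⟩ with hal
  obtain ⟨Φ, hΦ⟩ := hk.exists_action h hB hL O hOC hOn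
  have hR : Odd (Nat.card Φ.range) := hOodd.of_dvd_nat (card_range_dvd Φ)
  have haP : ρ al ∈ P := hk.map ▸ mem_map_of_mem ρ (show al ∈ A.subgroupOf _ from ha)
  have hal1 : ρ al ≠ 1 := fun e => by
    have h2 : a ∈ CA A B L := ⟨ha, (hk.ker al).1 e⟩
    rw [(h.torus_eq hB hL).2, mem_bot] at h2
    exact ha1 h2
  have hbot : Φ.range = ⊥ := by
    refine balanced hk.facts hk.simple hk.nonab hk.card hk.kind (hk.noTor h hB hL hno) hR haP hal1 ?_ ?_
    · rintro _ ⟨o, rfl⟩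
      rw [hΦ]
      exact congrArg ρ (Subtype.ext (show (o : G) * a * (o : G)⁻¹ = a by
        rw [hOa o o.2, mul_inv_cancel_right]))
    · rintro c hc _ ⟨o, rfl⟩
      obtain ⟨x, hxa, rfl⟩ := hk.lift_cent h hB hL ha hc
      refine ⟨⟨(x : G) * o * (x : G)⁻¹, hOinv x x.2 hxa o o.2⟩, MulEquiv.ext fun k => ?_⟩
      obtain ⟨y, rfl⟩ := hk.surj k
      rw [hΦ, MulAut.mul_apply, MulAut.mul_apply, MulAut.conj_inv_apply, ← map_inv, ← map_mul, ← map_mul,
        hΦ, MulAut.conj_apply, ← map_inv, ← map_mul, ← map_mul]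
      refine congrArg ρ (Subtype.ext ?_)
      simp [mul_assoc]
  intro o ho
  refine mem_pre.2 ⟨hOC ho, mem_centralizer_of_mod hL.1 (hOn o ho) fun l hl => ?_⟩
  obtain ⟨⟨y, hyC⟩, rfl⟩ := QuotientGroup.mk'_surjective _ l
  set yl : ↥(pre B L) := ⟨y, mem_pre.2 ⟨hyC, hl⟩⟩
  have h1 : Φ ⟨o, ho⟩ = 1 := mem_bot.1 (hbot ▸ MonoidHom.mem_range.2 ⟨⟨o, ho⟩, rfl⟩)
  have h2 : ρ (⟨o * yl * o⁻¹, normalizes_pre (hOC ho) (hOn o ho) yl.2⟩ * yl⁻¹) = 1 := by
    rw [map_mul, map_inv, ← hΦ ⟨o, ho⟩ yl, h1, MulAut.one_apply, mul_inv_cancel]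
  obtain ⟨_, h3⟩ := mem_pre.1 ((hk.ker _).1 h2)
  rw [← map_inv (q (cenS B)), ← map_inv (q (cenS B)), ← map_mul, ← map_mul, ← map_mul]
  exact h3

/-- With a torus the odd subgroups of prime power order of `K` are cyclic. -/
theorem KMap.cyclic (hk : KMap A B L ρ T P) {a b y : G} (ht : TorAt A B L a b y) {ℓ : ℕ}
    [Fact ℓ.Prime] (hℓ2 : ℓ ≠ 2) {x z : K} (hx : x * x = 1) (hx1 : x ≠ 1) (hz : orderOf z = ℓ)
    (hzx : z * x = x * z) (R : Subgroup K) (hR : IsPGroup ℓ R) : IsCyclic R := by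
  obtain ⟨haP, ha1, hbP, hyo, hy1, hya, hby⟩ := hk.torus_image h hB hL ht
  exact cyclic_of_torus hk.facts hk.simple hk.nonab hk.card hk.kind haP ha1 hbP hyo hy1 hya hby hℓ2 hx hx1
    hz hzx R hR

end Cfsg.Agent.Gold1169.Two
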