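import Cfsg.Agent.Lib.Gold1169.Fam
import Cfsg.Agent.Lib.Gold1169.Two.Bridge

/-!
Every coset of `A` with an involution contains a special involution.
-/

set_option autoImplicit false
set_option linter.style.haveILetI false
set_option linter.unusedSectionVars false

namespace Cfsg.Agent.Gold1169.Two

open Subgroup
open Cfsg.Agent.Walter4 (cen cenS ocen cor XB pre CA mem_pre cor_zpowers pre_le)
open Cfsg.Agent.OddDown.CoreSep (q im mem_im)
open scoped commutatorElement

universe u

attribute [local instance] FittingCores.pPrimeCore_normal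

variable {G : Type u} [Group G] [Finite G] {S : Sylow 2 G} {A : Subgroup G}

theorem ocen_le_cen (a : G) : ocen a ≤ cen a := (OddDown.CoreSep.core_props a).1

theorem ocen_odd (a : G) : Odd (Nat.card (ocen a)) := Nat.coprime_two_left.1 (Walter4.ocen_coprime a).symm

/-- An element of `N(A) ∩ C(B)` normalises the moved component. -/
theorem Ctx.normalizes (h : Ctx S A) {B : Subgroup G} (hB : Loc A B) {L : Subgroup (XB B)}
    (hL : Moved A B L) {x : G} (hxN : x ∈ normalizer (A : Set G)) (hxC : x ∈ cenS B) :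
    q (cenS B) ⟨x, hxC⟩ ∈ normalizer (L : Set (XB B)) := by
  set xb := q (cenS B) ⟨x, hxC⟩ with hxb
  rw [← LEBasic.map_conj_eq_iff_mem_normalizer]
  refine h.moved_unique hB hL ⟨Components.component_conj hL.1 xb, fun hc => hL.2 fun l hl => ?_⟩
  refine mem_centralizer_iff.2 ?_
  rintro _ ⟨⟨a, haC⟩, ha, rfl⟩
  have haA : a ∈ A := ha
  have ha' : x * a * x⁻¹ ∈ A := (h.set.conj_mem_iff hxN).1 haA
  have hm : xb * q (cenS B) ⟨a, haC⟩ * xb⁻¹ ∈ im (cenS B) A := by
    rw [hxb, ← map_inv, ← map_mul, ← map_mul]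
    exact mem_im ha' _
  have h1 := mem_centralizer_iff.1 (hc ⟨l, hl, rfl⟩) _ hm
  simp only [MulEquiv.coe_toMonoidHom, MulAut.conj_apply, conj_mul] at h1
  exact mul_left_cancel (mul_right_cancel h1)

/-- A point of `C(A)` outside `A` generates a local subgroup. -/
theorem Ctx.loc_invol (h : Ctx S A) {f : G} (hf2 : f * f = 1) (hfC : f ∈ centralizer (A : Set G))
    (hfA : f ∉ A) : Loc A (zpowers f) := by
  have hf1 : f ≠ 1 := fun e => hfA (e ▸ one_mem A)
  refine ⟨?_, fun e => hf1 (zpowers_eq_bot.1 e), zpowers_le.2 hfC⟩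
  haveI : Fact (Nat.Prime 2) := ⟨Nat.prime_two⟩
  refine IsPGroup.of_card (n := 1) ?_
  rw [Nat.card_zpowers, pow_one]
  exact orderOf_eq_prime (by rw [pow_two, hf2]) hf1

/-- The group `A⟨f⟩`. -/
def ext (A : Subgroup G) (f : G) (hf2 : f * f = 1) (hfC : f ∈ centralizer (A : Set G)) : Subgroup G where
  carrier := {x | x ∈ A ∨ x * f ∈ A}
  one_mem' := Or.inl (one_mem A)
  mul_mem' := by
    have hc : ∀ z : G, z * f ∈ A → f * z = z * f := fun z hz => by
      have := mem_centralizer_iff.1 hfC _ hz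
      rw [← mul_assoc, mul_assoc z f f, hf2, mul_one] at this
      calc f * z = f * (f * z * f) := congrArg _ this
        _ = f * f * (z * f) := by group
        _ = z * f := by rw [hf2, one_mul]
    rintro x y (hx | hx) (hy | hy)
    · exact Or.inl (mul_mem hx hy)
    · exact Or.inr (by rw [mul_assoc]; exact mul_mem hx hy)
    · refine Or.inr ?_
      rw [mul_assoc, mem_centralizer_iff.1 hfC y hy, ← mul_assoc]
      exact mul_mem hx hy
    · refine Or.inl ?_
      have e : x * y = x * f * (y * f) := by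
        rw [mul_assoc x f, ← mul_assoc f y, hc y hy, mul_assoc y f f, hf2, mul_one]
      rw [e]
      exact mul_mem hx hy
  inv_mem' := by
    rintro x (hx | hx)
    · exact Or.inl (inv_mem hx)
    · refine Or.inr ?_
      have hxA := inv_mem hx
      rw [mul_inv_rev, inv_eq_of_mul_eq_one_right hf2] at hxA
      have := mem_centralizer_iff.1 hfC _ hxA
      rw [show x⁻¹ * f = f * (f * x⁻¹) * f by rw [← mul_assoc f f, hf2, one_mul],
        ← this, mul_assoc (f * x⁻¹) f f, hf2, mul_one]
      exact hxA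

theorem le_ext {f : G} {hf2 : f * f = 1} {hfC : f ∈ centralizer (A : Set G)} : A ≤ ext A f hf2 hfC :=
  fun _ ha => Or.inl ha

theorem mem_ext {f : G} {hf2 : f * f = 1} {hfC : f ∈ centralizer (A : Set G)} : f ∈ ext A f hf2 hfC :=
  Or.inr (by rw [hf2]; exact one_mem A)

namespace Ctx

variable (h : Ctx S A)
include h

theorem ext_ea {f : G} (hf2 : f * f = 1) (hfC : f ∈ centralizer (A : Set G)) :
    Cfsg.IsElementaryAbelian 2 (ext A f hf2 hfC) := by
  have hfc : ∀ a ∈ A, f * a = a * f := fun a ha => (mem_centralizer_iff.1 hfC a ha).symm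
  have hrep : ∀ x ∈ ext A f hf2 hfC, ∃ a ∈ A, x = a ∨ x = a * f := by
    rintro x (hx | hx)
    · exact ⟨x, hx, Or.inl rfl⟩
    · exact ⟨x * f, hx, Or.inr (by rw [mul_assoc, hf2, mul_one])⟩
  refine ⟨⟨⟨?_⟩⟩, ?_⟩
  · rintro ⟨x, hx⟩ ⟨y, hy⟩
    refine Subtype.ext ?_
    show x * y = y * x
    have hcf : ∀ a ∈ A, Commute f a := hfc
    obtain ⟨a, ha, rfl | rfl⟩ := hrep x hx <;> obtain ⟨b, hb, rfl | rfl⟩ := hrep y hy
    · exact h.comm ha hb
    · exact ((show Commute x b from h.comm ha hb).mul_right (hcf x ha).symm).eq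
    · exact ((show Commute a y from h.comm ha hb).mul_left (hcf y hb)).eq
    · exact (((show Commute a b from h.comm ha hb).mul_right (hcf a ha).symm).mul_left
        ((hcf b hb).mul_right (Commute.refl f))).eq
  · intro x hx
    rw [pow_two]
    obtain ⟨a, ha, rfl | rfl⟩ := hrep x hx
    · exact h.sq ha
    · rw [mul_assoc, ← mul_assoc f, hfc a ha, mul_assoc a f f, hf2, mul_one, h.sq ha]

/-- A moved component without torus is centralised by the cores of `A⟨x⟩`. -/
theorem fixes_ocen {x : G} (hx2 : x * x = 1) (hxC : x ∈ centralizer (A : Set G)) (hxA : x ∉ A)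
    (hns : ¬ Special A x) {b : G} (hb : b * x = x * b) (hb1 : b ≠ 1) (hbC : b ∈ centralizer (A : Set G))
    (hbE : b ∈ A ∨ b * x ∈ A) {L : Subgroup (XB (zpowers x))} (hL : Moved A (zpowers x) L) :
    Fixes (ocen b) L := by
  have hB := h.loc_invol hx2 hxC hxA
  have hxx : x⁻¹ = x := inv_eq_of_mul_eq_one_right hx2
  by_cases hbx : b = x
  · -- the core of `C(x)` itself
    subst hbx
    refine le_centralizer_iff.1 ?_
    rintro _ ⟨⟨o, hoC⟩, ho, rfl⟩
    rw [(q_eq_one hoC).2 (by rw [cor_zpowers]; exact ho)]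
    exact one_mem _
  obtain ⟨a, ha, ha1, hab⟩ : ∃ a ∈ A, a ≠ 1 ∧ ∀ g : G, g * x = x * g → (g * b = b * g ↔ g * a = a * g) := by
    rcases hbE with hbA | hbxA
    · exact ⟨b, hbA, hb1, fun g _ => Iff.rfl⟩
    · refine ⟨b * x, hbxA, fun e => hbx ((mul_eq_one_iff_eq_inv.1 e).trans hxx), fun g hg => ?_⟩
      constructor
      · intro hgb
        exact ((show Commute g b from hgb).mul_right hg).eq
      · intro hga
        have := ((show Commute g (b * x) from hga).mul_right (show Commute g x from hg))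
        rwa [mul_assoc, hx2, mul_one] at this
  set O := ocen b ⊓ cenS (zpowers x) with hO
  have hbB : zpowers b ≤ cenS (zpowers x) := zpowers_le.2 (mem_cenS_zpowers.2 hb)
  have hb2 : IsPGroup 2 ↥(zpowers b) := by
    haveI : Fact (Nat.Prime 2) := ⟨Nat.prime_two⟩
    have hbb : b * b = 1 := by
      rcases hbE with hbA | hbxA
      · exact h.sq hbA
      · have := h.sq hbxA
        rw [hb, mul_assoc, ← mul_assoc b x, hb, mul_assoc x b, ← mul_assoc x x, hx2, one_mul] at this
        exact this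
    exact IsPGroup.of_card (n := 1)
      (by rw [Nat.card_zpowers, pow_one, orderOf_eq_prime (by rw [pow_two, hbb]) hb1])
  obtain ⟨K, _, _, ρ, T, P, hk⟩ := exists_kmap h hB hL
  have hOn : ∀ o : G, ∀ ho : o ∈ O,
      q (cenS (zpowers x)) ⟨o, ho.2⟩ ∈ normalizer (L : Set (XB (zpowers x))) := fun o ho =>
    Walter4.cor_le_normalizer_component hbB hb2 hL.1
      (mem_im (show o ∈ cor (zpowers b) by rw [cor_zpowers]; exact ho.1) ho.2)
  have hno : ∀ a b y, ¬ TorAt A (zpowers x) L a b y := fun a b y ht =>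
    hns ⟨hx2, hxC, hxA, L, hL, a, b, y, ht⟩
  have hle := hk.balance h hB hL hno ha ha1 (O := O)
    ((ocen_odd b).of_dvd_nat (card_dvd_of_le inf_le_left)) inf_le_right hOn
    (fun o ho => (hab o (mem_cenS_zpowers.1 ho.2)).1 (mem_cen.1 (ocen_le_cen b ho.1)))
    (fun y hy hya o ho => by
      have hyC := pre_le hy
      have hyb := (hab y (mem_cenS_zpowers.1 hyC)).2 hya
      exact ⟨(mem_normalizer_iff.1 ((OddDown.CoreSep.core_props b).2.1 (mem_cen.2 hyb)) o).1 ho.1,
        (cenS (zpowers x)).mul_mem ((cenS (zpowers x)).mul_mem hyC ho.2) ((cenS (zpowers x)).inv_mem hyC)⟩)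
  refine le_centralizer_iff.1 ?_
  rintro _ ⟨⟨o, hoC⟩, ho, rfl⟩
  obtain ⟨_, h1⟩ := mem_pre.1 (hle ⟨ho, hoC⟩)
  exact h1

/-- A family whose closure contains the cores is absurd. -/
theorem false_of_fam {E : Subgroup G} {Ps : Set (Subgroup G)} (hF : Fam E Ps) (hAE : A ≤ E)
    (hbot : (∀ a ∈ E, a ≠ 1 → theta Ps a = ⊥) → False) : False := by
  haveI := h.set.simple
  obtain ⟨W, hW⟩ := famStmt G E Ps hF
  by_cases hW0 : W = ⊥
  · refine hbot fun a ha ha1 => ?_
    rw [← hW.meet a ha ha1, hW0, bot_inf_eq]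
  refine h.false_of_core (M := normalizer (W : Set G)) (fun e => ?_)
    fun a ha ha1 => hW.core_le a (hAE ha) ha1
  have htop := (normalizer_eq_top_iff.1 e).eq_bot_or_eq_top.resolve_left hW0
  obtain ⟨a, ha, ha1⟩ := A.bot_or_exists_ne_one.resolve_left h.ne_bot
  have h2 := orderOf_dvd_natCard a
  rw [h.set.orderOf_eq ha ha1] at h2
  have := hW.odd
  rw [htop, card_top] at this
  exact Nat.not_even_iff_odd.2 this (even_iff_two_dvd.2 h2)

/-- Every coset of `A` with an involution of `C(A)` contains a special involution. -/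
theorem exists_special {f : G} (hf2 : f * f = 1) (hfC : f ∈ centralizer (A : Set G)) (hfA : f ∉ A) :
    ∃ e, Special A e ∧ e * f ∈ A := by
  by_contra hno
  push Not at hno
  set E := ext A f hf2 hfC with hE
  have hea : Cfsg.IsElementaryAbelian 2 E := h.ext_ea hf2 hfC
  haveI := hea.1
  have hEsq : ∀ x ∈ E, x * x = 1 := fun x hx => by rw [← pow_two]; exact hea.2 x hx
  have hEc : ∀ x ∈ E, ∀ y ∈ E, x * y = y * x := fun x hx y hy =>
    congrArg Subtype.val (mul_comm' (⟨x, hx⟩ : E) ⟨y, hy⟩)
  have hEC : E ≤ centralizer (A : Set G) := fun x hx =>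
    mem_centralizer_iff.2 fun a ha => hEc a (le_ext ha) x hx
  have hbig : 8 ≤ Nat.card E := by
    have h1 : ∃ x, x ∈ E ∧ x ∉ A := ⟨f, mem_ext, hfA⟩
    have h2 : A.subgroupOf E ≠ ⊤ := fun e => by
      obtain ⟨x, hx, hxA⟩ := h1
      exact hxA ((subgroupOf_eq_top.1 e) hx)
    have h3 := (A.subgroupOf E).card_mul_index
    rw [Nat.card_congr (subgroupOfEquivOfLe (show A ≤ E from le_ext)).toEquiv, h.card] at h3
    have h4 : (A.subgroupOf E).index ≠ 1 := fun e => h2 (index_eq_one.1 e)
    have h5 := Subgroup.index_ne_zero_of_finite (H := A.subgroupOf E)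
    have h6 : 4 * 2 ≤ 4 * (A.subgroupOf E).index := Nat.mul_le_mul_left 4 (by omega)
    omega
  have hF : Fam E {A} := by
    refine ⟨hea, hbig, fun P hP => ?_, fun P hP => ?_, fun P hP a ha ha1 L hL => ?_,
      fun x hx hx1 L hL => ?_⟩
    · rw [Set.mem_singleton_iff.1 hP]; exact le_ext
    · rw [Set.mem_singleton_iff.1 hP, h.card]
    · rw [Set.mem_singleton_iff.1 hP] at ha ⊢
      exact Or.inl (h.fixes_A ha ha1 hL le_rfl)
    · by_cases hxA : x ∈ A
      · exact Or.inl ⟨A, rfl, h.fixes_A hxA hx1 hL le_rfl⟩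
      by_cases hm : Moved A (zpowers x) L
      · refine Or.inr fun b hb hb1 => h.fixes_ocen (hEsq x hx) (hEC hx) hxA (fun hs => ?_)
          (hEc b hb x hx) hb1 (hEC hb) ?_ hm
        · rcases hx with hx' | hx'
          · exact hxA hx'
          · exact hno x hs hx'
        · rcases hb with hb' | hb'
          · exact Or.inl hb'
          · right
            rcases hx with hx' | hx'
            · exact absurd hx' hxA
            · have e : b * x = b * f * (x * f) := by
                calc b * x = b * x * (f * f) := by rw [hf2, mul_one]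
                  _ = b * (x * f) * f := by group
                  _ = b * (f * (x * f)) := by rw [mul_assoc, mem_centralizer_iff.1 hfC _ hx']
                  _ = b * f * (x * f) := by group
              rw [e]
              exact mul_mem hb' hx'
      · exact Or.inl ⟨A, rfl, fixes_of_not_moved hL hm le_rfl⟩
  refine h.false_of_fam hF le_ext fun hbot => h.false_of_core h.set.normalizer_ne_top fun a ha ha1 => ?_
  have hth : ⁅ocen a, A⁆ = ⊥ := by
    refine le_bot_iff.1 (le_trans ?_ (hbot a (le_ext ha) ha1).le)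
    refine _root_.le_inf (CoprimeAct.commutator_le_left fun b hb =>
      (OddDown.CoreSep.core_props a).2.1 (mem_cen.2 (h.comm hb ha))) (le_iInf fun P => ?_)
    rw [Set.mem_singleton_iff.1 P.2]
    exact le_sup_left
  exact (commutator_eq_bot_iff_le_centralizer.1 hth).trans (centralizer_le_normalizer _)

end Ctx

end Cfsg.Agent.Gold1169.Two
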