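import Cfsg.Agent.Lib.Gold1169.Two.Split

/-!
The case `T < S`: `T` is elementary, at most four times `A`, and after conjugation `N_S(T) ⧸ T ≅ A` by
`g ↦ [g, e]`, with an element of odd order permuting `A#` and normalising both.
-/

set_option autoImplicit false
set_option linter.style.haveILetI false
set_option linter.unusedSectionVars false

namespace Cfsg.Agent.Gold1169.Two

open Subgroup
open Cfsg.Agent.Walter4 (cen cenS ocen cor XB pre CA mem_pre cor_zpowers pre_le)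
open Cfsg.Agent.OddDown.CoreSep (q im mem_im)
open scoped commutatorElement

universe u

attribute [local instance] FittingCores.pPrimeCore_normal

variable {G : Type u} [Group G] [Finite G] {S : Sylow 2 G} {A : Subgroup G}

/-- `N_S(C_S(e))`. -/
def NS (S : Sylow 2 G) (e : G) : Subgroup G := (S : Subgroup G) ⊓ normalizer (CS S e : Set G)

theorem CS_le_NS (e : G) : CS S e ≤ NS S e := _root_.le_inf inf_le_left le_normalizer

theorem NS_two (e : G) : IsPGroup 2 ↥(NS S e) := S.isPGroup'.to_le inf_le_left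

/-- The group generated by a 2-group and a 2-element normalising it. -/
theorem sup_zpowers_two {R : Subgroup G} (hR : IsPGroup 2 R) {g : G} {k : ℕ} (hg : g ^ 2 ^ k = 1)
    (hn : g ∈ normalizer (R : Set G)) : IsPGroup 2 ↥(R ⊔ zpowers g) := by
  haveI : Fact (Nat.Prime 2) := ⟨Nat.prime_two⟩
  refine hR.to_sup_of_normal_left' ?_ (zpowers_le.2 hn)
  obtain ⟨i, -, hi⟩ := (Nat.dvd_prime_pow Nat.prime_two).1 (orderOf_dvd_of_pow_eq_one hg)
  exact IsPGroup.of_card (n := i) (by rw [Nat.card_zpowers, hi])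

namespace Top

variable {e : G} (ht : Top S A e) (h : Ctx S A)
include ht h

/-- `N_S(T) > T` when `T < S`. -/
theorem exists_outside (hTS : CS S e ≠ (S : Subgroup G)) : ∃ g ∈ NS S e, g ∉ CS S e := by
  haveI : Fact (Nat.Prime 2) := ⟨Nat.prime_two⟩
  have hlt : (CS S e).subgroupOf (S : Subgroup G) < ⊤ := by
    rw [lt_top_iff_ne_top, Ne, subgroupOf_eq_top]
    exact fun h' => hTS (le_antisymm inf_le_left h')
  haveI := S.isPGroup'.isNilpotent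
  obtain ⟨⟨g, hgS⟩, hg, hgn⟩ :=
    SetLike.exists_of_lt (Group.normalizerCondition_of_isNilpotent _ hlt)
  refine ⟨g, ⟨hgS, mem_normalizer_iff.2 fun y => ⟨fun hy => ?_, fun hy => ?_⟩⟩,
    fun hg' => hgn (mem_subgroupOf.2 hg')⟩
  · exact mem_subgroupOf.1 ((mem_normalizer_iff.1 hg ⟨y, hy.1⟩).1 hy)
  · have hyS : y ∈ (S : Subgroup G) := by
      have := mul_mem (mul_mem (inv_mem hgS) hy.1) hgS
      rwa [show g⁻¹ * (g * y * g⁻¹) * g = y by group] at this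
    exact mem_subgroupOf.1 ((mem_normalizer_iff.1 hg ⟨y, hyS⟩).2 hy)

/-- `T` is elementary when `T < S`. -/
theorem elem (hTS : CS S e ≠ (S : Subgroup G)) {t : G} (htT : t ∈ CS S e) : t * t = 1 := by
  haveI : Fact (Nat.Prime 2) := ⟨Nat.prime_two⟩
  obtain ⟨L, n, hF⟩ := ht.exists_frame h
  obtain ⟨g₀, hg₀, hg₀T⟩ := ht.exists_outside h hTS
  set T := CS S e with hT
  set Qs : Subgroup G := closure ((fun x => x * x) '' (T : Set G)) with hQs
  by_contra hne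
  have hQR : Qs ≤ RS S e L := by
    rw [hQs, closure_le]
    rintro _ ⟨x, hx, rfl⟩
    obtain ⟨a, ha, r, hr, rfl⟩ := hF.prod x hx
    have hc : Commute a r := mem_centralizer_iff.1 (hF.R_le_cenA h hr) a ha
    show a * r * (a * r) ∈ RS S e L
    rw [mul_assoc, ← mul_assoc r, ← hc.eq, ← mul_assoc, ← mul_assoc, h.sq ha, one_mul]
    exact mul_mem hr hr
  have hQT : Qs ≤ T := hQR.trans inf_le_left
  have hQn : NS S e ≤ normalizer (Qs : Set G) := by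
    intro g hg
    rw [← LEBasic.map_conj_eq_iff_mem_normalizer]
    refine eq_of_le_of_card_ge ?_ (LEBasic.card_map_conj Qs g).ge
    rw [hQs, MonoidHom.map_closure, closure_le]
    rintro _ ⟨_, ⟨x, hx, rfl⟩, rfl⟩
    exact subset_closure ⟨g * x * g⁻¹, (mem_normalizer_iff.1 hg.2 x).1 hx, by
      show g * x * g⁻¹ * (g * x * g⁻¹) = g * (x * x) * g⁻¹
      group⟩
  have hQN : Qs ≤ NS S e := hQT.trans (CS_le_NS e)
  haveI : (Qs.subgroupOf (NS S e)).Normal := (normal_subgroupOf_iff_le_normalizer hQN).2 hQn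
  have hQ0 : Qs.subgroupOf (NS S e) ≠ ⊥ := fun h0 => by
    rw [subgroupOf_eq_bot, disjoint_iff, inf_eq_left.2 hQN] at h0
    exact hne (mem_bot.1 (h0 ▸ subset_closure ⟨t, htT, rfl⟩))
  haveI := (NS_two (S := S) e).isNilpotent
  obtain ⟨z, hz, hz1⟩ := (Qs.subgroupOf (NS S e) ⊓ center _).bot_or_exists_ne_one.resolve_left
    (SolvStruct.inf_center_ne_bot hQ0)
  -- an involution in the cyclic group of `z`
  obtain ⟨k, hk⟩ := NS_two (S := S) e z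
  obtain ⟨f, hf, hf1, hf2⟩ : ∃ f ∈ Qs.subgroupOf (NS S e) ⊓ center _, f ≠ 1 ∧ f * f = 1 := by
    by_contra hno
    push Not at hno
    have : ∀ j : ℕ, z ^ 2 ^ j ≠ 1 := by
      intro j
      induction j with
      | zero => simpa using hz1
      | succ j ih =>
        rw [pow_succ, pow_mul, pow_two]
        exact hno _ (pow_mem hz _) ih
    exact this k hk
  obtain ⟨hfQ, hfc⟩ := hf
  have hfR : (f : G) ∈ RS S e L := hQR hfQ
  have hfA : (f : G) ∉ A := fun hfA => hf1 (Subtype.ext (by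
    have h1 : (f : G) ∈ A ⊓ RS S e L := ⟨hfA, hfR⟩
    rwa [hF.meet, mem_bot] at h1))
  have hcard := ht.max f (congrArg Subtype.val hf2) (hF.R_le_cenA h hfR) hfA (NS S e) (NS_two e)
    fun x hx => mem_cen.2 (congrArg Subtype.val (mem_center_iff.1 hfc ⟨x, hx⟩))
  exact hg₀T ((eq_of_le_of_card_ge (CS_le_NS e) hcard).ge hg₀)

variable (hTS : CS S e ≠ (S : Subgroup G))
include hTS

theorem T_comm {x y : G} (hx : x ∈ CS S e) (hy : y ∈ CS S e) : x * y = y * x := by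
  have h1 := ht.elem h hTS (mul_mem hx hy)
  have hx' := inv_eq_of_mul_eq_one_right (ht.elem h hTS hx)
  have hy' := inv_eq_of_mul_eq_one_right (ht.elem h hTS hy)
  rw [mul_eq_one_iff_eq_inv, mul_inv_rev, hx', hy'] at h1
  exact h1

theorem cS_eq {f : G} (hf : f ∈ CS S e) (hfA : f ∉ A) : CS S f = CS S e := by
  have hle : CS S e ≤ CS S f := fun x hx => ⟨hx.1, mem_cen.2 (ht.T_comm h hTS hx hf)⟩
  exact (eq_of_le_of_card_ge hle
    (ht.max f (ht.elem h hTS hf) (h.CS_le_cenA e hf) hfA _ (cS_two f) inf_le_right)).symm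

/-- A 2-element normalising `T` which centralises a point outside `A` is in `T`. -/
theorem mem_of_comm {g : G} {k : ℕ} (hgk : g ^ 2 ^ k = 1) (hgT : g ∈ normalizer (CS S e : Set G))
    {f : G} (hf : f ∈ CS S e) (hfA : f ∉ A) (hgf : g * f = f * g) : g ∈ CS S e := by
  have hle : CS S e ⊔ zpowers g ≤ cen f :=
    sup_le (fun x hx => mem_cen.2 (ht.T_comm h hTS hx hf)) (zpowers_le.2 (mem_cen.2 hgf))
  have hcard := ht.max f (ht.elem h hTS hf) (h.CS_le_cenA e hf) hfA _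
    (sup_zpowers_two (cS_two e) hgk hgT) hle
  exact (eq_of_le_of_card_ge le_sup_left hcard).ge (mem_sup_right (mem_zpowers g))

/-- A 2-element of `N(T) ∩ C(A)` is trivial on `T ⧸ A`. -/
theorem triv : ∀ (k : ℕ) {g : G}, g ^ 2 ^ k = 1 → g ∈ normalizer (CS S e : Set G) →
    g ∈ centralizer (A : Set G) → ∀ t ∈ CS S e, g * t * g⁻¹ * t⁻¹ ∈ A
  | 0, g, hgk, _, _, t, _ => by
    rw [pow_zero, pow_one] at hgk
    simp [hgk]
  | k + 1, g, hgk, hgT, hgA, t, htT => by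
    have hg2k : (g * g) ^ 2 ^ k = 1 := by rw [← pow_two, ← pow_mul, ← pow_succ', hgk]
    have ih := triv k hg2k (mul_mem hgT hgT) (mul_mem hgA hgA)
    have hgt : g * t * g⁻¹ ∈ CS S e := (mem_normalizer_iff.1 hgT t).1 htT
    set c := g * t * g⁻¹ * t⁻¹ with hc
    have hcT : c ∈ CS S e := mul_mem hgt (inv_mem htT)
    by_cases hg2 : g * g ∈ CS S e
    · by_contra hcA
      have hfix : g * c = c * g := by
        have e1 : g * g * t = t * (g * g) := ht.T_comm h hTS hg2 htT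
        have hti : t⁻¹ = t := inv_eq_of_mul_eq_one_right (ht.elem h hTS htT)
        rw [← mul_inv_eq_iff_eq_mul]
        calc g * c * g⁻¹ = g * g * t * (g⁻¹ * t⁻¹ * g⁻¹) := by rw [hc]; group
          _ = t * (g * g) * (g⁻¹ * t⁻¹ * g⁻¹) := by rw [e1]
          _ = t * (g * t * g⁻¹) := by rw [hti]; group
          _ = c := by rw [hc, hti]; exact ht.T_comm h hTS htT hgt
      have hgCS := ht.mem_of_comm h hTS hgk hgT hcT hcA hfix
      refine hcA ?_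
      rw [hc, ht.T_comm h hTS hgCS htT, mul_inv_cancel_right, mul_inv_cancel]
      exact one_mem A
    · by_contra hcA
      refine hg2 (ht.mem_of_comm h hTS hg2k (mul_mem hgT hgT) hcT hcA ?_)
      set d := g * g * t * (g * g)⁻¹ * t⁻¹ with hd
      have hdA : d ∈ A := ih t htT
      have hgd : g * d * g⁻¹ = d := by
        rw [← mem_centralizer_iff.1 hgA d hdA, mul_inv_cancel_right]
      have e1 : g * g * (g * t * g⁻¹) * (g * g)⁻¹ = d * (g * t * g⁻¹) := by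
        calc g * g * (g * t * g⁻¹) * (g * g)⁻¹ = (g * d * g⁻¹) * (g * t * g⁻¹) := by rw [hd]; group
          _ = d * (g * t * g⁻¹) := by rw [hgd]
      have e2 : g * g * t⁻¹ * (g * g)⁻¹ = t⁻¹ * d⁻¹ := by
        rw [hd]; simp only [mul_inv_rev, inv_inv, mul_assoc, inv_mul_cancel_left]
      rw [← mul_inv_eq_iff_eq_mul]
      calc g * g * c * (g * g)⁻¹
          = (g * g * (g * t * g⁻¹) * (g * g)⁻¹) * (g * g * t⁻¹ * (g * g)⁻¹) := by rw [hc]; group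
        _ = d * c * d⁻¹ := by rw [e1, e2, hc]; group
        _ = c := by
            rw [ht.T_comm h hTS (h.le_CS ht.spec.2.1 hdA) hcT, mul_inv_cancel_right]

/-- An element of `N_S(T)` is trivial on `T ⧸ A`. -/
theorem NS_triv {g : G} (hg : g ∈ NS S e) {t : G} (htT : t ∈ CS S e) : g * t * g⁻¹ * t⁻¹ ∈ A := by
  obtain ⟨k, hk⟩ := S.isPGroup' ⟨g, hg.1⟩
  exact ht.triv h hTS k (congrArg Subtype.val hk) hg.2 (h.S_le hg.1) t htT

theorem NS_mem_of_comm {g : G} (hg : g ∈ NS S e) {f : G} (hf : f ∈ CS S e) (hfA : f ∉ A)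
    (hgf : g * f = f * g) : g ∈ CS S e := by
  obtain ⟨k, hk⟩ := S.isPGroup' ⟨g, hg.1⟩
  exact ht.mem_of_comm h hTS (congrArg Subtype.val hk) hg.2 hf hfA hgf

theorem card_T_le : Nat.card ↥(CS S e) ≤ 16 := by
  obtain ⟨g, hg, hgT⟩ := ht.exists_outside h hTS
  have hAT : A ≤ CS S e := h.le_CS ht.spec.2.1
  haveI : (A.subgroupOf (CS S e)).Normal := (normal_subgroupOf_iff_le_normalizer hAT).2
    ((h.CS_le_cenA e).trans (centralizer_le_normalizer _))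
  let θ : ↥(CS S e) →* ↥A :=
    { toFun := fun t => ⟨g * t * g⁻¹ * (t : G)⁻¹, ht.NS_triv h hTS hg t.2⟩
      map_one' := Subtype.ext (by simp)
      map_mul' := fun s t => Subtype.ext (by
        have hc : Commute (g * (t : G) * g⁻¹ * (t : G)⁻¹) (s : G) :=
          mem_centralizer_iff.1 (h.CS_le_cenA e s.2) _ (ht.NS_triv h hTS hg t.2)
        push_cast
        calc g * ((s : G) * t) * g⁻¹ * ((s : G) * t)⁻¹
            = g * s * g⁻¹ * (g * (t : G) * g⁻¹ * (t : G)⁻¹ * (s : G)⁻¹) := by group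
          _ = g * s * g⁻¹ * ((s : G)⁻¹ * (g * (t : G) * g⁻¹ * (t : G)⁻¹)) := by rw [hc.inv_right.eq]
          _ = _ := by group) }
  have hker : θ.ker ≤ A.subgroupOf (CS S e) := fun t htk => by
    by_contra htA
    refine hgT (ht.NS_mem_of_comm h hTS hg t.2 htA ?_)
    have : g * t * g⁻¹ * (t : G)⁻¹ = 1 := congrArg Subtype.val (MonoidHom.mem_ker.1 htk)
    rwa [mul_inv_eq_one, mul_inv_eq_iff_eq_mul] at this
  have h1 := θ.ker.card_mul_index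
  rw [Subgroup.index_ker] at h1
  have h2 : Nat.card θ.ker ≤ 4 := by
    refine (Subgroup.card_le_of_le hker).trans ?_
    rw [Nat.card_congr (subgroupOfEquivOfLe hAT).toEquiv, h.card]
  have h3 : Nat.card θ.range ≤ 4 :=
    (Nat.le_of_dvd Nat.card_pos (card_subgroup_dvd_card _)).trans h.card.le
  rw [← h1]
  exact Nat.mul_le_mul h2 h3

end Top

/-- The configuration with `T < S`, normalised. -/
structure Deep (S : Sylow 2 G) (A : Subgroup G) (e n : G) : Prop where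
  top : Top S A e
  lt : CS S e ≠ (S : Subgroup G)
  n_norm : n ∈ normalizer (A : Set G)
  n_move : n ∉ centralizer (A : Set G)
  n_odd : Odd (orderOf n)
  n_e : n * e = e * n
  n_T : n ∈ normalizer (CS S e : Set G)
  n_triv : ∀ t ∈ CS S e, n * t * n⁻¹ * t⁻¹ ∈ A
  n_NS : n ∈ normalizer (NS S e : Set G)
  surj : ∀ a ∈ A, ∃ g ∈ NS S e, g * e * g⁻¹ * e⁻¹ = a

/-- An odd power of an element moving `A` moves `A`. -/
theorem Ctx.pow_two_move (h : Ctx S A) {g : G} (hg : g ∈ normalizer (A : Set G))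
    (hgc : g ∉ centralizer (A : Set G)) (j : ℕ) : g ^ 2 ^ j ∉ centralizer (A : Set G) := by
  intro hc
  refine hgc ?_
  have hcop : Nat.Coprime 3 (2 ^ j) := Nat.Coprime.pow_right j (by norm_num)
  have hb : (3 : ℕ) * Nat.gcdA 3 (2 ^ j) + (2 ^ j : ℕ) * Nat.gcdB 3 (2 ^ j) = (1 : ℤ) := by
    rw [← Nat.gcd_eq_gcd_ab, hcop]; rfl
  have e1 : g = (g ^ 3) ^ Nat.gcdA 3 (2 ^ j) * (g ^ 2 ^ j) ^ Nat.gcdB 3 (2 ^ j) := by
    conv_lhs => rw [← zpow_one g, ← hb]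
    rw [zpow_add, zpow_mul, zpow_mul, zpow_natCast, zpow_natCast]
  rw [e1]
  exact mul_mem (zpow_mem (h.pow_three_mem hg hgc) _) (zpow_mem hc _)

/-- The elements of `N(T) ∩ C(A)` trivial on `T ⧸ A`. -/
def gamma (S : Sylow 2 G) (A : Subgroup G) (e : G) (he : A ≤ CS S e) : Subgroup G where
  carrier := {g | g ∈ normalizer (CS S e : Set G) ∧ g ∈ centralizer (A : Set G) ∧
    ∀ t ∈ CS S e, g * t * g⁻¹ * t⁻¹ ∈ A}
  one_mem' := ⟨one_mem _, one_mem _, fun t _ => by simp⟩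
  mul_mem' := by
    rintro x y ⟨hx, hxA, hx'⟩ ⟨hy, hyA, hy'⟩
    refine ⟨mul_mem hx hy, mul_mem hxA hyA, fun t ht => ?_⟩
    have e1 : x * y * t * (x * y)⁻¹ * t⁻¹ =
        (x * (y * t * y⁻¹ * t⁻¹) * x⁻¹) * (x * t * x⁻¹ * t⁻¹) := by group
    rw [e1, ← mem_centralizer_iff.1 hxA _ (hy' t ht), mul_inv_cancel_right]
    exact mul_mem (hy' t ht) (hx' t ht)
  inv_mem' := by
    rintro x ⟨hx, hxA, hx'⟩
    refine ⟨inv_mem hx, inv_mem hxA, fun t ht => ?_⟩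
    have e1 : x⁻¹ * t * x⁻¹⁻¹ * t⁻¹ = (x⁻¹ * (x * t * x⁻¹ * t⁻¹) * x⁻¹⁻¹)⁻¹ := by group
    rw [e1, ← mem_centralizer_iff.1 (inv_mem hxA) _ (hx' t ht), mul_inv_cancel_right]
    exact inv_mem (hx' t ht)

namespace Top

variable {e : G} (ht : Top S A e) (h : Ctx S A)
include ht h

/-- The commutator with `e` on `gamma`. -/
theorem exists_theta : ∃ θ : ↥(gamma S A e (h.le_CS ht.spec.2.1)) →* ↥A,
    ∀ g, (θ g : G) = g * e * (g : G)⁻¹ * e⁻¹ := by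
  refine ⟨{
    toFun := fun g => ⟨g * e * (g : G)⁻¹ * e⁻¹, g.2.2.2 e ht.self_mem⟩
    map_one' := Subtype.ext (by simp)
    map_mul' := fun x y => Subtype.ext (by
      have hy := y.2.2.2 e ht.self_mem
      push_cast
      calc (x : G) * y * e * ((x : G) * y)⁻¹ * e⁻¹
          = ((x : G) * ((y : G) * e * (y : G)⁻¹ * e⁻¹) * (x : G)⁻¹) *
              ((x : G) * e * (x : G)⁻¹ * e⁻¹) := by group
        _ = ((y : G) * e * (y : G)⁻¹ * e⁻¹) * ((x : G) * e * (x : G)⁻¹ * e⁻¹) := by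
            rw [← mem_centralizer_iff.1 x.2.2.1 _ hy, mul_inv_cancel_right]
        _ = _ := h.comm hy (x.2.2.2 e ht.self_mem)) }, fun g => rfl⟩

/-- A 2-group in `gamma` containing `T` has order at most `4 |T|`. -/
theorem card_gamma_two {R : Subgroup G} (hR : IsPGroup 2 R)
    (hRg : R ≤ gamma S A e (h.le_CS ht.spec.2.1)) (hTR : CS S e ≤ R) :
    Nat.card R ≤ 4 * Nat.card ↥(CS S e) := by
  obtain ⟨θ, hθ⟩ := ht.exists_theta h
  let φ := θ.comp (Subgroup.inclusion hRg)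
  have h1 := φ.ker.card_mul_index
  rw [Subgroup.index_ker] at h1
  have h3 : Nat.card φ.range ≤ 4 :=
    (Nat.le_of_dvd Nat.card_pos (card_subgroup_dvd_card _)).trans h.card.le
  have h2 : Nat.card φ.ker ≤ Nat.card ↥(CS S e) := by
    rw [← card_map_of_injective R.subtype_injective]
    refine le_of_eq (congrArg (fun H : Subgroup G => Nat.card H) (ht.eq_of_le ((hR.to_subgroup _).map _) ?_ ?_))
    · rintro _ ⟨x, hx, rfl⟩
      have h4 : (x : G) * e * (x : G)⁻¹ * e⁻¹ = 1 :=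
        (hθ _).symm.trans (congrArg Subtype.val (MonoidHom.mem_ker.1 hx))
      rw [mul_inv_eq_one, mul_inv_eq_iff_eq_mul] at h4
      exact mem_cen.2 h4
    · intro t htT
      refine ⟨⟨t, hTR htT⟩, MonoidHom.mem_ker.2 (Subtype.ext ((hθ _).trans ?_)), rfl⟩
      show t * e * t⁻¹ * e⁻¹ = 1
      rw [mem_cen.1 htT.2, mul_inv_cancel_right, mul_inv_cancel]
  rw [← h1, mul_comm 4]
  exact Nat.mul_le_mul h2 h3

theorem NS_le_gamma (hTS : CS S e ≠ (S : Subgroup G)) : NS S e ≤ gamma S A e (h.le_CS ht.spec.2.1) :=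
  fun _ hg => ⟨hg.2, h.S_le hg.1, fun _ htT => ht.NS_triv h hTS hg htT⟩

/-- With `g ↦ [g, e]` onto `A` a moving element can be adjusted. -/
theorem exists_deep (hTS : CS S e ≠ (S : Subgroup G))
    (hsurj : ∀ a ∈ A, ∃ g ∈ NS S e, g * e * g⁻¹ * e⁻¹ = a) : ∃ n, Deep S A e n := by
  haveI : Fact (Nat.Prime 2) := ⟨Nat.prime_two⟩
  obtain ⟨L, n₀, hF⟩ := ht.exists_frame h
  set T := CS S e with hT
  set Γ := gamma S A e (h.le_CS ht.spec.2.1) with hΓ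
  have hn₀e : n₀ * e = e * n₀ := hF.n_R e hF.mem_R
  have hn₀triv : ∀ t ∈ T, n₀ * t * n₀⁻¹ * t⁻¹ ∈ A := by
    intro t htT
    obtain ⟨a, ha, r, hr, rfl⟩ := hF.prod t htT
    have e1 : n₀ * (a * r) * n₀⁻¹ * (a * r)⁻¹ = n₀ * a * n₀⁻¹ * a⁻¹ := by
      calc n₀ * (a * r) * n₀⁻¹ * (a * r)⁻¹ = n₀ * a * n₀⁻¹ * (n₀ * r * n₀⁻¹ * r⁻¹) * a⁻¹ := by group
        _ = _ := by rw [hF.n_R r hr, mul_inv_cancel_right, mul_inv_cancel, mul_one]
    rw [e1]
    exact mul_mem ((h.set.conj_mem_iff hF.n_norm).1 ha) (inv_mem ha)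
  have hconj : ∀ g ∈ Γ, n₀ * g * n₀⁻¹ ∈ Γ := by
    rintro g ⟨hgT, hgA, hg'⟩
    refine ⟨mul_mem (mul_mem hF.n_T hgT) (inv_mem hF.n_T), mem_centralizer_iff.2 fun a ha => ?_,
      fun t htT => ?_⟩
    · have hb : n₀⁻¹ * a * n₀ ∈ A := (h.set.conj_mem_iff hF.n_norm).2 (by
        rwa [show n₀ * (n₀⁻¹ * a * n₀) * n₀⁻¹ = a by group])
      calc a * (n₀ * g * n₀⁻¹) = n₀ * ((n₀⁻¹ * a * n₀) * g) * n₀⁻¹ := by group
        _ = n₀ * (g * (n₀⁻¹ * a * n₀)) * n₀⁻¹ := by rw [mem_centralizer_iff.1 hgA _ hb]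
        _ = n₀ * g * n₀⁻¹ * a := by group
    · have ht' : n₀⁻¹ * t * n₀ ∈ T := (mem_normalizer_iff.1 hF.n_T _).2 (by
        rwa [show n₀ * (n₀⁻¹ * t * n₀) * n₀⁻¹ = t by group])
      have e1 : n₀ * g * n₀⁻¹ * t * (n₀ * g * n₀⁻¹)⁻¹ * t⁻¹ =
          n₀ * (g * (n₀⁻¹ * t * n₀) * g⁻¹ * (n₀⁻¹ * t * n₀)⁻¹) * n₀⁻¹ := by group
      rw [e1]
      exact (h.set.conj_mem_iff hF.n_norm).1 (hg' _ ht')
  have hNΓ : NS S e ≤ Γ := ht.NS_le_gamma h hTS
  have hN4 : 4 * Nat.card ↥T ≤ Nat.card ↥(NS S e) := by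
    obtain ⟨θ, hθ⟩ := ht.exists_theta h
    let φ := θ.comp (Subgroup.inclusion hNΓ)
    have h1 := φ.ker.card_mul_index
    rw [Subgroup.index_ker, MonoidHom.range_eq_top.2 fun a => ?_, card_top, h.card] at h1
    · rw [← h1, mul_comm 4]
      refine Nat.mul_le_mul_right 4 ?_
      have hTK : T.subgroupOf (NS S e) ≤ φ.ker := fun x hx => MonoidHom.mem_ker.2 (Subtype.ext ((hθ _).trans (by
        show (x : G) * e * (x : G)⁻¹ * e⁻¹ = 1
        rw [mem_cen.1 (show (x : G) ∈ T from hx).2, mul_inv_cancel_right, mul_inv_cancel])))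
      have := Subgroup.card_le_of_le hTK
      rwa [Nat.card_congr (subgroupOfEquivOfLe (CS_le_NS e)).toEquiv] at this
    · obtain ⟨g, hg, hge⟩ := hsurj a a.2
      exact ⟨⟨g, hg⟩, Subtype.ext ((hθ _).trans hge)⟩
  let N' : Sylow 2 ↥Γ :=
    { toSubgroup := (NS S e).subgroupOf Γ
      isPGroup' := (NS_two e).comap_of_injective Γ.subtype Γ.subtype_injective
      is_maximal' := fun {Q} hQ hle => by
        have h1 : NS S e ≤ Q.map Γ.subtype := fun s hs => ⟨⟨s, hNΓ hs⟩, hle hs, rfl⟩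
        have h2 := eq_of_le_of_card_ge h1 ((ht.card_gamma_two h (hQ.map Γ.subtype) (map_subtype_le Q)
          ((CS_le_NS e).trans h1)).trans hN4)
        ext ⟨s, hs⟩
        rw [mem_subgroupOf, h2]
        simp [hs] }
  have hconjN : (NS S e).map (MulAut.conj n₀).toMonoidHom ≤ Γ := by
    rintro _ ⟨s, hs, rfl⟩
    exact hconj s (hNΓ hs)
  obtain ⟨Q, hQ⟩ := (((NS_two e).map (MulAut.conj n₀).toMonoidHom).comap_of_injective Γ.subtype
    Γ.subtype_injective : IsPGroup 2 (((NS S e).map (MulAut.conj n₀).toMonoidHom).subgroupOf Γ)).exists_le_sylow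
  obtain ⟨c, hc⟩ := MulAction.exists_smul_eq ↥Γ Q N'
  have hcN : ∀ s ∈ NS S e, ((c : G) * n₀) * s * ((c : G) * n₀)⁻¹ ∈ NS S e := by
    intro s hs
    have h1 : n₀ * s * n₀⁻¹ ∈ (NS S e).map (MulAut.conj n₀).toMonoidHom := ⟨s, hs, rfl⟩
    have h2 : c * ⟨n₀ * s * n₀⁻¹, hconjN h1⟩ * c⁻¹ ∈ (N' : Subgroup ↥Γ) := by
      rw [← hc, Sylow.coe_subgroup_smul]
      exact ⟨_, hQ h1, rfl⟩
    have h3 : (c : G) * (n₀ * s * n₀⁻¹) * (c : G)⁻¹ ∈ NS S e := h2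
    rwa [show (c : G) * n₀ * s * ((c : G) * n₀)⁻¹ = (c : G) * (n₀ * s * n₀⁻¹) * (c : G)⁻¹ by group]
  obtain ⟨p, hp, hpe⟩ := hsurj _ (c.2.2.2 e ht.self_mem)
  set g1 := p⁻¹ * ((c : G) * n₀) with hg1
  have hpc : p⁻¹ * (c : G) ∈ Γ := mul_mem (inv_mem (hNΓ hp)) c.2
  have hpce : p⁻¹ * (c : G) * e = e * (p⁻¹ * (c : G)) := by
    have h1 : p * e * p⁻¹ = (c : G) * e * (c : G)⁻¹ := mul_right_cancel hpe
    calc p⁻¹ * (c : G) * e = p⁻¹ * ((c : G) * e * (c : G)⁻¹) * c := by group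
      _ = e * (p⁻¹ * (c : G)) := by rw [← h1]; group
  have hg1N : g1 ∈ normalizer (A : Set G) := by
    rw [hg1, ← mul_assoc]
    exact mul_mem (centralizer_le_normalizer _ hpc.2.1) hF.n_norm
  have hg1m : g1 ∉ centralizer (A : Set G) := fun hc' => hF.n_move (by
    have := mul_mem (inv_mem hpc.2.1) hc'
    rwa [hg1, show (p⁻¹ * (c : G))⁻¹ * (p⁻¹ * ((c : G) * n₀)) = n₀ by group] at this)
  have hg1e : g1 * e = e * g1 := by
    rw [hg1, ← mul_assoc, mul_assoc _ n₀ e, hn₀e, ← mul_assoc, hpce, mul_assoc]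
  have hg1T : g1 ∈ normalizer (T : Set G) := by
    rw [hg1, ← mul_assoc]
    exact mul_mem hpc.1 hF.n_T
  have hg1triv : ∀ t ∈ T, g1 * t * g1⁻¹ * t⁻¹ ∈ A := by
    intro t htT
    have e1 : g1 * t * g1⁻¹ * t⁻¹ = ((p⁻¹ * (c : G)) * (n₀ * t * n₀⁻¹ * t⁻¹) * (p⁻¹ * (c : G))⁻¹) *
        ((p⁻¹ * (c : G)) * t * (p⁻¹ * (c : G))⁻¹ * t⁻¹) := by rw [hg1]; group
    rw [e1, ← mem_centralizer_iff.1 hpc.2.1 _ (hn₀triv t htT), mul_inv_cancel_right]
    exact mul_mem (hn₀triv t htT) (hpc.2.2 t htT)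
  have hg1NS : g1 ∈ normalizer (NS S e : Set G) := by
    refine mul_mem (le_normalizer (inv_mem hp)) ?_
    rw [← LEBasic.map_conj_eq_iff_mem_normalizer]
    refine eq_of_le_of_card_ge ?_ (LEBasic.card_map_conj (NS S e) _).ge
    rintro _ ⟨y, hy, rfl⟩
    exact hcN y hy
  obtain ⟨j, hjo, -⟩ := exists_odd_pow g1
  have hpow : ∀ m : ℕ, ∀ t ∈ T, g1 ^ m * t * (g1 ^ m)⁻¹ * t⁻¹ ∈ A := by
    intro m
    induction m with
    | zero => intro t _; simp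
    | succ m ih =>
      intro t htT
      have e1 : g1 ^ (m + 1) * t * (g1 ^ (m + 1))⁻¹ * t⁻¹ =
          (g1 * (g1 ^ m * t * (g1 ^ m)⁻¹ * t⁻¹) * g1⁻¹) * (g1 * t * g1⁻¹ * t⁻¹) := by
        rw [pow_succ']; group
      rw [e1]
      exact mul_mem ((h.set.conj_mem_iff hg1N).1 (ih t htT)) (hg1triv t htT)
  exact ⟨g1 ^ 2 ^ j, ht, hTS, pow_mem hg1N _, h.pow_two_move hg1N hg1m j, hjo,
    ((show Commute g1 e from hg1e).pow_left _).eq, pow_mem hg1T _, hpow _, pow_mem hg1NS _, hsurj⟩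

/-- Some conjugate of `e` has `N_S(T) ⧸ T ≅ A`. -/
theorem exists_deep_conj (hTS : CS S e ≠ (S : Subgroup G)) : ∃ e' n, Deep S A e' n := by
  haveI : Fact (Nat.Prime 2) := ⟨Nat.prime_two⟩
  obtain ⟨L, n₀, hF⟩ := ht.exists_frame h
  set T := CS S e with hT
  set Γ := gamma S A e (h.le_CS ht.spec.2.1) with hΓ
  obtain ⟨θ, hθ⟩ := ht.exists_theta h
  have hTΓ : T ≤ Γ := (CS_le_NS e).trans (ht.NS_le_gamma h hTS)
  have hn₀e : n₀ * e = e * n₀ := hF.n_R e hF.mem_R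
  -- `θ` is onto
  obtain ⟨g₀, hg₀, hg₀T⟩ := ht.exists_outside h hTS
  have hg₀Γ : g₀ ∈ Γ := ht.NS_le_gamma h hTS hg₀
  set α := g₀ * e * g₀⁻¹ * e⁻¹ with hα
  have hαA : α ∈ A := hg₀Γ.2.2 e ht.self_mem
  have hα1 : α ≠ 1 := fun h1 => hg₀T ⟨hg₀.1, mem_cen.2 (by
    rw [hα, mul_inv_eq_one, mul_inv_eq_iff_eq_mul] at h1; exact h1)⟩
  have hn₀Γ : n₀ * g₀ * n₀⁻¹ ∈ Γ := by
    refine ⟨mul_mem (mul_mem hF.n_T hg₀Γ.1) (inv_mem hF.n_T), mem_centralizer_iff.2 fun a ha => ?_,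
      fun t htT => ?_⟩
    · have hb : n₀⁻¹ * a * n₀ ∈ A := (h.set.conj_mem_iff hF.n_norm).2 (by
        rwa [show n₀ * (n₀⁻¹ * a * n₀) * n₀⁻¹ = a by group])
      calc a * (n₀ * g₀ * n₀⁻¹) = n₀ * ((n₀⁻¹ * a * n₀) * g₀) * n₀⁻¹ := by group
        _ = n₀ * (g₀ * (n₀⁻¹ * a * n₀)) * n₀⁻¹ := by rw [mem_centralizer_iff.1 hg₀Γ.2.1 _ hb]
        _ = n₀ * g₀ * n₀⁻¹ * a := by group
    · have ht' : n₀⁻¹ * t * n₀ ∈ T := (mem_normalizer_iff.1 hF.n_T _).2 (by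
        rwa [show n₀ * (n₀⁻¹ * t * n₀) * n₀⁻¹ = t by group])
      have e1 : n₀ * g₀ * n₀⁻¹ * t * (n₀ * g₀ * n₀⁻¹)⁻¹ * t⁻¹ =
          n₀ * (g₀ * (n₀⁻¹ * t * n₀) * g₀⁻¹ * (n₀⁻¹ * t * n₀)⁻¹) * n₀⁻¹ := by group
      rw [e1]
      exact (h.set.conj_mem_iff hF.n_norm).1 (hg₀Γ.2.2 _ ht')
  have hαθ : ((θ ⟨g₀, hg₀Γ⟩ : ↥A) : G) = α := hθ _
  have hβθ : ((θ ⟨_, hn₀Γ⟩ : ↥A) : G) = n₀ * α * n₀⁻¹ := by
    rw [hθ, hα]
    show n₀ * g₀ * n₀⁻¹ * e * (n₀ * g₀ * n₀⁻¹)⁻¹ * e⁻¹ = _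
    have h1 : n₀⁻¹ * e * n₀ = e := by rw [mul_assoc, ← hn₀e, inv_mul_cancel_left]
    have h2 : n₀ * e⁻¹ * n₀⁻¹ = e⁻¹ := by
      rw [(show Commute n₀ e from hn₀e).inv_right.eq, mul_inv_cancel_right]
    calc n₀ * g₀ * n₀⁻¹ * e * (n₀ * g₀ * n₀⁻¹)⁻¹ * e⁻¹
        = n₀ * g₀ * (n₀⁻¹ * e * n₀) * g₀⁻¹ * n₀⁻¹ * e⁻¹ := by group
      _ = n₀ * g₀ * e * g₀⁻¹ * n₀⁻¹ * (n₀ * e⁻¹ * n₀⁻¹) := by rw [h1, h2]
      _ = _ := by group
  have hrange : ∀ a : ↥A, a ∈ θ.range := by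
    intro a
    have hbA : n₀ * α * n₀⁻¹ ∈ A := (h.set.conj_mem_iff hF.n_norm).1 hαA
    have hba := (h.moving_cycle hF.n_norm hF.n_move hαA hα1).1
    rcases h.cases_four hαA hbA hα1 (fun e1 => hα1 (conj_eq_one_iff.1 e1)) (Ne.symm hba) a.2 with
      e1 | e1 | e1 | e1
    · rw [show a = 1 from Subtype.ext e1]; exact one_mem _
    · exact ⟨_, Subtype.ext (hαθ.trans e1.symm)⟩
    · exact ⟨_, Subtype.ext (hβθ.trans e1.symm)⟩
    · exact ⟨⟨g₀, hg₀Γ⟩ * ⟨_, hn₀Γ⟩, Subtype.ext (by rw [map_mul, Subgroup.coe_mul, hαθ, hβθ, e1])⟩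
  obtain ⟨Pp, hPp⟩ := ((cS_two e).comap_of_injective Γ.subtype Γ.subtype_injective :
    IsPGroup 2 (T.subgroupOf Γ)).exists_le_sylow
  set P' := (Pp : Subgroup ↥Γ).map Γ.subtype with hP'
  have hP'2 : IsPGroup 2 P' := Pp.isPGroup'.map _
  have hP'A : P' ≤ centralizer (A : Set G) := (map_subtype_le _).trans fun x hx => hx.2.1
  obtain ⟨g, hg, hgS⟩ := h.exists_conj_into hP'2 hP'A
  have hTP : T ≤ P' := fun x hx => ⟨⟨x, hTΓ hx⟩, hPp hx, rfl⟩
  set e' := g * e * g⁻¹ with he'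
  have hspec : Special A e' := h.special_conj hg ht.spec
  have he'S : e' ∈ (S : Subgroup G) := hgS e (hTP ht.self_mem)
  have hmap : T.map (MulAut.conj g).toMonoidHom = CS S e' := by
    refine eq_of_le_of_card_ge ?_ ?_
    · rintro _ ⟨x, hx, rfl⟩
      exact ⟨hgS x (hTP hx), mem_cen.2 (by
        show g * x * g⁻¹ * (g * e * g⁻¹) = g * e * g⁻¹ * (g * x * g⁻¹)
        rw [conj_mul, conj_mul, mem_cen.1 hx.2])⟩
    · rw [LEBasic.card_map_conj]
      exact ht.max e' hspec.1 hspec.2.1 hspec.2.2.1 _ (cS_two e') inf_le_right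
  have ht' : Top S A e' := ⟨hspec, he'S, fun f h1 h2 h3 R hR hRf => by
    rw [← hmap, LEBasic.card_map_conj]; exact ht.max f h1 h2 h3 R hR hRf⟩
  have hTS' : CS S e' ≠ (S : Subgroup G) := fun h1 => hTS (eq_of_le_of_card_ge inf_le_left (by
    rw [← LEBasic.card_map_conj T g, hmap, h1]))
  have hP'n : P' ≤ normalizer (T : Set G) := (map_subtype_le _).trans fun x hx => hx.1
  refine ⟨e', ht'.exists_deep h hTS' fun a ha => ?_⟩
  have ha' : g⁻¹ * a * g ∈ A := (h.set.conj_mem_iff hg).2 (by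
    rwa [show g * (g⁻¹ * a * g) * g⁻¹ = a by group])
  let π' : ↥(Pp : Subgroup ↥Γ) →* ↥A := θ.comp (Pp : Subgroup ↥Γ).subtype
  have hθsurj : Function.Surjective θ := fun a => hrange a
  have htop : (Pp : Subgroup ↥Γ).map θ = ⊤ := by
    have hA2 : IsPGroup 2 ↥A := h.set.isPGroup
    have := (Pp.mapSurjective hθsurj).3 (hA2.to_subgroup ⊤) le_top
    simpa using this.symm
  obtain ⟨p, hp, hpe⟩ : (⟨_, ha'⟩ : ↥A) ∈ (Pp : Subgroup ↥Γ).map θ := htop ▸ Subgroup.mem_top _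
  have hpP : (p : G) ∈ P' := ⟨p, hp, rfl⟩
  refine ⟨g * (p : G) * g⁻¹, ⟨hgS _ hpP, ?_⟩, ?_⟩
  · show g * (p : G) * g⁻¹ ∈ normalizer (CS S e' : Set G)
    rw [← hmap, ← LEBasic.map_conj_eq_iff_mem_normalizer]
    refine eq_of_le_of_card_ge ?_ (LEBasic.card_map_conj _ _).ge
    rintro _ ⟨_, ⟨x, hx, rfl⟩, rfl⟩
    refine ⟨(p : G) * x * (p : G)⁻¹, (mem_normalizer_iff.1 (hP'n hpP) x).1 hx, ?_⟩
    show g * ((p : G) * x * (p : G)⁻¹) * g⁻¹ = g * p * g⁻¹ * (g * x * g⁻¹) * (g * p * g⁻¹)⁻¹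
    group
  · have h1 : (p : G) * e * (p : G)⁻¹ * e⁻¹ = g⁻¹ * a * g := (hθ p).symm.trans (congrArg Subtype.val hpe)
    calc g * (p : G) * g⁻¹ * e' * (g * (p : G) * g⁻¹)⁻¹ * e'⁻¹
        = g * ((p : G) * e * (p : G)⁻¹ * e⁻¹) * g⁻¹ := by rw [he']; group
      _ = a := by rw [h1]; group

end Top

end Cfsg.Agent.Gold1169.Two
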