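import Cfsg.Agent.Lib.Gold1169.Two.FamT

/-!
Trivial functors in the final configuration: the tools.
-/

set_option autoImplicit false
set_option linter.style.haveILetI false
set_option linter.unusedSectionVars false

namespace Cfsg.Agent.Gold1169.Two

open Subgroup
open Cfsg.Agent.Walter4 (cen cenS ocen cor XB pre CA mem_pre cor_zpowers pre_le)
open Cfsg.Agent.OddDown.CoreSep (q im mem_im)
open scoped commutatorElement

universe u

attribute [local instance] FittingCores.pPrimeCore_normal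

variable {G : Type u} [Group G] [Finite G] {S : Sylow 2 G} {A T Y : Subgroup G}

theorem mem_normalizer_of_conj {H : Subgroup G} {g : G} (hg : ∀ x ∈ H, g * x * g⁻¹ ∈ H) :
    g ∈ normalizer (H : Set G) := by
  rw [← LEBasic.map_conj_eq_iff_mem_normalizer]
  refine eq_of_le_of_card_ge ?_ (LEBasic.card_map_conj H g).ge
  rintro _ ⟨x, hx, rfl⟩
  exact hg x hx

theorem odd_of_cor {B : Subgroup G} {x : G} (hx : x ∈ cor B) : Odd (orderOf x) :=
  Walter4.orderOf_odd_of_cor hx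

theorem odd_of_ocen {a x : G} (hx : x ∈ ocen a) : Odd (orderOf x) :=
  (ocen_odd a).of_dvd_nat (orderOf_dvd_natCard _ hx)

theorem comm_inverted {b y : G} (hb : b * b = 1) :
    b * (y * b * y⁻¹ * b⁻¹) * b⁻¹ = (y * b * y⁻¹ * b⁻¹)⁻¹ := by
  simp only [inv_eq_of_mul_eq_one_right hb, mul_inv_rev, inv_inv, mul_assoc, hb, mul_one]

/-- A commutator with an involution centralised by everything commuting with both. -/
theorem comm_commute {t b y : G} (h1 : Commute t y) (h2 : Commute t b) :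
    Commute t (y * b * y⁻¹ * b⁻¹) :=
  ((h1.mul_right h2).mul_right h1.inv_right).mul_right h2.inv_right

namespace Final

variable (hF : Final S A T Y) (h : Ctx S A)
include hF h

theorem T_inv {t : G} (ht : t ∈ T) : t⁻¹ = t := inv_eq_of_mul_eq_one_right (hF.T_sq t ht)

theorem T_cenA {t : G} (ht : t ∈ T) : t ∈ centralizer (A : Set G) := h.S_le (hF.T_le ht)

theorem T_normalizes_ocen {r : G} (hr : r ∈ T) {t x : G} (ht : t ∈ T) (hx : x ∈ ocen r) :
    t * x * t⁻¹ ∈ ocen r :=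
  (mem_normalizer_iff.1 ((OddDown.CoreSep.core_props r).2.1 (mem_cen.2 (hF.T_comm h ht hr))) x).1 hx

theorem T_le_cenS {R : Subgroup G} (hR : IsR A T R) : T ≤ cenS R := fun _ ht =>
  mem_centralizer_iff.2 fun _ hr => hF.T_comm h (hR.le hr) ht

/-- The commutator with an element of `T` stays in the core. -/
theorem comm_ocen {r : G} (hr : r ∈ T) {t x : G} (ht : t ∈ T) (hx : x ∈ ocen r) :
    x * t * x⁻¹ * t⁻¹ ∈ ocen r := by
  rw [show x * t * x⁻¹ * t⁻¹ = x * (t * x⁻¹ * t⁻¹) by group]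
  exact mul_mem hx (hF.T_normalizes_ocen h hr ht (inv_mem hx))

/-- How an element of `T` written along `A` and `R` acts on an inverted element. -/
theorem act {R : Subgroup G} (hR : IsR A T R) {a b x : G} (ha : a ∈ A) (hb : b ∈ A) (ha1 : a ≠ 1)
    (hb1 : b ≠ 1) (hab : a ≠ b) (hxR : ∀ ρ ∈ R, ρ * x = x * ρ) (hxa : x * a = a * x)
    (hbx : b * x * b⁻¹ = x⁻¹) {p : G} (hp : p ∈ T) :
    (p ∈ R ∨ p * a ∈ R) ∨ p * x * p⁻¹ = x⁻¹ := by
  obtain ⟨c, hc, ρ, hρ, rfl⟩ := hR.prod p hp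
  have e1 : c * ρ * x * (c * ρ)⁻¹ = c * x * c⁻¹ := by
    rw [show c * ρ * x * (c * ρ)⁻¹ = c * (ρ * x * ρ⁻¹) * c⁻¹ by group, hxR ρ hρ, mul_inv_cancel_right]
  have e2 : a * ρ * a = ρ := by
    rw [hF.T_comm h (hF.A_T ha) (hR.le hρ), mul_assoc, h.sq ha, mul_one]
  rcases h.cases_four ha hb ha1 hb1 hab hc with rfl | rfl | rfl | rfl
  · exact Or.inl (Or.inl (by rw [one_mul]; exact hρ))
  · exact Or.inl (Or.inr (by rw [e2]; exact hρ))
  · exact Or.inr (e1.trans hbx)
  · refine Or.inr (e1.trans ?_)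
    rw [show a * b * x * (a * b)⁻¹ = a * (b * x * b⁻¹) * a⁻¹ by group, hbx,
      ((show Commute x a from hxa).inv_left).symm.eq, mul_inv_cancel_right]

/-- Another complement has an element inverting. -/
theorem exists_inverter {R R' : Subgroup G} (hR : IsR A T R) (hR' : IsR A T R') (hne : R' ≠ R)
    {a b x : G} (ha : a ∈ A) (hb : b ∈ A) (ha1 : a ≠ 1)
    (hb1 : b ≠ 1) (hab : a ≠ b) (hxR : ∀ ρ ∈ R, ρ * x = x * ρ) (hxa : x * a = a * x)
    (hbx : b * x * b⁻¹ = x⁻¹) : ∃ p ∈ R', p * x * p⁻¹ = x⁻¹ := by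
  by_contra hno
  push Not at hno
  have key : ∀ p ∈ R', p ≠ 1 → p * a ∈ R := by
    intro p hp hp1
    rcases hF.act h hR ha hb ha1 hb1 hab hxR hxa hbx (hR'.le hp) with (h1 | h1) | h1
    · exact absurd (hF.unique R' R hR' hR p hp h1 hp1) hne
    · exact h1
    · exact absurd h1 (hno p hp)
  obtain ⟨p, hp, hp1, q', hq', hq1, hpq⟩ : ∃ p ∈ R', p ≠ 1 ∧ ∃ q' ∈ R', q' ≠ 1 ∧ p * q' ≠ 1 := by
    obtain ⟨r, hr, hr1⟩ := R'.bot_or_exists_ne_one.resolve_left fun e0 => by
      have := hR'.card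
      rw [e0, card_bot] at this
      omega
    by_contra hno'
    push Not at hno'
    have hsub : (R' : Set G) ⊆ {1, r} := fun w hw => by
      by_cases hw1 : w = 1
      · exact Or.inl hw1
      · refine Or.inr ?_
        rw [Set.mem_singleton_iff, mul_eq_one_iff_eq_inv.1 (hno' w hw hw1 r hr hr1), hF.T_inv h (hR'.le hr)]
    have := Set.ncard_le_ncard hsub
    rw [Set.ncard_pair (Ne.symm hr1), ← Nat.card_coe_set_eq, SetLike.coe_sort_coe, hR'.card] at this
    omega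
  have h1 : p * q' ∈ R := by
    have h2 := mul_mem (key p hp hp1) (key q' hq' hq1)
    have e1 : p * a * (q' * a) = p * q' := by
      rw [hF.T_comm h (hR'.le hq') (hF.A_T ha), mul_assoc p a, ← mul_assoc a a, h.sq ha, one_mul]
    rwa [e1] at h2
  exact hne (hF.unique R' R hR' hR _ (mul_mem hp hq') h1 hpq)

/-- A criterion for triviality. -/
theorem eq_one_of (hbot : ∀ x ∈ T, x ≠ 1 → theta (Ps A T) x = ⊥) {x z : G} (hx : x ∈ T) (hx1 : x ≠ 1)
    (hz : z ∈ ocen x)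
    (hP : ∀ P ∈ Ps A T, (∃ p ∈ P, p * z * p⁻¹ = z⁻¹) ∨ z ∈ cor P) : z = 1 := by
  refine mem_bot.1 ((hbot x hx hx1).le ?_)
  refine mem_inf.2 ⟨hz, Subgroup.mem_iInf.2 fun P => ?_⟩
  rcases hP P P.2 with ⟨p, hp, hpz⟩ | hc
  · refine mem_of_sq_odd (H := Walter4.Blocks.factor (P : Subgroup G) x) (mem_sup_left ?_) (odd_of_ocen hz)
    have h1 := commutator_mem_commutator hz hp
    have h3 : p * z⁻¹ * p⁻¹ = z := by
      rw [show p * z⁻¹ * p⁻¹ = (p * z * p⁻¹)⁻¹ by group, hpz, inv_inv]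
    rwa [show ⁅z, p⁆ = z * z by
      rw [commutatorElement_def, show z * p * z⁻¹ * p⁻¹ = z * (p * z⁻¹ * p⁻¹) by group, h3]] at h1
  · exact mem_sup_right ⟨hz, hc⟩

end Final

end Cfsg.Agent.Gold1169.Two
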