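import Cfsg.Agent.Lib.Gold1169.Two.EndBasic
import Cfsg.Agent.Lib.Solvable.Coprime

/-!
Trivial functors: `A` centralises `O(C(R))`, and `O(C(r))` has an element inverted by a second point of
the complement of `r`.
-/

set_option autoImplicit false
set_option linter.style.haveILetI false
set_option linter.unusedSectionVars false

namespace Cfsg.Agent.Gold1169.Two

open Subgroup
open Cfsg.Agent.Walter4 (cen cenS ocen cor XB pre CA mem_pre cor_zpowers pre_le)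
open Cfsg.Agent.OddDown.CoreSep (q im mem_im)
open scoped commutatorElement

universe u

attribute [local instance] FittingCores.pPrimeCore_normal

variable {G : Type u} [Group G] [Finite G] {S : Sylow 2 G} {A T Y : Subgroup G}

namespace Final

variable (hF : Final S A T Y) (h : Ctx S A) (hbot : ∀ x ∈ T, x ≠ 1 → theta (Ps A T) x = ⊥)
include hF h hbot

/-- An element of `O(C(R))` centralising a point of `A` centralises `A`. -/
theorem centralizes_cor_of {R : Subgroup G} (hR : IsR A T R) {a y : G} (ha : a ∈ A) (ha1 : a ≠ 1)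
    (hy : y ∈ cor R) (hya : y * a = a * y) : y ∈ centralizer (A : Set G) := by
  refine mem_centralizer_iff.2 fun b hb => ?_
  by_cases hab : a = b
  · subst hab; exact hya.symm
  by_cases hb1 : b = 1
  · subst hb1; rw [one_mul, mul_one]
  set c := y * b * y⁻¹ * b⁻¹ with hc
  have hcR : c ∈ cor R := by
    rw [hc, show y * b * y⁻¹ * b⁻¹ = y * (b * y⁻¹ * b⁻¹) by group]
    exact mul_mem hy ((mem_normalizer_iff.1
      (Walter4.cor_normalized R (hF.T_le_cenS h hR (hF.A_T hb))) _).1 (inv_mem hy))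
  have hca : c * a = a * c :=
    (comm_commute (show Commute a y from hya.symm) (show Commute a b from h.comm ha hb)).eq.symm
  have hbc : b * c * b⁻¹ = c⁻¹ := comm_inverted (h.sq hb)
  have hcC : ∀ ρ ∈ R, ρ * c = c * ρ := fun ρ hρ => mem_centralizer_iff.1 (Walter4.cor_le R hcR) ρ hρ
  have hca' : c ∈ ocen a := h.mem_ocen_of_inverted ha ha1 hb hca (odd_of_cor hcR) hbc
  have hc1 : c = 1 := by
    refine hF.eq_one_of h hbot (hF.A_T ha) ha1 hca' ?_
    rintro P (rfl | hP)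
    · exact Or.inl ⟨b, hb, hbc⟩
    · by_cases hPR : P = R
      · exact Or.inr (hPR ▸ hcR)
      · exact Or.inl (hF.exists_inverter h hR hP hPR ha hb ha1 hb1 hab hcC hca hbc)
  rw [hc, mul_inv_eq_one, mul_inv_eq_iff_eq_mul] at hc1
  exact hc1.symm

/-- `A` centralises `O(C(R))`. -/
theorem centralizes_cor {R : Subgroup G} (hR : IsR A T R) : cor R ≤ centralizer (A : Set G) := by
  haveI : IsMulCommutative A := h.set.ea.1
  have hcyc : ¬ IsCyclic A := fun hcy => by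
    obtain ⟨g, hg⟩ := IsCyclic.exists_ofOrder_eq_natCard (α := A)
    rw [h.card] at hg
    have h1 : g ^ 2 = 1 := Subtype.ext (by rw [Subgroup.coe_pow, pow_two]; exact h.sq g.2)
    have := orderOf_dvd_of_pow_eq_one h1
    rw [hg] at this
    omega
  have hcop : (Nat.card A).Coprime (Nat.card (cor R)) := by
    rw [h.card, show (4 : ℕ) = 2 ^ 2 by rfl]
    exact (Walter4.cor_coprime R).symm.pow_left 2
  have hAn : A ≤ normalizer (cor R : Set G) :=
    (hF.A_T.trans (hF.T_le_cenS h hR)).trans (Walter4.cor_normalized R)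
  rw [← CoprimeAct.generated_by_centralizers hcyc hAn hcop]
  refine iSup₂_le fun a ha y hy => ?_
  exact hF.centralizes_cor_of h hbot hR ha.1 ha.2 hy.1 (mem_centralizer_singleton_iff.1 hy.2)

omit hbot in
/-- For a complement `Q` there is a nontrivial element of odd order centralising `Q` and a prescribed
point of `A`, inverted by an element of `A`. -/
theorem exists_torus {Q : Subgroup G} (hQ : IsR A T Q) {α : G} (hα : α ∈ A) (hα1 : α ≠ 1) :
    ∃ x b, b ∈ A ∧ x ≠ 1 ∧ Odd (orderOf x) ∧ (∀ ρ ∈ Q, ρ * x = x * ρ) ∧ x * α = α * x ∧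
      b * x * b⁻¹ = x⁻¹ := by
  obtain ⟨r, hr, hr1⟩ := Q.bot_or_exists_ne_one.resolve_left fun e0 => by
    have := hQ.card
    rw [e0, card_bot] at this
    omega
  have hrA := hF.not_mem_A h hQ hr hr1
  obtain ⟨-, -, -, L, hL, a₀, b₀, y, ha₀, hb₀, ha₀1, hyL, hya, hyo, hyc, hby⟩ :=
    hF.special r (hQ.le hr) hrA
  have hya0 : y ∈ ocen a₀ := h.mem_ocen_of_inverted ha₀ ha₀1 hb₀ hya hyo hby
  have hyr : y ∈ cen r := mem_cen.2 (mem_cenS_zpowers.1 (pre_le hyL))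
  set K := ocen a₀ ⊓ cen r with hK
  set N := K ⊓ cor (zpowers r) with hN
  have hconjK : ∀ t ∈ T, ∀ x ∈ K, t * x * t⁻¹ ∈ K := fun t ht x hx => by
    refine ⟨hF.T_normalizes_ocen h (hF.A_T ha₀) ht hx.1, mem_cen.2 ?_⟩
    have h1 : Commute t r := hF.T_comm h ht (hQ.le hr)
    exact ((h1.mul_left (show Commute x r from mem_cen.1 hx.2)).mul_left h1.inv_left).eq
  have hKn : ∀ t ∈ T, t ∈ normalizer (K : Set G) := fun t ht => mem_normalizer_of_conj (hconjK t ht)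
  have hrC : ∀ {g : G}, g * r = r * g → g ∈ normalizer (cor (zpowers r) : Set G) := fun hg =>
    Walter4.cor_normalized _ (mem_cenS_zpowers.2 hg)
  have hQK : Q ≤ normalizer (K : Set G) := fun t ht => hKn t (hQ.le ht)
  have hQN : Q ≤ normalizer (N : Set G) := fun t ht =>
    mem_normalizer_of_conj fun x hx => ⟨hconjK t (hQ.le ht) x hx.1,
      (mem_normalizer_iff.1 (hrC (hF.T_comm h (hQ.le ht) (hQ.le hr))) x).1 hx.2⟩
  have hKN : K ≤ normalizer (N : Set G) := fun g hg =>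
    mem_normalizer_of_conj fun x hx => ⟨K.mul_mem (K.mul_mem hg hx.1) (K.inv_mem hg),
      (mem_normalizer_iff.1 (hrC (mem_cen.1 hg.2)) x).1 hx.2⟩
  have hcop : (Nat.card Q).Coprime (Nat.card K) := by
    rw [hQ.card, show (4 : ℕ) = 2 ^ 2 by rfl]
    exact ((Walter4.ocen_coprime a₀).coprime_dvd_left
      (card_dvd_of_le (inf_le_left : K ≤ ocen a₀))).symm.pow_left 2
  have hsolv : Group.IsSolvable Q := Group.isSolvable_of_comm fun x z =>
    Subtype.ext (hF.T_comm h (hQ.le x.2) (hQ.le z.2))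
  have hfix : ∀ ρ ∈ Q, ρ * y * ρ⁻¹ * y⁻¹ ∈ N := fun ρ hρ => by
    have hρC : ρ ∈ cenS (zpowers r) := mem_cenS_zpowers.2 (hF.T_comm h (hQ.le hρ) (hQ.le hr))
    have hρL : ρ ∈ pre (zpowers r) (centralizer (L : Set (XB (zpowers r)))) :=
      mem_pre.2 ⟨hρC, le_centralizer_iff.1 (hQ.fix r hr hr1 L hL) (mem_im hρ hρC)⟩
    exact ⟨K.mul_mem (hconjK ρ (hQ.le hρ) y ⟨hya0, hyr⟩) (K.inv_mem ⟨hya0, hyr⟩), comm_mem_cor hρL hyL⟩
  obtain ⟨k, hk, hkc⟩ : ∃ k ∈ K ⊓ centralizer (Q : Set G), y⁻¹ * k ∈ N := by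
    obtain ⟨k, hk, hkc⟩ := CoprimeAct.exists_mem_centralizer hQK hcop (Or.inl hsolv)
      (inf_le_left : N ≤ K) hKN hQN (show y ∈ K from ⟨hya0, hyr⟩) hfix
    exact ⟨k, hk, hkc⟩
  have hb2 := h.sq hb₀
  set c := k * b₀ * k⁻¹ * b₀⁻¹ with hc
  have hcK : c ∈ K := by
    rw [hc, show k * b₀ * k⁻¹ * b₀⁻¹ = k * (b₀ * k⁻¹ * b₀⁻¹) by group]
    exact K.mul_mem hk.1 (hconjK b₀ (hF.A_T hb₀) _ (K.inv_mem hk.1))
  have hcy : c ∉ cor (zpowers r) := by
    intro hcc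
    refine hyc (mem_of_sq_odd ?_ hyo)
    -- `c` is `y y` modulo the core
    set o := y⁻¹ * k with ho
    have hoN : o ∈ cor (zpowers r) := hkc.2
    have hby' : b₀ * y⁻¹ * b₀⁻¹ = y := by
      rw [show b₀ * y⁻¹ * b₀⁻¹ = (b₀ * y * b₀⁻¹)⁻¹ by group, hby, inv_inv]
    have e1 : c = y * (o * (b₀ * o⁻¹ * b₀⁻¹)) * y := by
      calc c = y * o * b₀ * o⁻¹ * y⁻¹ * b₀⁻¹ := by rw [hc, show k = y * o by rw [ho]; group]; group
        _ = y * (o * (b₀ * o⁻¹ * b₀⁻¹)) * (b₀ * y⁻¹ * b₀⁻¹) := by group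
        _ = _ := by rw [hby']
    set d := o * (b₀ * o⁻¹ * b₀⁻¹) with hd
    have hdN : d ∈ cor (zpowers r) :=
      mul_mem hoN ((mem_normalizer_iff.1 (hrC (hF.T_comm h (hF.A_T hb₀) (hQ.le hr))) _).1 (inv_mem hoN))
    have e2 : y * y = (y * d * y⁻¹)⁻¹ * c := by rw [e1]; group
    rw [e2]
    exact mul_mem (inv_mem ((mem_normalizer_iff.1 (hrC (mem_cen.1 hyr)) d).1 hdN)) hcc
  have hc1 : c ≠ 1 := fun e1 => hcy (e1 ▸ one_mem _)
  have hcQ : ∀ ρ ∈ Q, ρ * c = c * ρ := fun ρ hρ =>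
    (comm_commute (show Commute ρ k from mem_centralizer_iff.1 hk.2 ρ hρ)
      (show Commute ρ b₀ from hF.T_comm h (hQ.le hρ) (hF.A_T hb₀))).eq
  have hca₀ : c * a₀ = a₀ * c := mem_cen.1 (ocen_le_cen a₀ hcK.1)
  have hbc : b₀ * c * b₀⁻¹ = c⁻¹ := comm_inverted hb2
  -- transport `a₀` to `α`
  obtain ⟨n, hn, hnc, -, -, hnT, -, -, R₀, hR₀, hnR₀⟩ := hF.mover
  obtain ⟨g, hg, hgQ⟩ := hF.trans R₀ Q hR₀ hQ
  set m := g * n * g⁻¹ with hm
  have hgN := h.set.S_le_normalizer hg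
  have hmN : m ∈ normalizer (A : Set G) := mul_mem (mul_mem hgN hn) (inv_mem hgN)
  have hmc : m ∉ centralizer (A : Set G) := fun hmc' => hnc (by
    have := mul_mem (mul_mem (inv_mem (h.S_le hg)) hmc') (h.S_le hg)
    rwa [hm, show g⁻¹ * (g * n * g⁻¹) * g = n by group] at this)
  have hmQ : ∀ ρ ∈ Q, m * ρ = ρ * m := by
    intro ρ hρ
    rw [← hgQ] at hρ
    obtain ⟨ρ₀, hρ₀, rfl⟩ := hρ
    show g * n * g⁻¹ * (g * ρ₀ * g⁻¹) = g * ρ₀ * g⁻¹ * (g * n * g⁻¹)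
    rw [show g * n * g⁻¹ * (g * ρ₀ * g⁻¹) = g * (n * ρ₀) * g⁻¹ by group, hnR₀ ρ₀ hρ₀]
    group
  have main : ∀ p : G, p ∈ normalizer (A : Set G) → (∀ ρ ∈ Q, p * ρ = ρ * p) → p * a₀ * p⁻¹ = α →
      ∃ x b, b ∈ A ∧ x ≠ 1 ∧ Odd (orderOf x) ∧ (∀ ρ ∈ Q, ρ * x = x * ρ) ∧ x * α = α * x ∧
        b * x * b⁻¹ = x⁻¹ := by
    intro p hp hpQ hpa
    refine ⟨p * c * p⁻¹, p * b₀ * p⁻¹, (h.set.conj_mem_iff hp).1 hb₀,
      fun e1 => hc1 (conj_eq_one_iff.1 e1), ?_, fun ρ hρ => ?_, ?_, ?_⟩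
    · rw [show p * c * p⁻¹ = MulAut.conj p c from rfl, MulEquiv.orderOf_eq]
      exact odd_of_ocen hcK.1
    · have h1 : Commute ρ p := (hpQ ρ hρ).symm
      exact ((h1.mul_right (hcQ ρ hρ)).mul_right h1.inv_right).eq
    · rw [← hpa, show p * c * p⁻¹ * (p * a₀ * p⁻¹) = p * (c * a₀) * p⁻¹ by group, hca₀]
      group
    · rw [show p * b₀ * p⁻¹ * (p * c * p⁻¹) * (p * b₀ * p⁻¹)⁻¹ = p * (b₀ * c * b₀⁻¹) * p⁻¹ by group, hbc]
      group
  obtain ⟨hne, e2⟩ := h.moving_cycle hmN hmc ha₀ ha₀1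
  rcases h.cases_four ha₀ ((h.set.conj_mem_iff hmN).1 ha₀) ha₀1
    (fun e1 => ha₀1 (conj_eq_one_iff.1 e1)) (Ne.symm hne) hα with e1 | e1 | e1 | e1
  · exact absurd e1 hα1
  · exact main 1 (one_mem _) (fun ρ _ => by rw [one_mul, mul_one]) (by rw [one_mul, inv_one, mul_one, e1])
  · exact main m hmN hmQ e1.symm
  · refine main (m * m) (mul_mem hmN hmN)
      (fun ρ hρ => ((show Commute m ρ from hmQ ρ hρ).mul_left (hmQ ρ hρ)).eq) ?_
    rw [e1, ← e2]; group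

omit hbot in
/-- For two points `r, r'` of a complement, `O(C(r))` has a nontrivial element inverted by `r'`. -/
theorem exists_inverted {R : Subgroup G} (hR : IsR A T R) {r r' : G} (hr : r ∈ R) (hr1 : r ≠ 1)
    (hr' : r' ∈ R) (hr'1 : r' ≠ 1) (hrr : r' ≠ r) :
    ∃ x ∈ ocen r, x ≠ 1 ∧ r' * x * r'⁻¹ = x⁻¹ := by
  obtain ⟨α, hα, hα1⟩ := A.bot_or_exists_ne_one.resolve_left h.ne_bot
  have hrA := hF.not_mem_A h hR hr hr1
  have hrα : r * α ∉ A := fun hA => hrA (by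
    have := mul_mem hA hα
    rwa [mul_assoc, h.sq hα, mul_one] at this)
  obtain ⟨Q, hQ, hrQ⟩ := hF.cover _ (mul_mem (hR.le hr) (hF.A_T hα)) hrα
  have hQR : R ≠ Q := fun e0 => hF.not_mem_A h hR
    (show r⁻¹ * (r * α) ∈ R from mul_mem (inv_mem hr) (e0 ▸ hrQ)) (by rw [inv_mul_cancel_left]; exact hα1)
    (by rw [inv_mul_cancel_left]; exact hα)
  obtain ⟨x, b, hb, hx1, hxo, hxQ, hxα, hbx⟩ := hF.exists_torus h hQ hα hα1
  have hb1 : b ≠ 1 := fun e1 => hx1 (eq_one_of_sq_odd (by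
    rw [e1, one_mul, inv_one, mul_one] at hbx
    nth_rewrite 2 [hbx]
    rw [mul_inv_cancel]) hxo)
  have hαb : α ≠ b := fun e1 => hx1 (eq_one_of_sq_odd (by
    rw [← e1, ← (show Commute x α from hxα).eq, mul_inv_cancel_right] at hbx
    nth_rewrite 2 [hbx]
    rw [mul_inv_cancel]) hxo)
  have hxr : x * r = r * x := by
    have h1 : Commute x (r * α * α) :=
      (show Commute (r * α) x from hxQ _ hrQ).symm.mul_right (show Commute x α from hxα)
    rwa [mul_assoc, h.sq hα, mul_one] at h1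
  have hxα' : x ∈ ocen α := h.mem_ocen_of_inverted hα hα1 hb hxα hxo hbx
  obtain ⟨σ, hσ, hσx⟩ := hF.exists_inverter h hQ hR hQR hα hb hα1 hb1 hαb hxQ hxα hbx
  have hαC : zpowers α ≤ cenS (zpowers r) :=
    zpowers_le.2 (mem_cenS_zpowers.2 (hF.T_comm h (hF.A_T hα) (hR.le hr)))
  have hα2 : IsPGroup 2 ↥(zpowers α) := by
    haveI : Fact (Nat.Prime 2) := ⟨Nat.prime_two⟩
    exact IsPGroup.of_card (n := 1)
      (by rw [Nat.card_zpowers, pow_one, h.set.orderOf_eq hα hα1])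
  have hxC : x ∈ cenS (zpowers r) := mem_cenS_zpowers.2 hxr
  have hxcor : x ∈ cor (zpowers α) := by rw [cor_zpowers]; exact hxα'
  have hxQr : x ∈ ocen r := by
    rw [← cor_zpowers]
    refine Walter4.mem_cor_of_mem_core (hx := hxC)
      (Walter4.mem_cor hαC hα2 hxcor hxC fun L hL => ?_)
    rw [← Subgroup.centralizer_closure, ← zpowers_eq_closure, le_centralizer_iff, zpowers_le]
    have inv : ∀ P ≤ T, Fixes P L → ∀ s ∈ P, s * x * s⁻¹ = x⁻¹ →
        q (cenS (zpowers r)) ⟨x, hxC⟩ ∈ centralizer (L : Set _) := by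
      intro P hPT hP s hs hsx
      have hsC : s ∈ cenS (zpowers r) := mem_cenS_zpowers.2 (hF.T_comm h (hPT hs) (hR.le hr))
      refine Walter4.centralizes_of_inverted (s := q (cenS (zpowers r)) ⟨s, hsC⟩)
        (le_centralizer_iff.1 hP (mem_im hs hsC))
        (Walter4.cor_le_normalizer_component hαC hα2 hL (mem_im hxcor hxC)) ?_ ?_
      · rw [← map_inv, ← map_inv, ← map_mul, ← map_mul]
        exact congrArg _ (Subtype.ext hsx)
      · refine hxo.of_dvd_nat ((orderOf_map_dvd _ _).trans (dvd_of_eq ?_))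
        exact orderOf_mk _ _
    by_cases hm : Moved A (zpowers r) L
    · exact inv R hR.le (hR.fix r hr hr1 L hm) σ hσ hσx
    · exact inv A hF.A_T (by_contra fun hn => hm ⟨hL, hn⟩) b hb hbx
  refine ⟨x, hxQr, hx1, ?_⟩
  rcases hF.act h hQ hα hb hα1 hb1 hαb hxQ hxα hbx (hR.le hr') with (h1 | h1) | h1
  · exact absurd (hF.unique R Q hR hQ r' hr' h1 hr'1) hQR
  · have h2 := mul_mem hrQ h1
    have e1 : r * α * (r' * α) = r * r' := by
      rw [hF.T_comm h (hR.le hr') (hF.A_T hα), mul_assoc r α, ← mul_assoc α α, h.sq hα, one_mul]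
    rw [e1] at h2
    refine absurd (hF.unique R Q hR hQ _ (mul_mem hr hr') h2 fun e2 => hrr ?_) hQR
    rw [← inv_eq_of_mul_eq_one_right e2, hF.T_inv h (hR.le hr)]
  · exact h1

end Final

end Cfsg.Agent.Gold1169.Two
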