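import Cfsg.Agent.Lib.Gold1169.Two.Bridge
import Cfsg.Agent.Lib.Gold1169.Three.Basic
import Cfsg.Agent.Lib.Gold1169.Three.Kind

/-!
With a torus of `ℓ`-power order, the `ℓ`-subgroups of a moved component are cyclic modulo the core.
-/

set_option autoImplicit false
set_option linter.style.haveILetI false
set_option linter.unusedSectionVars false

namespace Cfsg.Agent.Gold1169.Two

open Subgroup
open Cfsg.Agent.Walter4 (cen cenS ocen cor XB pre CA mem_pre cor_zpowers pre_le)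
open Cfsg.Agent.OddDown.CoreSep (q im mem_im)

universe u

attribute [local instance] FittingCores.pPrimeCore_normal

variable {G : Type u} [Group G] [Finite G] {S : Sylow 2 G} {A : Subgroup G}
variable (h : Ctx S A) {B : Subgroup G} (hB : Loc A B) {L : Subgroup (XB B)} (hL : Moved A B L)
include h hB hL

variable {K : Type u} [Group K] [Finite K] {ρ : ↥(pre B L) →* K} {TK : Sylow 2 K} {P : Subgroup K}

/-- An element of odd order in the kernel lies in the core. -/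
theorem KMap.mem_cor_of_ker (hk : KMap A B L ρ TK P) {x : G} (hx : x ∈ pre B L) (hx1 : ρ ⟨x, hx⟩ = 1)
    (ho : Odd (orderOf x)) : x ∈ cor B := by
  haveI : Fact (Nat.Prime 2) := ⟨Nat.prime_two⟩
  obtain ⟨hxC, hxL⟩ := mem_pre.1 hx
  obtain ⟨_, hxc⟩ := mem_pre.1 ((hk.ker _).1 hx1)
  have hz : (⟨q (cenS B) ⟨x, hxC⟩, hxL⟩ : ↥L) ∈ center ↥L :=
    mem_center_iff.2 fun g => Subtype.ext (mem_centralizer_iff.1 hxc g g.2)
  obtain ⟨k, hk2⟩ := center_two (Components.pPrimeCore_quotient ↥(cenS B)) hL.1 ⟨_, hz⟩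
  have h1 : (q (cenS B) ⟨x, hxC⟩) ^ 2 ^ k = 1 :=
    congrArg Subtype.val (congrArg Subtype.val hk2)
  refine (q_eq_one hxC).1 (orderOf_eq_one_iff.1 ?_)
  refine Nat.Coprime.eq_one_of_dvd (Nat.Coprime.pow_right k ?_) (orderOf_dvd_of_pow_eq_one h1)
  rw [Nat.coprime_two_right]
  exact ho.of_dvd_nat ((orderOf_map_dvd _ _).trans (dvd_of_eq (orderOf_mk _ _)))

omit [Finite K] in
/-- `ℓ`-subgroups are cyclic modulo the core. -/
theorem exists_cyclic_mod_cor {a b y : G} (ht : TorAt A B L a b y) {ℓ : ℕ} [Fact ℓ.Prime] {k : ℕ}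
    (hy : y ^ ℓ ^ k = 1) (P₀ : Subgroup G) (hP₀ : P₀ ≤ pre B L) (hp : IsPGroup ℓ P₀) :
    ∃ g ∈ P₀, ∀ x ∈ P₀, ∃ i : ℤ, (g ^ i)⁻¹ * x ∈ cor B := by
  obtain ⟨K, _, _, ρ, TK, P, hk⟩ := exists_kmap h hB hL
  obtain ⟨haP, ha1, hbP, hyo, hy1, hya, hby⟩ := hk.torus_image h hB hL ht
  obtain ⟨haA, hbA, haA1, hyL, hyaG, hyoG, hyc, hbyG⟩ := ht
  obtain ⟨hAL, -⟩ := h.torus_eq hB hL
  have hℓ2 : ℓ ≠ 2 := by
    rintro rfl
    have hyG : orderOf y = 1 :=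
      Nat.Coprime.eq_one_of_dvd ((Nat.coprime_two_right.2 hyoG).pow_right k) (orderOf_dvd_of_pow_eq_one hy)
    exact hyc (orderOf_eq_one_iff.1 hyG ▸ one_mem _)
  set yl := ρ ⟨y, hyL⟩ with hyl
  set al := ρ ⟨a, hAL haA⟩ with hal
  have haa : al * al = 1 := by
    rw [hal, ← map_mul, show (⟨a, hAL haA⟩ : ↥(pre B L)) * ⟨a, hAL haA⟩ = 1 from Subtype.ext (h.sq haA),
      map_one]
  have hylk : yl ^ ℓ ^ k = 1 := by
    rw [hyl, ← map_pow, show (⟨y, hyL⟩ : ↥(pre B L)) ^ ℓ ^ k = 1 from Subtype.ext hy, map_one]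
  obtain ⟨j, -, hj⟩ := (Nat.dvd_prime_pow (Fact.out : ℓ.Prime)).1 (orderOf_dvd_of_pow_eq_one hylk)
  have hj0 : j ≠ 0 := fun e => hy1 (orderOf_eq_one_iff.1 (by rw [hj, e, pow_zero]))
  obtain ⟨i, rfl⟩ := Nat.exists_eq_succ_of_ne_zero hj0
  set z := yl ^ ℓ ^ i with hz
  have hzo : orderOf z = ℓ := by
    rw [hz, orderOf_pow' _ (pow_ne_zero _ (Fact.out : ℓ.Prime).ne_zero), hj,
      Nat.gcd_eq_right (pow_dvd_pow ℓ (Nat.le_succ i)), Nat.pow_div (Nat.le_succ i) (Fact.out : ℓ.Prime).pos]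
    simp
  have hcy : IsCyclic ((P₀.subgroupOf (pre B L)).map ρ) :=
    hk.cyclic h hB hL ⟨haA, hbA, haA1, hyL, hyaG, hyoG, hyc, hbyG⟩ hℓ2 haa ha1 hzo
      ((show Commute yl al from hya).pow_left _).eq _
      ((hp.comap_of_injective (pre B L).subtype (pre B L).subtype_injective).map ρ)
  obtain ⟨⟨g', hg'⟩, hgen⟩ := hcy.exists_generator
  obtain ⟨g, hg, hgg⟩ := hg'
  refine ⟨g, mem_subgroupOf.1 hg, fun x hx => ?_⟩
  have hxmem : ρ ⟨x, hP₀ hx⟩ ∈ (P₀.subgroupOf (pre B L)).map ρ :=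
    mem_map_of_mem ρ (mem_subgroupOf.2 hx)
  obtain ⟨i', hi'⟩ := mem_zpowers_iff.1 (hgen ⟨_, hxmem⟩)
  have hi : g' ^ i' = ρ ⟨x, hP₀ hx⟩ := congrArg Subtype.val hi'
  refine ⟨i', hk.mem_cor_of_ker h hB hL
    (mul_mem (inv_mem (zpow_mem g.2 i')) (hP₀ hx)) ?_ ?_⟩
  · have e1 : (⟨((g : G) ^ i')⁻¹ * x, mul_mem (inv_mem (zpow_mem g.2 i')) (hP₀ hx)⟩ : ↥(pre B L)) =
        (g ^ i')⁻¹ * ⟨x, hP₀ hx⟩ := Subtype.ext (by simp)
    rw [e1, map_mul, map_inv, map_zpow, hgg, hi, inv_mul_cancel]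
  · have hmem : ((g : G) ^ i')⁻¹ * x ∈ P₀ := mul_mem (inv_mem (zpow_mem (mem_subgroupOf.1 hg) i')) hx
    obtain ⟨m, hm⟩ := hp ⟨_, hmem⟩
    refine Odd.of_dvd_nat ?_ (orderOf_dvd_of_pow_eq_one (congrArg Subtype.val hm))
    exact ((Fact.out : ℓ.Prime).odd_of_ne_two hℓ2).pow

end Cfsg.Agent.Gold1169.Two
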