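import Mathlib.GroupTheory.PGroup
import Mathlib.FieldTheory.Finite.Basic

/-!
Two unipotent automorphisms of a group of order `ℓ ^ 3`, one a conjugate of the other by an automorphism
permuting a decomposition cyclically, generate a noncommutative `ℓ`-group.
-/

set_option autoImplicit false
set_option linter.style.haveILetI false
set_option linter.unusedSectionVars false

namespace Cfsg.Agent.Gold1169.Two.Flag

open Subgroup

universe u

variable {M : Type u} [CommGroup M]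

/-- An element of a subgroup of prime order generates it. -/
theorem le_of_ne_one {ℓ : ℕ} [Fact ℓ.Prime] {X W : Subgroup M} (hX : Nat.card X = ℓ) {x : M}
    (hx : x ∈ X) (hx1 : x ≠ 1) (hxW : x ∈ W) : X ≤ W := by
  intro y hy
  haveI : Finite X := Nat.finite_of_card_ne_zero (by rw [hX]; exact (Fact.out : ℓ.Prime).ne_zero)
  have h1 : zpowers (⟨x, hx⟩ : X) = ⊤ := zpowers_eq_top_of_prime_card hX fun e => hx1 (congrArg Subtype.val e)
  obtain ⟨i, hi⟩ := mem_zpowers_iff.1 (h1 ▸ mem_top (⟨y, hy⟩ : X))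
  rw [show y = x ^ i from (congrArg Subtype.val hi).symm]
  exact zpow_mem hxW i

/-- An automorphism of `ℓ`-power order inducing a power on an element of order `ℓ` modulo an invariant
subgroup fixes it modulo that subgroup. -/
theorem div_mem_of_pow {ℓ : ℕ} [Fact ℓ.Prime] {φ : MulAut M} {k : ℕ} (hφ : φ ^ ℓ ^ k = 1) {W : Subgroup M}
    (hW : ∀ w ∈ W, φ w ∈ W) {x : M} (hx : x ^ ℓ = 1) {j : ℕ} (hj : φ x / x ^ j ∈ W) : φ x / x ∈ W := by
  have hn : ∀ n : ℕ, (φ ^ n) x / x ^ (j ^ n) ∈ W := by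
    intro n
    induction n with
    | zero => simp
    | succ n ih =>
      have h1 := hW _ ih
      rw [map_div, map_pow] at h1
      have h2 : (φ x) ^ (j ^ n) / (x ^ j) ^ (j ^ n) ∈ W := by
        rw [← div_pow]; exact pow_mem hj _
      have e1 : (φ ^ (n + 1)) x / x ^ (j ^ (n + 1)) =
          φ ((φ ^ n) x) / (φ x) ^ (j ^ n) * ((φ x) ^ (j ^ n) / (x ^ j) ^ (j ^ n)) := by
        rw [div_mul_div_cancel, ← pow_mul, pow_succ' j n, pow_succ' φ n, MulAut.mul_apply]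
      rw [e1]
      exact mul_mem h1 h2
  have h1 := hn (ℓ ^ k)
  rw [hφ, MulAut.one_apply] at h1
  have h2 : x ^ (j ^ ℓ ^ k) = x ^ j := by
    refine pow_eq_pow_iff_modEq.2 (Nat.ModEq.of_dvd (orderOf_dvd_of_pow_eq_one hx) ?_)
    rw [← ZMod.natCast_eq_natCast_iff]
    push_cast
    exact ZMod.pow_card_pow _
  rw [h2] at h1
  have h3 := mul_mem hj (inv_mem h1)
  rwa [inv_div, div_mul_div_cancel] at h3

variable [Finite M]

/-- An automorphism of `ℓ`-power order fixes an invariant subgroup of order `ℓ` pointwise. -/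
theorem fix_of_pow {ℓ : ℕ} [Fact ℓ.Prime] {φ : MulAut M} {k : ℕ} (hφ : φ ^ ℓ ^ k = 1) {X : Subgroup M}
    (hX : Nat.card X = ℓ) (hφX : ∀ x ∈ X, φ x ∈ X) {x : M} (hx : x ∈ X) : φ x = x := by
  by_cases hx1 : x = 1
  · rw [hx1, map_one]
  have hxl : x ^ ℓ = 1 := by
    have := pow_card_eq_one' (x := (⟨x, hx⟩ : X))
    rw [hX] at this
    exact congrArg Subtype.val this
  obtain ⟨i, hi⟩ := mem_zpowers_iff.1
    (le_of_ne_one hX hx hx1 (mem_zpowers x) (hφX x hx))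
  obtain ⟨j, hj⟩ : ∃ j : ℕ, x ^ j = φ x :=
    (isOfFinOrder_of_finite x).mem_powers_iff_mem_zpowers.2 ⟨i, hi⟩
  have h1 := div_mem_of_pow hφ (W := ⊥) (fun w hw => by rw [mem_bot] at hw ⊢; rw [hw, map_one]) hxl
    (j := j) (by rw [hj, div_self']; exact one_mem _)
  rwa [mem_bot, div_eq_one] at h1

/-- The automorphisms trivial on the steps of a flag. -/
def flag (V1 V2 : Subgroup M) : Subgroup (MulAut M) where
  carrier := {φ | (∀ x ∈ V1, φ x = x) ∧ (∀ x ∈ V2, φ x / x ∈ V1) ∧ ∀ x, φ x / x ∈ V2}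
  one_mem' := ⟨fun x _ => rfl, fun x _ => by simp, fun x => by simp⟩
  mul_mem' := by
    rintro φ ψ ⟨h1, h2, h3⟩ ⟨g1, g2, g3⟩
    have key : ∀ x, (φ * ψ) x / x = φ (ψ x / x) / (ψ x / x) * (ψ x / x) * (φ x / x) := fun x => by
      rw [div_mul_cancel, MulAut.mul_apply, map_div, div_mul_div_cancel]
    refine ⟨fun x hx => by rw [MulAut.mul_apply, g1 x hx, h1 x hx], fun x hx => ?_, fun x => ?_⟩
    · rw [key, h1 _ (g2 x hx), div_self', one_mul]
      exact mul_mem (g2 x hx) (h2 x hx)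
    · rw [key]
      exact mul_mem (mul_mem (h3 _) (g3 x)) (h3 x)
  inv_mem' := by
    rintro φ ⟨h1, h2, h3⟩
    have i1 : ∀ x ∈ V1, φ⁻¹ x = x := fun x hx => by
      conv_lhs => rw [← h1 x hx]
      exact φ.symm_apply_apply x
    have key : ∀ x, φ⁻¹ x / x = (φ (φ⁻¹ x) / φ⁻¹ x)⁻¹ := fun x => by
      rw [inv_div, MulAut.apply_inv_self]
    refine ⟨i1, fun x hx => ?_, fun x => ?_⟩
    · have hx' : φ⁻¹ x ∈ V2 := by
        have := h3 (φ⁻¹ x)
        rw [MulAut.apply_inv_self] at this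
        have := mul_mem (inv_mem this) hx
        rwa [inv_div, div_mul_cancel] at this
      rw [key]
      exact inv_mem (h2 _ hx')
    · rw [key]
      exact inv_mem (h3 _)

/-- In exponent `ℓ` the flag group is an `ℓ`-group. -/
theorem flag_pGroup {ℓ : ℕ} (hexp : ∀ x : M, x ^ ℓ = 1) (V1 V2 : Subgroup M) :
    IsPGroup ℓ (flag V1 V2) := by
  intro φ
  refine ⟨2, Subtype.ext (MulEquiv.ext fun x => ?_)⟩
  obtain ⟨φ, h1, h2, h3⟩ := φ
  have gen : ∀ (ψ : MulAut M) (y : M), ψ (ψ y / y) = ψ y / y → ∀ n : ℕ, (ψ ^ n) y = (ψ y / y) ^ n * y := by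
    intro ψ y hy n
    induction n with
    | zero => simp
    | succ n ih =>
      rw [pow_succ' ψ n, MulAut.mul_apply, ih, map_mul, map_pow, hy, pow_succ, mul_assoc, div_mul_cancel]
  set ψ := φ ^ ℓ with hψ
  have hψ2 : ∀ y ∈ V2, ψ y = y := fun y hy => by
    rw [hψ, gen φ y (h1 _ (h2 y hy)), hexp, one_mul]
  have hψ3 : ψ x / x ∈ V2 := by
    have hall : ∀ n : ℕ, (φ ^ n) x / x ∈ V2 := by
      intro n
      induction n with
      | zero => simp
      | succ n ih =>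
        have e1 : (φ ^ (n + 1)) x / x = φ ((φ ^ n) x) / (φ ^ n) x * ((φ ^ n) x / x) := by
          rw [div_mul_div_cancel, pow_succ' φ n, MulAut.mul_apply]
        rw [e1]
        exact mul_mem (h3 _) ih
    exact hall ℓ
  show (((⟨φ, h1, h2, h3⟩ : ↥(flag V1 V2)) ^ ℓ ^ 2 : ↥(flag V1 V2)) : MulAut M) x = (1 : MulAut M) x
  rw [SubmonoidClass.coe_pow, pow_two, pow_mul, MulAut.one_apply]
  show (ψ ^ ℓ) x = x
  rw [gen ψ x (hψ2 _ hψ3), hexp, one_mul]

variable {ℓ : ℕ} [Fact ℓ.Prime]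

/-- The two automorphisms generate a noncommutative `ℓ`-group. -/
theorem exists_noncomm {Ma Mb Mc : Subgroup M} (hexp : ∀ x : M, x ^ ℓ = 1) (hMa : Nat.card Ma = ℓ)
    (hMb : Nat.card Mb = ℓ) (hMc : Nat.card Mc = ℓ)
    (hdec : ∀ m : M, ∃ x ∈ Ma, ∃ y ∈ Mb, ∃ z ∈ Mc, m = x * y * z) {φ η : MulAut M} {k : ℕ}
    (hφ : φ ^ ℓ ^ k = 1) (hφa : ∀ x ∈ Ma, φ x = x) (hφb : ∀ x ∈ Mb, φ x = x)
    (hφV : ∀ x ∈ Mb ⊔ Mc, φ x ∈ Mb ⊔ Mc) (hφ1 : φ ≠ 1) (hηa : Ma.map η.toMonoidHom = Mb)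
    (hηb : Mb.map η.toMonoidHom = Mc) (hηc : Mc.map η.toMonoidHom = Ma) :
    ∃ P : Subgroup (MulAut M), IsPGroup ℓ P ∧ φ ∈ P ∧ η * φ * η⁻¹ ∈ P ∧
      φ * (η * φ * η⁻¹) ≠ η * φ * η⁻¹ * φ := by
  set V2 := Mb ⊔ Mc with hV2
  have hc : ∀ z ∈ Mc, φ z / z ∈ Mb := by
    intro z hz
    obtain ⟨y, hy, z', hz', e1⟩ := mem_sup.1 (hφV z (mem_sup_right hz))
    by_cases hz1 : z = 1
    · rw [hz1, map_one, div_self']; exact one_mem _
    obtain ⟨i, hi⟩ := mem_zpowers_iff.1 (le_of_ne_one hMc hz hz1 (mem_zpowers z) hz')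
    obtain ⟨j, hj⟩ : ∃ j : ℕ, z ^ j = z' :=
      (isOfFinOrder_of_finite z).mem_powers_iff_mem_zpowers.2 ⟨i, hi⟩
    refine div_mem_of_pow hφ (fun w hw => by rw [hφb w hw]; exact hw) (hexp z) (j := j) ?_
    rw [hj, ← e1, mul_div_cancel_right]
    exact hy
  have hφ2 : ∀ x ∈ V2, φ x / x ∈ Mb := by
    intro x hx
    obtain ⟨y, hy, z, hz, rfl⟩ := mem_sup.1 hx
    rw [map_mul, hφb y hy, mul_div_mul_left_eq_div]
    exact hc z hz
  have hφ3 : ∀ m, φ m / m ∈ Mb := by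
    intro m
    obtain ⟨x, hx, y, hy, z, hz, rfl⟩ := hdec m
    rw [map_mul, map_mul, hφa x hx, hφb y hy, mul_div_mul_left_eq_div]
    exact hc z hz
  have hηV : ∀ x ∈ Mc, η.symm x ∈ Mb := by
    intro x hx
    rw [← hηb] at hx
    obtain ⟨y, hy, rfl⟩ := hx
    show η.symm (η y) ∈ Mb
    rw [η.symm_apply_apply]
    exact hy
  set ψ := η * φ * η⁻¹ with hψ
  have hψa : ∀ x, ψ (η x) = η (φ x) := fun x => by
    rw [hψ, MulAut.mul_apply, MulAut.mul_apply]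
    exact congrArg (fun w => η (φ w)) (η.symm_apply_apply x)
  have hψb : ∀ x ∈ Mb, ψ x = x := fun x hx => by
    rw [← hηa] at hx
    obtain ⟨y, hy, rfl⟩ := hx
    exact (hψa y).trans (congrArg η (hφa y hy))
  have hψc : ∀ x ∈ Mc, ψ x = x := fun x hx => by
    rw [← hηb] at hx
    obtain ⟨y, hy, rfl⟩ := hx
    exact (hψa y).trans (congrArg η (hφb y hy))
  have hψM : ∀ m, ψ m / m ∈ Mc := by
    intro m
    have h1 : η (φ (η⁻¹ m) / η⁻¹ m) ∈ Mc := hηb ▸ mem_map_of_mem η.toMonoidHom (hφ3 (η⁻¹ m))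
    rwa [map_div, MulAut.apply_inv_self] at h1
  refine ⟨flag Mb V2, flag_pGroup hexp Mb V2,
    ⟨fun x hx => hφb x hx, hφ2, fun m => mem_sup_left (hφ3 m)⟩,
    ⟨hψb, fun x hx => ?_, fun m => mem_sup_right (hψM m)⟩, fun hcomm => ?_⟩
  · obtain ⟨y, hy, z, hz, rfl⟩ := mem_sup.1 hx
    rw [map_mul, hψb y hy, hψc z hz, div_self']
    exact one_mem _
  -- a point of `Mc` moved by `φ` is reached by `ψ`
  obtain ⟨z, hz, hzφ⟩ : ∃ z ∈ Mc, φ z ≠ z := by
    by_contra hno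
    push Not at hno
    refine hφ1 (MulEquiv.ext fun m => ?_)
    obtain ⟨x, hx, y, hy, z, hz, rfl⟩ := hdec m
    rw [map_mul, map_mul, hφa x hx, hφb y hy, hno z hz, MulAut.one_apply]
  set a := η z with ha
  have haA : a ∈ Ma := hηc ▸ mem_map_of_mem η.toMonoidHom hz
  have hγ : ψ a / a = η (φ z / z) := by rw [ha, hψa, map_div]
  have hγc : ψ a / a ∈ Mc := hψM a
  have hγ1 : ψ a / a ≠ 1 := by
    rw [hγ, ne_eq, MulEquiv.map_eq_one_iff, div_eq_one]
    exact hzφ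
  have h1 : φ (ψ a) = ψ (φ a) := congrArg (fun w : MulAut M => w a) hcomm
  rw [hφa a haA] at h1
  have h2 : φ (ψ a / a) = ψ a / a := by rw [map_div, h1, hφa a haA]
  refine hzφ ?_
  let Fix : Subgroup M := φ.toMonoidHom.eqLocus (MonoidHom.id M)
  exact (le_of_ne_one (W := Fix) hMc hγc hγ1 h2) hz

end Cfsg.Agent.Gold1169.Two.Flag
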