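import Cfsg.Agent.Lib.Gold1169.Two.EndBasic
import Cfsg.Agent.Lib.Gold1169.Two.Bridge

/-!
The moved component of a complement, and the elements of odd order inverted by `A`.
-/

set_option autoImplicit false
set_option linter.style.haveILetI false
set_option linter.unusedSectionVars false

namespace Cfsg.Agent.Gold1169.Two

open Subgroup
open Cfsg.Agent.Walter4 (cen cenS ocen cor XB pre CA mem_pre cor_zpowers pre_le)
open Cfsg.Agent.OddDown.CoreSep (q im mem_im)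

universe u

attribute [local instance] FittingCores.pPrimeCore_normal

variable {G : Type u} [Group G] [Finite G] {S : Sylow 2 G} {A T Y : Subgroup G}

namespace Final

variable (hF : Final S A T Y) (h : Ctx S A)
include hF h

theorem loc_R {Q : Subgroup G} (hQ : IsR A T Q) : Loc A Q := by
  refine ⟨(S.isPGroup'.to_le (hQ.le.trans hF.T_le)), fun e0 => ?_, fun x hx => hF.T_cenA h (hQ.le hx)⟩
  have := hQ.card
  rw [e0, card_bot] at this
  omega

theorem exists_moved {Q : Subgroup G} (hQ : IsR A T Q) :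
    ∃ L : Subgroup (XB Q), Moved A Q L ∧ A ≤ pre Q L := by
  obtain ⟨r, hr, hr1⟩ := Q.bot_or_exists_ne_one.resolve_left (hF.loc_R h hQ).2.1
  have hrA := hF.not_mem_A h hQ hr hr1
  obtain ⟨-, -, -, L, hL, -⟩ := hF.special r (hQ.le hr) hrA
  have hB : Loc A (zpowers r) := h.loc_invol (hF.T_sq r (hQ.le hr)) (hF.T_cenA h (hQ.le hr)) hrA
  have hle : Q ≤ pre (zpowers r) (centralizer (L : Set (XB (zpowers r)))) := fun x hx => by
    have hxC : x ∈ cenS (zpowers r) := mem_cenS_zpowers.2 (hF.T_comm h (hQ.le hx) (hQ.le hr))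
    exact mem_pre.2 ⟨hxC, le_centralizer_iff.1 (hQ.fix r hr hr1 L hL) (mem_im hx hxC)⟩
  obtain ⟨L', hL', -, -, -⟩ :=
    h.loc.lift (zpowers r) Q hB (hF.loc_R h hQ) (zpowers_le.2 hr) L hL hle
  exact ⟨L', hL', (h.torus_eq (hF.loc_R h hQ) hL').1⟩

/-- An element of odd order of `C(Q)` inverted by an element of `A` lies in the moved component. -/
theorem mem_pre_of_inverted {Q : Subgroup G} (hQ : IsR A T Q) {L : Subgroup (XB Q)}
    (hL : Moved A Q L) {y b : G} (hy : y ∈ cenS Q) (ho : Odd (orderOf y)) (hb : b ∈ A)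
    (hby : b * y * b⁻¹ = y⁻¹) : y ∈ pre Q L := by
  have hB := hF.loc_R h hQ
  obtain ⟨hAL, -⟩ := h.torus_eq hB hL
  have hlay : layA A Q ≤ pre Q L := iSup_le fun M => by rw [h.moved_unique hB hL M.2]
  have hcor : cor Q ≤ pre Q L := fun x hx => by
    obtain ⟨⟨x, hxC⟩, hx', rfl⟩ := hx
    refine mem_pre.2 ⟨hxC, ?_⟩
    have h1 : q (cenS Q) ⟨x, hxC⟩ = 1 := (QuotientGroup.eq_one_iff _).2 hx'
    show q (cenS Q) ⟨x, hxC⟩ ∈ L
    rw [h1]
    exact one_mem _
  have hn : normalizer (A : Set G) ⊓ cenS Q ≤ normalizer (pre Q L : Set G) := fun g hg =>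
    mem_normalizer_of_conj fun x hx => normalizes_pre hg.2 (h.normalizes hB hL hg.1 hg.2) hx
  have hgen : cenS Q ≤ pre Q L ⊔ (normalizer (A : Set G) ⊓ cenS Q) :=
    (h.loc.gen Q hB).trans (sup_le_sup (sup_le hcor hlay) le_rfl)
  obtain ⟨l, hl, g, hg, rfl⟩ := (SolvBasic.mem_sup_iff_of_le_normalizer hn).1 (hgen hy)
  refine mem_of_sq_odd ?_ ho
  have hl' : b * l * b⁻¹ * (b * g * b⁻¹ * g⁻¹) ∈ pre Q L := by
    refine mul_mem (mul_mem (mul_mem (hAL hb) hl) (inv_mem (hAL hb))) (hAL ?_)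
    rw [show b * g * b⁻¹ * g⁻¹ = b * (g * b⁻¹ * g⁻¹) by group]
    exact mul_mem hb ((h.set.conj_mem_iff hg.1).1 (inv_mem hb))
  have e1 : (l * g)⁻¹ = b * l * b⁻¹ * (b * g * b⁻¹ * g⁻¹) * g := by rw [← hby]; group
  have e2 : l * g * (l * g) = l * g * ((l * g)⁻¹)⁻¹ := by rw [inv_inv]
  rw [e2, e1]
  have e3 : l * g * (b * l * b⁻¹ * (b * g * b⁻¹ * g⁻¹) * g)⁻¹ =
      l * (b * l * b⁻¹ * (b * g * b⁻¹ * g⁻¹))⁻¹ := by group
  rw [e3]
  exact mul_mem hl (inv_mem hl')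

end Final

end Cfsg.Agent.Gold1169.Two
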