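import Cfsg.Agent.Lib.Gold1169.Two.EndBasic
import Cfsg.Agent.Lib.Solvable.Coprime

/-!
An elementary abelian quotient of a subgroup of odd order, with the action of the normaliser.
-/

set_option autoImplicit false
set_option linter.style.haveILetI false
set_option linter.unusedSectionVars false

namespace Cfsg.Agent.Gold1169.Two

open Subgroup
open scoped commutatorElement

universe u

variable {G : Type u} [Group G] [Finite G]

/-- The elementary abelian quotient. -/
structure ModData (Q : Subgroup G) (ℓ : ℕ) (M : Type u) [CommGroup M] (π : ↥Q →* M)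
    (Φ : ↥(normalizer (Q : Set G)) →* MulAut M) : Prop where
  prime : ℓ.Prime
  ne_two : ℓ ≠ 2
  surj : Function.Surjective π
  exp : ∀ m : M, m ^ ℓ = 1
  ne_one : ∃ m : M, m ≠ 1
  equiv : ∀ (g : ↥(normalizer (Q : Set G))) (x : ↥Q),
    Φ g (π x) = π ⟨g * x * (g : G)⁻¹, (mem_normalizer_iff.1 g.2 x).1 x.2⟩

theorem exists_module {Q : Subgroup G} (hodd : Odd (Nat.card Q)) (hne : Q ≠ ⊥) :
    ∃ (ℓ : ℕ) (M : Type u) (_ : CommGroup M) (_ : Finite M) (π : ↥Q →* M)
      (Φ : ↥(normalizer (Q : Set G)) →* MulAut M), ModData Q ℓ M π Φ := by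
  haveI hsol : Group.IsSolvable ↥Q := OddChar.oddSolvable ↥Q hodd
  haveI : Nontrivial ↥Q := Q.nontrivial_iff_ne_bot.2 hne
  have hlt : _root_.commutator ↥Q < ⊤ := Group.IsSolvable.commutator_lt_top_of_nontrivial _
  have hidx : (_root_.commutator ↥Q).index ≠ 1 := fun e => hlt.ne (index_eq_one.1 e)
  obtain ⟨ℓ, hℓ, hdvd⟩ := Nat.exists_prime_and_dvd hidx
  haveI := Fact.mk hℓ
  have hℓ2 : ℓ ≠ 2 := by
    rintro rfl
    exact Nat.not_even_iff_odd.2 (hodd.of_dvd_nat (dvd_trans hdvd (_root_.commutator ↥Q).index_dvd_card))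
      even_two
  set N : Subgroup ↥Q := (_root_.commutator ↥Q) ⊔ closure (Set.range fun x : ↥Q => x ^ ℓ) with hN
  haveI hNn : N.Normal := ⟨fun w hw g => by
    rw [show g * w * g⁻¹ = ⁅g, w⁆ * w by rw [commutatorElement_def]; group]
    exact mul_mem (le_sup_left (a := _root_.commutator ↥Q)
      (commutator_mem_commutator (mem_top g) (mem_top w))) hw⟩
  have hNne : N ≠ ⊤ := by
    intro htop
    let f : Abelianization ↥Q →* Abelianization ↥Q := powMonoidHom ℓ
    have hsurj : Function.Surjective f := by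
      intro z
      obtain ⟨x, rfl⟩ := QuotientGroup.mk'_surjective (_root_.commutator ↥Q) z
      have hle : N ≤ f.range.comap (Abelianization.of : ↥Q →* Abelianization ↥Q) := by
        rw [hN, sup_le_iff, closure_le]
        refine ⟨fun w hw => ⟨1, ?_⟩, ?_⟩
        · rw [map_one]
          exact ((QuotientGroup.eq_one_iff w).2 hw).symm
        · rintro _ ⟨w, rfl⟩
          exact ⟨Abelianization.of w, (map_pow _ w ℓ).symm⟩
      exact hle (htop ▸ mem_top x)
    haveI : Finite (Abelianization ↥Q) := Quotient.finite _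
    obtain ⟨z, hz⟩ := exists_prime_orderOf_dvd_card' (G := Abelianization ↥Q) ℓ
      (by rw [show Nat.card (Abelianization ↥Q) = (_root_.commutator ↥Q).index from rfl]; exact hdvd)
    have hinj := Finite.injective_iff_surjective.2 hsurj
    have : z = 1 := hinj (by
      show z ^ ℓ = 1 ^ ℓ
      rw [one_pow, ← hz, pow_orderOf_eq_one])
    rw [this, orderOf_one] at hz
    exact hℓ.one_lt.ne hz
  letI : CommGroup (↥Q ⧸ N) :=
    { (inferInstance : Group (↥Q ⧸ N)) with
      mul_comm := by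
        intro x y
        obtain ⟨x, rfl⟩ := QuotientGroup.mk'_surjective N x
        obtain ⟨y, rfl⟩ := QuotientGroup.mk'_surjective N y
        rw [← map_mul, ← map_mul, QuotientGroup.mk'_apply, QuotientGroup.mk'_apply, QuotientGroup.eq]
        refine le_sup_left (a := _root_.commutator ↥Q) ?_
        rw [show (x * y)⁻¹ * (y * x) = ⁅y⁻¹, x⁻¹⁆ by simp only [commutatorElement_def, mul_inv_rev, inv_inv, mul_assoc]]
        exact commutator_mem_commutator (mem_top _) (mem_top _) }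
  let conjQ : ↥(normalizer (Q : Set G)) →* MulAut ↥Q := Q.normalizerMonoidHom
  have hNinv : ∀ g : ↥(normalizer (Q : Set G)), N.map (conjQ g).toMonoidHom = N := by
    intro g
    refine eq_of_le_of_card_ge ?_
      (Nat.card_congr ((N.equivMapOfInjective _ (conjQ g).injective).toEquiv)).le
    rw [hN, Subgroup.map_sup, MonoidHom.map_closure]
    refine sup_le_sup ?_ ((closure_le _).2 ?_)
    · rw [_root_.commutator_def, map_commutator]
      exact commutator_mono le_top le_top
    · rintro _ ⟨_, ⟨w, rfl⟩, rfl⟩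
      exact subset_closure ⟨conjQ g w, (map_pow (conjQ g).toMonoidHom w ℓ).symm⟩
  let Φ : ↥(normalizer (Q : Set G)) →* MulAut (↥Q ⧸ N) :=
    { toFun := fun g => QuotientGroup.congr N N (conjQ g) (hNinv g)
      map_one' := MulEquiv.ext fun z => by
        obtain ⟨x, rfl⟩ := QuotientGroup.mk'_surjective N z
        show QuotientGroup.mk' N (conjQ 1 x) = QuotientGroup.mk' N x
        rw [map_one]
        rfl
      map_mul' := fun g g' => MulEquiv.ext fun z => by
        obtain ⟨x, rfl⟩ := QuotientGroup.mk'_surjective N z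
        show QuotientGroup.mk' N (conjQ (g * g') x) = QuotientGroup.mk' N (conjQ g (conjQ g' x))
        rw [map_mul]
        rfl }
  refine ⟨ℓ, ↥Q ⧸ N, inferInstance, inferInstance, QuotientGroup.mk' N, Φ, hℓ, hℓ2,
    QuotientGroup.mk'_surjective N, fun m => ?_, ?_, fun g x => ?_⟩
  · obtain ⟨x, rfl⟩ := QuotientGroup.mk'_surjective N m
    rw [← map_pow, QuotientGroup.mk'_apply, QuotientGroup.eq_one_iff]
    exact le_sup_right (a := _root_.commutator ↥Q) (subset_closure ⟨x, rfl⟩)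
  · obtain ⟨x, hx⟩ := SetLike.exists_of_lt (lt_top_iff_ne_top.2 hNne)
    exact ⟨QuotientGroup.mk' N x, fun e => hx.2 ((QuotientGroup.eq_one_iff x).1 e)⟩
  · show QuotientGroup.mk' N (conjQ g x) = _
    rfl

namespace ModData

variable {Q : Subgroup G} {ℓ : ℕ} {M : Type u} [CommGroup M] {π : ↥Q →* M}
  {Φ : ↥(normalizer (Q : Set G)) →* MulAut M} (hM : ModData Q ℓ M π Φ)
include hM

theorem eq_one_of_sq {m : M} (hm : m * m = 1) : m = 1 := by
  have h2 : orderOf m ∣ 2 := orderOf_dvd_of_pow_eq_one (by rw [pow_two, hm])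
  refine orderOf_eq_one_iff.1 (Nat.Coprime.eq_one_of_dvd ?_ h2)
  exact ((Nat.coprime_primes hM.prime Nat.prime_two).2 hM.ne_two).coprime_dvd_left
    (orderOf_dvd_of_pow_eq_one (hM.exp m))

theorem exists_sqrt (m : M) : ∃ s : M, m = s * s := by
  obtain ⟨j, hj⟩ := hM.prime.odd_of_ne_two hM.ne_two
  refine ⟨m ^ (j + 1), ?_⟩
  have := hM.exp m
  rw [hj] at this
  rw [← pow_add, show j + 1 + (j + 1) = 2 * j + 1 + 1 by ring, pow_succ, this, one_mul]

/-- A fixed point of an abelian 2-group lifts to a fixed point. -/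
theorem lift_fixed (hodd : Odd (Nat.card Q)) {V : Subgroup G} (hV : V ≤ normalizer (Q : Set G))
    (hV2 : IsPGroup 2 V) (hVc : ∀ x ∈ V, ∀ y ∈ V, x * y = y * x) {m : M}
    (hm : ∀ v (hv : v ∈ V), Φ ⟨v, hV hv⟩ m = m) :
    ∃ x : ↥Q, π x = m ∧ (x : G) ∈ centralizer (V : Set G) := by
  haveI : Fact (Nat.Prime 2) := ⟨Nat.prime_two⟩
  obtain ⟨x, rfl⟩ := hM.surj m
  set N : Subgroup G := π.ker.map Q.subtype with hN
  have hNQ : N ≤ Q := map_subtype_le _
  have hQN : Q ≤ normalizer (N : Set G) := fun g hg => mem_normalizer_of_conj fun w hw => by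
    obtain ⟨w, hw, rfl⟩ := hw
    exact ⟨⟨g, hg⟩ * w * ⟨g, hg⟩⁻¹, MonoidHom.normal_ker π |>.conj_mem w hw _, rfl⟩
  have hVN : V ≤ normalizer (N : Set G) := fun g hg => mem_normalizer_of_conj fun w hw => by
    obtain ⟨w, hw, rfl⟩ := hw
    refine ⟨⟨_, (mem_normalizer_iff.1 (hV hg) (w : G)).1 w.2⟩, ?_, rfl⟩
    show π _ = 1
    rw [← hM.equiv ⟨g, hV hg⟩ w, (show π w = 1 from hw), map_one]
  obtain ⟨n, hn⟩ := hV2.exists_card_eq
  have hcop : (Nat.card V).Coprime (Nat.card Q) := by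
    rw [hn]; exact (Nat.coprime_two_left.2 hodd).pow_left n
  obtain ⟨k, hk, hkN⟩ := CoprimeAct.exists_mem_centralizer hV hcop
    (Or.inl (Group.isSolvable_of_comm fun a b => Subtype.ext (hVc a a.2 b b.2))) hNQ hQN hVN x.2
    (fun v hv => by
      refine ⟨⟨v * x * v⁻¹, (mem_normalizer_iff.1 (hV hv) (x : G)).1 x.2⟩ * x⁻¹, ?_, rfl⟩
      show π _ = 1
      rw [map_mul, map_inv, ← hM.equiv ⟨v, hV hv⟩ x, hm v hv, mul_inv_cancel])
  refine ⟨⟨k, hk.1⟩, ?_, hk.2⟩
  obtain ⟨w, hw, hwk⟩ := hkN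
  have e1 : (⟨k, hk.1⟩ : ↥Q) = x * w := Subtype.ext (by
    show k = (x : G) * w
    rw [show (w : G) = (x : G)⁻¹ * k from hwk, mul_inv_cancel_left])
  rw [e1, map_mul, (show π w = 1 from hw), mul_one]

end ModData

end Cfsg.Agent.Gold1169.Two
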