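import Cfsg.Agent.Lib.Gold1169.Two.EndPiece
import Cfsg.Agent.Lib.Gold1169.Two.EndMem
import Cfsg.Agent.Lib.Gold1169.Two.EndQuot
import Cfsg.Agent.Lib.Gold1169.Two.EndCyclic
import Cfsg.Agent.Lib.Gold1169.Two.EndFlag

/-!
The fixed points of the points of `A` on the elementary quotient of `[O(C(r)), r']`.
-/

set_option autoImplicit false
set_option linter.style.haveILetI false
set_option linter.unusedSectionVars false

namespace Cfsg.Agent.Gold1169.Two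

open Subgroup
open Cfsg.Agent.Walter4 (cen cenS ocen cor XB pre CA mem_pre cor_zpowers pre_le)
open Cfsg.Agent.OddDown.CoreSep (q im mem_im)
open scoped commutatorElement

universe u

attribute [local instance] FittingCores.pPrimeCore_normal

variable {G : Type u} [Group G] [Finite G] {S : Sylow 2 G} {A T Y : Subgroup G}

/-- The fixed points of an automorphism. -/
def fxd {M : Type u} [CommGroup M] (φ : MulAut M) : Subgroup M := φ.toMonoidHom.eqLocus (MonoidHom.id M)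

theorem mem_fxd {M : Type u} [CommGroup M] {φ : MulAut M} {m : M} : m ∈ fxd φ ↔ φ m = m := Iff.rfl

/-- The hypotheses on the quotient. -/
structure EndCtx (A T : Subgroup G) (r r' : G) (R Q0 : Subgroup G) (ℓ : ℕ) (M : Type u) [CommGroup M]
    (π : ↥Q0 →* M) (Φ : ↥(normalizer (Q0 : Set G)) →* MulAut M) : Prop where
  isR : IsR A T R
  mem : r ∈ R
  ne : r ≠ 1
  mem' : r' ∈ R
  mod : ModData Q0 ℓ M π Φ
  le : Q0 ≤ ocen r
  nD : cenS R ≤ normalizer (Q0 : Set G)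
  inv : ∀ hr' : r' ∈ normalizer (Q0 : Set G), ∀ m : M, Φ ⟨r', hr'⟩ m = m⁻¹

variable {r r' : G} {R Q0 : Subgroup G} {ℓ : ℕ} {M : Type u} [CommGroup M] [Finite M]
  {π : ↥Q0 →* M} {Φ : ↥(normalizer (Q0 : Set G)) →* MulAut M}

namespace EndCtx

variable (hE : EndCtx A T r r' R Q0 ℓ M π Φ) (hF : Final S A T Y) (h : Ctx S A)
include hE hF h

theorem T_norm : T ≤ normalizer (Q0 : Set G) := (hF.T_le_cenS h hE.isR).trans hE.nD

theorem odd_Q0 : Odd (Nat.card Q0) := (ocen_odd r).of_dvd_nat (card_dvd_of_le hE.le)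

theorem conj_fxd {g s : G} (hg : g ∈ normalizer (Q0 : Set G)) (hs : s ∈ normalizer (Q0 : Set G))
    {m : M} (hm : m ∈ fxd (Φ ⟨s, hs⟩)) :
    Φ ⟨g, hg⟩ m ∈ fxd (Φ ⟨g * s * g⁻¹, mul_mem (mul_mem hg hs) (inv_mem hg)⟩) := by
  rw [mem_fxd] at hm ⊢
  rw [show (⟨g * s * g⁻¹, mul_mem (mul_mem hg hs) (inv_mem hg)⟩ : ↥(normalizer (Q0 : Set G))) =
    ⟨g, hg⟩ * ⟨s, hs⟩ * ⟨g, hg⟩⁻¹ from rfl, map_mul, map_mul, map_inv, MulAut.mul_apply, MulAut.mul_apply,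
    MulAut.inv_apply_self, hm]

theorem act_comm {g s : G} (hg : g ∈ normalizer (Q0 : Set G)) (hs : s ∈ normalizer (Q0 : Set G))
    (hc : g * s = s * g) (m : M) : Φ ⟨g, hg⟩ (Φ ⟨s, hs⟩ m) = Φ ⟨s, hs⟩ (Φ ⟨g, hg⟩ m) := by
  rw [← MulAut.mul_apply, ← MulAut.mul_apply, ← map_mul, ← map_mul,
    show (⟨g, hg⟩ * ⟨s, hs⟩ : ↥(normalizer (Q0 : Set G))) = ⟨s, hs⟩ * ⟨g, hg⟩ from Subtype.ext hc]

theorem act_invol {t : G} (ht : t ∈ T) (m : M) :
    Φ ⟨t, hE.T_norm hF h ht⟩ (Φ ⟨t, hE.T_norm hF h ht⟩ m) = m := by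
  rw [← MulAut.mul_apply, ← map_mul,
    show (⟨t, hE.T_norm hF h ht⟩ * ⟨t, hE.T_norm hF h ht⟩ : ↥(normalizer (Q0 : Set G))) = 1 from
      Subtype.ext (hF.T_sq t ht), map_one, MulAut.one_apply]

variable (hbot : ∀ x ∈ T, x ≠ 1 → theta (Ps A T) x = ⊥)
  (hnc : ∀ L : Subgroup (XB A), ¬ Cfsg.IsComponent L)
include hbot hnc

/-- Nothing but 1 is fixed by `A`. -/
theorem eq_one_of_fixed {m : M} (hm : ∀ a (ha : a ∈ A), Φ ⟨a, hE.T_norm hF h (hF.A_T ha)⟩ m = m) : m = 1 := by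
  obtain ⟨x, rfl, hx⟩ := hE.mod.lift_fixed (hE.odd_Q0 hF h) (hF.A_T.trans (hE.T_norm hF h))
    h.set.isPGroup (fun x hx y hy => h.comm hx hy) hm
  have hr'T := hE.isR.le hE.mem'
  have hc := hF.centralizes_of_comm_A h hbot hnc hE.isR hE.mem hE.ne (hE.le x.2) hx hr'T
  have h1 := hE.inv (hE.T_norm hF h hr'T) (π x)
  rw [hE.mod.equiv ⟨r', hE.T_norm hF h hr'T⟩ x] at h1
  rw [show (⟨r' * x * r'⁻¹, _⟩ : ↥Q0) = x from Subtype.ext (by
    show r' * (x : G) * r'⁻¹ = x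
    rw [hc, mul_inv_cancel_right])] at h1
  exact hE.mod.eq_one_of_sq (eq_inv_iff_mul_eq_one.1 h1)

/-- The fixed points of two points of `A` meet trivially. -/
theorem fxd_inf {a b : G} (ha : a ∈ A) (hb : b ∈ A) (ha1 : a ≠ 1) (hb1 : b ≠ 1) (hab : a ≠ b) {m : M}
    (hma : Φ ⟨a, hE.T_norm hF h (hF.A_T ha)⟩ m = m) (hmb : Φ ⟨b, hE.T_norm hF h (hF.A_T hb)⟩ m = m) :
    m = 1 := by
  refine hE.eq_one_of_fixed hF h hbot hnc fun c hc => ?_
  rcases h.cases_four ha hb ha1 hb1 hab hc with rfl | rfl | rfl | rfl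
  · rw [show (⟨1, _⟩ : ↥(normalizer (Q0 : Set G))) = 1 from rfl, map_one, MulAut.one_apply]
  · exact hma
  · exact hmb
  · rw [show (⟨a * b, _⟩ : ↥(normalizer (Q0 : Set G))) =
      ⟨a, hE.T_norm hF h (hF.A_T ha)⟩ * ⟨b, hE.T_norm hF h (hF.A_T hb)⟩ from rfl,
      map_mul, MulAut.mul_apply, hmb, hma]

/-- A point of `A` inverts the fixed points of another. -/
theorem inv_fxd {a b : G} (ha : a ∈ A) (hb : b ∈ A) (ha1 : a ≠ 1) (hb1 : b ≠ 1) (hab : a ≠ b) {m : M}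
    (hma : Φ ⟨a, hE.T_norm hF h (hF.A_T ha)⟩ m = m) :
    Φ ⟨b, hE.T_norm hF h (hF.A_T hb)⟩ m = m⁻¹ := by
  refine eq_inv_iff_mul_eq_one.2 (hE.fxd_inf hF h hbot hnc ha hb ha1 hb1 hab ?_ ?_)
  · rw [map_mul, hma, hE.act_comm hF h (hE.T_norm hF h (hF.A_T ha)) (hE.T_norm hF h (hF.A_T hb)) (h.comm ha hb),
      hma]
  · rw [map_mul, hE.act_invol hF h (hF.A_T hb), mul_comm]

/-- The quotient is the product of the fixed points. -/
theorem exists_dec {a b : G} (ha : a ∈ A) (hb : b ∈ A) (ha1 : a ≠ 1) (hb1 : b ≠ 1) (hab : a ≠ b) (m : M) :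
    ∃ x ∈ fxd (Φ ⟨a, hE.T_norm hF h (hF.A_T ha)⟩), ∃ y ∈ fxd (Φ ⟨b, hE.T_norm hF h (hF.A_T hb)⟩),
      ∃ z ∈ fxd (Φ ⟨a * b, hE.T_norm hF h (hF.A_T (mul_mem ha hb))⟩), m = x * y * z := by
  set ga := Φ ⟨a, hE.T_norm hF h (hF.A_T ha)⟩ with hga
  set gb := Φ ⟨b, hE.T_norm hF h (hF.A_T hb)⟩ with hgb
  obtain ⟨s, rfl⟩ := hE.mod.exists_sqrt m
  have hgc : Φ ⟨a * b, hE.T_norm hF h (hF.A_T (mul_mem ha hb))⟩ = ga * gb := by
    rw [hga, hgb, ← map_mul]; rfl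
  have caa : ∀ w, ga (ga w) = w := fun w => hE.act_invol hF h (hF.A_T ha) w
  have cbb : ∀ w, gb (gb w) = w := fun w => hE.act_invol hF h (hF.A_T hb) w
  have cab : ∀ w, ga (gb w) = gb (ga w) := fun w =>
    hE.act_comm hF h (hE.T_norm hF h (hF.A_T ha)) (hE.T_norm hF h (hF.A_T hb)) (h.comm ha hb) w
  refine ⟨s * ga s, ?_, s * gb s, ?_, s * ga (gb s), ?_, ?_⟩
  · rw [mem_fxd, map_mul, caa, mul_comm]
  · rw [mem_fxd, map_mul, cbb, mul_comm]
  · rw [hgc, mem_fxd, map_mul, MulAut.mul_apply, MulAut.mul_apply, ← cab (gb s), cbb, caa, mul_comm]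
  have h1 : s * ga s * gb s * ga (gb s) = 1 := by
    refine hE.fxd_inf hF h hbot hnc ha hb ha1 hb1 hab ?_ ?_
    · show ga (s * ga s * gb s * ga (gb s)) = _
      simp only [map_mul, caa]
      rw [mul_comm (ga s) s, mul_assoc (s * ga s), mul_comm (ga (gb s)) (gb s), ← mul_assoc]
    · show gb (s * ga s * gb s * ga (gb s)) = _
      simp only [map_mul, ← cab, cbb]
      simp only [mul_assoc, mul_left_comm, mul_comm]
  calc s * s = s * s * (s * ga s * gb s * ga (gb s)) := by rw [h1, mul_one]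
    _ = _ := by simp only [mul_assoc, mul_left_comm, mul_comm]

/-- A fixed point of `a` comes from an element centralising `a` and inverted by another point of `A`. -/
theorem exists_inv_lift {a b : G} (ha : a ∈ A) (hb : b ∈ A) (ha1 : a ≠ 1) (hb1 : b ≠ 1) (hab : a ≠ b) {m : M}
    (hm : m ∈ fxd (Φ ⟨a, hE.T_norm hF h (hF.A_T ha)⟩)) :
    ∃ c : ↥Q0, π c = m ∧ (c : G) * a = a * c ∧ b * c * b⁻¹ = (c : G)⁻¹ := by
  obtain ⟨s, rfl⟩ := hE.mod.exists_sqrt m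
  rw [mem_fxd] at hm
  have haN := hE.T_norm hF h (hF.A_T ha)
  have hsa : Φ ⟨a, haN⟩ s = s := by
    rw [map_mul] at hm
    refine mul_inv_eq_one.1 (hE.mod.eq_one_of_sq ?_)
    rw [← mul_inv_cancel (s * s)]
    nth_rewrite 1 [← hm]
    simp only [mul_inv_rev, mul_assoc, mul_left_comm, mul_comm]
  have hA2 : IsPGroup 2 ↥(zpowers a) := h.set.isPGroup.to_le (zpowers_le.2 ha)
  obtain ⟨x, hx, hxa⟩ := hE.mod.lift_fixed (hE.odd_Q0 hF h) (zpowers_le.2 haN) hA2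
    (fun u hu v hv => h.comm (zpowers_le.2 ha hu) (zpowers_le.2 ha hv)) (m := s) (fun v hv => by
      obtain ⟨i, rfl⟩ := mem_zpowers_iff.1 hv
      rcases Int.even_or_odd i with ⟨j, rfl⟩ | ⟨j, rfl⟩
      · rw [show (⟨a ^ (j + j), _⟩ : ↥(normalizer (Q0 : Set G))) = 1 from Subtype.ext (by
          show a ^ (j + j) = 1
          rw [← two_mul, zpow_mul, zpow_two, h.sq ha, one_zpow]), map_one, MulAut.one_apply]
      · rw [show (⟨a ^ (2 * j + 1), _⟩ : ↥(normalizer (Q0 : Set G))) = ⟨a, haN⟩ from Subtype.ext (by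
          show a ^ (2 * j + 1) = a
          rw [zpow_add, zpow_mul, zpow_two, h.sq ha, one_zpow, one_mul, zpow_one])]
        exact hsa)
  subst hx
  have hbN := hE.T_norm hF h (hF.A_T hb)
  refine ⟨x * ⟨b * (x⁻¹ : ↥Q0) * b⁻¹, (mem_normalizer_iff.1 hbN _).1 (x⁻¹).2⟩, ?_, ?_, ?_⟩
  · rw [map_mul, ← hE.mod.equiv ⟨b, hbN⟩ x⁻¹, map_inv, map_inv,
      hE.inv_fxd hF h hbot hnc ha hb ha1 hb1 hab hsa, inv_inv]
  · have hxa' : Commute a (x : G) := mem_centralizer_iff.1 hxa a (mem_zpowers a)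
    have := comm_commute hxa' (show Commute a b from h.comm ha hb)
    rw [show ((x * ⟨b * (x⁻¹ : ↥Q0) * b⁻¹, _⟩ : ↥Q0) : G) = (x : G) * b * (x : G)⁻¹ * b⁻¹ by
      push_cast; group]
    exact this.eq.symm
  · rw [show ((x * ⟨b * (x⁻¹ : ↥Q0) * b⁻¹, _⟩ : ↥Q0) : G) = (x : G) * b * (x : G)⁻¹ * b⁻¹ by
      push_cast; group]
    exact comm_inverted (h.sq hb)

/-- A nontrivial fixed space gives a torus and has prime order. -/
theorem fxd_torus {a b : G} (ha : a ∈ A) (hb : b ∈ A) (ha1 : a ≠ 1) (hb1 : b ≠ 1) (hab : a ≠ b) {m : M}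
    (hm : m ∈ fxd (Φ ⟨a, hE.T_norm hF h (hF.A_T ha)⟩)) (hm1 : m ≠ 1) :
    Nat.card (fxd (Φ ⟨a, hE.T_norm hF h (hF.A_T ha)⟩)) = ℓ ∧
    ∃ Qa, IsR A T Qa ∧ ∃ y k, y ∈ cenS Qa ∧ y * a = a * y ∧ b * y * b⁻¹ = y⁻¹ ∧
      y ^ ℓ ^ k = 1 ∧ y ≠ 1 ∧ y ∉ centralizer (A : Set G) := by
  haveI := Fact.mk hE.mod.prime
  have hrT := hE.isR.le hE.mem
  have hrA := hF.not_mem_A h hE.isR hE.mem hE.ne
  have hra : r * a ∉ A := fun hA => hrA (by
    have := mul_mem hA ha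
    rwa [mul_assoc, h.sq ha, mul_one] at this)
  obtain ⟨Qa, hQa, hraQ⟩ := hF.cover _ (mul_mem hrT (hF.A_T ha)) hra
  set Fa := fxd (Φ ⟨a, hE.T_norm hF h (hF.A_T ha)⟩) with hFa
  have hCQ : ∀ {c : ↥Q0}, (c : G) * a = a * c → (c : G) ∈ cenS Qa := fun hca =>
    mem_centralizer_iff.2 fun p hp =>
      hF.centralizes_of_comm h hbot hnc hE.isR hQa hE.mem hE.ne ha ha1 hraQ (hE.le (SetLike.coe_mem _)) hca hp
  obtain ⟨L, hL, hAL⟩ := hF.exists_moved h hQa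
  have hB := hF.loc_R h hQa
  let Sa : Set ↥Q0 := {c | (c : G) * a = a * c ∧ b * c * b⁻¹ = (c : G)⁻¹}
  set G1 := closure Sa with hG1
  have hG1L : ∀ c ∈ G1, (c : G) ∈ pre Qa L := by
    intro c hc
    have hle : G1 ≤ (pre Qa L).comap Q0.subtype := by
      rw [hG1, closure_le]
      intro d hd
      exact hF.mem_pre_of_inverted h hQa hL (hCQ hd.1) (odd_of_ocen (hE.le d.2)) hb hd.2
    exact hle hc
  have hcor : ∀ c ∈ G1, (c : G) ∈ cor Qa → π c = 1 := by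
    intro c hc hcc
    refine hE.eq_one_of_fixed hF h hbot hnc fun w hw => ?_
    rw [hE.mod.equiv ⟨w, hE.T_norm hF h (hF.A_T hw)⟩ c]
    refine congrArg π (Subtype.ext ?_)
    show w * (c : G) * w⁻¹ = c
    rw [mem_centralizer_iff.1 (hF.centralizes_cor h hbot hQa hcc) w hw, mul_inv_cancel_right]
  obtain ⟨c, hcm, hca, hcb⟩ := hE.exists_inv_lift hF h hbot hnc ha hb ha1 hb1 hab hm
  obtain ⟨k, q', hq, hord⟩ := Nat.exists_eq_pow_mul_and_not_dvd (orderOf_pos c).ne' ℓ hE.mod.prime.ne_one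
  set y := c ^ q' with hy
  have hyS : y ∈ Sa := by
    refine ⟨?_, ?_⟩
    · rw [hy, SubmonoidClass.coe_pow]
      exact ((show Commute (c : G) a from hca).pow_left q').eq
    · rw [hy, SubmonoidClass.coe_pow, conj_pow, hcb, inv_pow]
  have hyk : y ^ ℓ ^ k = 1 := by
    rw [hy, ← pow_mul, mul_comm, ← hord, pow_orderOf_eq_one]
  have hπy : π y ≠ 1 := by
    rw [hy, map_pow, hcm]
    intro e1
    refine hm1 (orderOf_eq_one_iff.1 (Nat.Coprime.eq_one_of_dvd ?_ (orderOf_dvd_of_pow_eq_one e1)))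
    exact ((hE.mod.prime.coprime_iff_not_dvd).2 hq).coprime_dvd_left (orderOf_dvd_of_pow_eq_one (hE.mod.exp m))
  have hyA : (y : G) ∉ centralizer (A : Set G) := by
    intro hyA
    refine hπy (hE.eq_one_of_fixed hF h hbot hnc fun w hw => ?_)
    rw [hE.mod.equiv ⟨w, hE.T_norm hF h (hF.A_T hw)⟩ y]
    refine congrArg π (Subtype.ext ?_)
    show w * (y : G) * w⁻¹ = y
    rw [mem_centralizer_iff.1 hyA w hw, mul_inv_cancel_right]
  have hyc : (y : G) ∉ cor Qa := fun e1 => hyA (hF.centralizes_cor h hbot hQa e1)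
  have hy1 : (y : G) ≠ 1 := fun e1 => hyc (e1 ▸ one_mem _)
  have hyG : (y : G) ^ ℓ ^ k = 1 := by rw [← SubmonoidClass.coe_pow, hyk]; rfl
  have htor : TorAt A Qa L a b (y : G) :=
    ⟨ha, hb, ha1, hG1L y (subset_closure hyS), hyS.1, odd_of_ocen (hE.le y.2), hyc, hyS.2⟩
  refine ⟨?_, Qa, hQa, y, k, hCQ hyS.1, hyS.1, hyS.2, hyG, hy1, hyA⟩
  -- the fixed space is cyclic
  let f : ↥G1 →* M := π.comp G1.subtype
  have hMp : IsPGroup ℓ f.range := fun z => ⟨1, Subtype.ext (by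
    rw [pow_one, SubmonoidClass.coe_pow]; exact hE.mod.exp z)⟩
  let P0 : Sylow ℓ ↥G1 := default
  have hP0 : (P0 : Subgroup ↥G1).map f.rangeRestrict = ⊤ := by
    have h1 := (P0.mapSurjective f.rangeRestrict_surjective).3
      (hMp.to_subgroup (⊤ : Subgroup f.range)) le_top
    simpa using h1.symm
  set PG : Subgroup G := (P0 : Subgroup ↥G1).map (Q0.subtype.comp G1.subtype) with hPG
  obtain ⟨g, hg, hgen⟩ := exists_cyclic_mod_cor h hB hL htor hyG PG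
    (by rintro _ ⟨w, -, rfl⟩; exact hG1L _ w.2) (P0.2.map _)
  obtain ⟨g0, hg0, rfl⟩ := hg
  have hsub : Fa ≤ zpowers (f g0) := by
    intro w hw
    obtain ⟨d, hdm, hda, hdb⟩ := hE.exists_inv_lift hF h hbot hnc ha hb ha1 hb1 hab hw
    have hdG : d ∈ G1 := subset_closure ⟨hda, hdb⟩
    obtain ⟨e, he, hef⟩ : (⟨w, ⟨⟨d, hdG⟩, hdm⟩⟩ : ↥f.range) ∈ (P0 : Subgroup ↥G1).map f.rangeRestrict :=
      hP0 ▸ mem_top _
    obtain ⟨i, hi⟩ := hgen _ ⟨e, he, rfl⟩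
    refine mem_zpowers_iff.2 ⟨i, ?_⟩
    have h2 : π ((g0 ^ i)⁻¹ * e : ↥G1) = 1 := by
      refine hcor _ ((g0 ^ i)⁻¹ * e).2 ?_
      simpa using hi
    have h3 : (f (g0 ^ i))⁻¹ * f e = 1 := by rw [← map_inv, ← map_mul]; exact h2
    rw [inv_mul_eq_one, map_zpow] at h3
    exact h3.trans (congrArg Subtype.val hef)
  refine le_antisymm ?_ ?_
  · refine (Subgroup.card_le_of_le hsub).trans ?_
    rw [Nat.card_zpowers]
    exact Nat.le_of_dvd hE.mod.prime.pos (orderOf_dvd_of_pow_eq_one (hE.mod.exp _))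
  · have h1 : orderOf m = ℓ := orderOf_eq_prime (hE.mod.exp m) hm1
    calc ℓ = Nat.card (zpowers m) := by rw [Nat.card_zpowers, h1]
      _ ≤ _ := Subgroup.card_le_of_le (zpowers_le.2 hm)

end EndCtx

end Cfsg.Agent.Gold1169.Two
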