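import Cfsg.Agent.Lib.Gold1169.Two.EndFixed

/-!
The functors cannot all be trivial.
-/

set_option autoImplicit false
set_option linter.style.haveILetI false
set_option linter.unusedSectionVars false

namespace Cfsg.Agent.Gold1169.Two

open Subgroup
open Cfsg.Agent.Walter4 (cen cenS ocen cor XB pre CA mem_pre cor_zpowers pre_le)
open Cfsg.Agent.OddDown.CoreSep (q im mem_im)
open scoped commutatorElement

universe u

attribute [local instance] FittingCores.pPrimeCore_normal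

variable {G : Type u} [Group G] [Finite G] {S : Sylow 2 G} {A T Y : Subgroup G}

namespace Final

variable (hF : Final S A T Y) (h : Ctx S A) (hbot : ∀ x ∈ T, x ≠ 1 → theta (Ps A T) x = ⊥)
  (hnc : ∀ L : Subgroup (XB A), ¬ Cfsg.IsComponent L)
include hF h hbot

/-- The quotient exists. -/
theorem exists_endCtx : ∃ (r r' : G) (R Q0 : Subgroup G) (ℓ : ℕ) (M : Type u) (_ : CommGroup M)
    (_ : Finite M) (π : ↥Q0 →* M) (Φ : ↥(normalizer (Q0 : Set G)) →* MulAut M),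
      EndCtx A T r r' R Q0 ℓ M π Φ := by
  haveI : Fact (Nat.Prime 2) := ⟨Nat.prime_two⟩
  obtain ⟨t, ht, htA⟩ : ∃ t ∈ T, t ∉ A := by
    by_contra hno
    push Not at hno
    have := Subgroup.card_le_of_le (show T ≤ A from hno)
    rw [hF.cardT, h.card] at this
    omega
  obtain ⟨R, hR, htR⟩ := hF.cover t ht htA
  have ht1 : t ≠ 1 := fun e0 => htA (e0 ▸ one_mem A)
  obtain ⟨r', hr', hr'1, hne⟩ := hF.exists_two h hR htR
  have hr'T := hR.le hr'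
  set Q0 := ⁅ocen t, zpowers r'⁆ with hQ0
  have hzn : zpowers r' ≤ normalizer (ocen t : Set G) := zpowers_le.2
    ((OddDown.CoreSep.core_props t).2.1 (mem_cen.2 (hF.T_comm h hr'T ht)))
  have hle : Q0 ≤ ocen t := CoprimeAct.commutator_le_left hzn
  have hnD : cenS R ≤ normalizer (Q0 : Set G) := by
    refine OddDown.FixedGen.le_normalizer_commutator' (fun g hg => ?_) fun g hg => ?_
    · exact (OddDown.CoreSep.core_props t).2.1 (mem_cen.2 (mem_centralizer_iff.1 hg t htR).symm)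
    · refine centralizer_le_normalizer _ ?_
      refine mem_centralizer_iff.2 fun z hz => ?_
      obtain ⟨i, rfl⟩ := mem_zpowers_iff.1 hz
      exact ((show Commute r' g from mem_centralizer_iff.1 hg r' hr').zpow_left i).eq
  obtain ⟨x, hx, hx1, hxinv⟩ := hF.exists_inverted h hR htR ht1 hr' hr'1 hne
  have hxQ : x ∈ Q0 := by
    refine mem_of_sq_odd ?_ (odd_of_ocen hx)
    have h1 := commutator_mem_commutator hx (mem_zpowers r')
    have h3 : r' * x⁻¹ * r'⁻¹ = x := by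
      rw [show r' * x⁻¹ * r'⁻¹ = (r' * x * r'⁻¹)⁻¹ by group, hxinv, inv_inv]
    rwa [show ⁅x, r'⁆ = x * x by
      rw [commutatorElement_def, show x * r' * x⁻¹ * r'⁻¹ = x * (r' * x⁻¹ * r'⁻¹) by group, h3]] at h1
  have hodd : Odd (Nat.card Q0) := (ocen_odd t).of_dvd_nat (card_dvd_of_le hle)
  obtain ⟨ℓ, M, hcg, hfin, π, Φ, hM⟩ :=
    exists_module hodd (fun e0 => hx1 (mem_bot.1 (e0 ▸ hxQ)))
  refine ⟨t, r', R, Q0, ℓ, M, hcg, hfin, π, Φ, hR, htR, ht1, hr', hM, hle, hnD, fun hr'N m => ?_⟩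
  -- the inverted elements
  let W0 : Subgroup M := (Φ ⟨r', hr'N⟩).toMonoidHom.eqLocus invMonoidHom
  have hzcop : (Nat.card (zpowers r')).Coprime (Nat.card (ocen t)) := by
    rw [Nat.card_zpowers, orderOf_eq_prime (by rw [pow_two]; exact hF.T_sq r' hr'T) hr'1]
    exact (Walter4.ocen_coprime t).symm
  have hQQ : ⁅Q0, zpowers r'⁆ = Q0 := CoprimeAct.commutator_commutator hzn hzcop
    (Or.inl (Group.isSolvable_of_comm fun u v => mul_comm' u v))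
  have hW : ∀ w : G, w ∈ Q0 → w ∈ (W0.comap π).map Q0.subtype := by
    intro w hw
    rw [← hQQ] at hw
    refine (commutator_le.2 fun u hu v hv => ?_) hw
    have hv' : v = 1 ∨ v = r' := by
      obtain ⟨i, rfl⟩ := mem_zpowers_iff.1 hv
      rcases Int.even_or_odd i with ⟨j, rfl⟩ | ⟨j, rfl⟩
      · exact Or.inl (by rw [← two_mul, zpow_mul, zpow_two, hF.T_sq r' hr'T, one_zpow])
      · exact Or.inr (by rw [zpow_add, zpow_mul, zpow_two, hF.T_sq r' hr'T, one_zpow, one_mul, zpow_one])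
    rcases hv' with rfl | rfl
    · rw [commutatorElement_one_right]; exact one_mem _
    set d : ↥Q0 := ⟨u, hu⟩ * ⟨v * u⁻¹ * v⁻¹, (mem_normalizer_iff.1 hr'N _).1 (inv_mem hu)⟩ with hd
    refine ⟨d, ?_, by rw [hd, commutatorElement_def]; show u * (v * u⁻¹ * v⁻¹) = _; group⟩
    show Φ ⟨v, hr'N⟩ (π d) = (π d)⁻¹
    have e1 : π d = π ⟨u, hu⟩ * Φ ⟨v, hr'N⟩ (π ⟨u, hu⟩⁻¹) := by
      rw [hd, map_mul, hM.equiv ⟨v, hr'N⟩ ⟨u, hu⟩⁻¹]; rfl
    have e2 : ∀ n : M, Φ ⟨v, hr'N⟩ (Φ ⟨v, hr'N⟩ n) = n := fun n => by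
      rw [← MulAut.mul_apply, ← map_mul,
        show (⟨v, hr'N⟩ * ⟨v, hr'N⟩ : ↥(normalizer (Q0 : Set G))) = 1 from Subtype.ext (hF.T_sq v hr'T),
        map_one, MulAut.one_apply]
    rw [e1, map_inv π, map_mul, e2, map_inv, mul_inv, inv_inv, mul_comm]
  obtain ⟨w, rfl⟩ := hM.surj m
  obtain ⟨w', hw', he⟩ := hW w w.2
  obtain rfl : w' = w := Subtype.ext he
  exact hw'

include hnc

/-- Trivial functors are absurd. -/
theorem false_of_bot_of : False := by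
  obtain ⟨r, r', R, Q0, ℓ, M, hcg, hfin, π, Φ, hE⟩ := hF.exists_endCtx h hbot
  haveI := Fact.mk hE.mod.prime
  have hTN := hE.T_norm hF h
  have hR := hE.isR
  have hB := hF.loc_R h hR
  obtain ⟨L, hL, hAL⟩ := hF.exists_moved h hR
  have hLN : pre R L ≤ normalizer (Q0 : Set G) := pre_le.trans hE.nD
  obtain ⟨U, η, hηU⟩ := h.loc.torus R hB L hL
  have hUA : U = A := eq_of_le_of_card_ge hηU.le (h.card.trans_le hηU.four)
  have hηL : η ∈ pre R L := hηU.mem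
  have hηA : η ∈ normalizer (A : Set G) := hηU.norm
  have hηN : η ∈ normalizer (Q0 : Set G) := hLN hηL
  have hηm : η ∉ centralizer (A : Set G) := by
    intro hηc
    obtain ⟨a, ha, ha1⟩ := A.bot_or_exists_ne_one.resolve_left h.ne_bot
    obtain ⟨b, hb, hb1, hba⟩ := h.exists_ne a
    obtain ⟨i, hi⟩ := hηU.trans a (hUA.symm ▸ ha) ha1 b (hUA.symm ▸ hb) hb1
    refine hba (hi.symm.trans ?_)
    rw [← mem_centralizer_iff.1 (pow_mem hηc i) a ha, mul_inv_cancel_right]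
  set F : ∀ a, a ∈ A → Subgroup M := fun a ha => fxd (Φ ⟨a, hTN (hF.A_T ha)⟩) with hFdef
  have hFeq : ∀ {a a' : G} (ha : a ∈ A) (ha' : a' ∈ A), a = a' → F a ha = F a' ha' := by
    rintro a a' ha ha' rfl; rfl
  have hstep : ∀ a (ha : a ∈ A), F a ha ≠ ⊥ →
      F (η * a * η⁻¹) ((h.set.conj_mem_iff hηA).1 ha) ≠ ⊥ := by
    intro a ha hne e0
    obtain ⟨m, hm, hm1⟩ := (F a ha).bot_or_exists_ne_one.resolve_left hne
    have h1 : Φ ⟨η, hηN⟩ m ∈ F (η * a * η⁻¹) ((h.set.conj_mem_iff hηA).1 ha) :=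
      hE.conj_fxd hF h hηN (hTN (hF.A_T ha)) hm
    rw [e0, mem_bot, MulEquiv.map_eq_one_iff] at h1
    exact hm1 h1
  -- every point of `A` has a nontrivial fixed space
  obtain ⟨a₁, ha₁, ha₁1, ha₁F⟩ : ∃ a, ∃ ha : a ∈ A, a ≠ 1 ∧ F a ha ≠ ⊥ := by
    obtain ⟨a, ha, ha1⟩ := A.bot_or_exists_ne_one.resolve_left h.ne_bot
    obtain ⟨b, hb, hb1, hba⟩ := h.exists_ne a
    obtain ⟨m, hm⟩ := hE.mod.ne_one
    obtain ⟨x, hx, y, hy, z, hz, hxyz⟩ := hE.exists_dec hF h hbot hnc ha hb ha1 hb1 (Ne.symm hba) m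
    by_contra hno
    push Not at hno
    have hc1 : a * b ≠ 1 := fun e0 => hba (by rw [← inv_eq_of_mul_eq_one_right e0, h.inv_eq ha])
    have e1 : x = 1 := mem_bot.1 (hno a ha ha1 ▸ hx)
    have e2 : y = 1 := mem_bot.1 (hno b hb hb1 ▸ hy)
    have e3 : z = 1 := mem_bot.1 (hno (a * b) (mul_mem ha hb) hc1 ▸ hz)
    exact hm (by rw [hxyz, e1, e2, e3, one_mul, one_mul])
  have hall : ∀ a (ha : a ∈ A), a ≠ 1 → F a ha ≠ ⊥ := by
    intro a ha ha1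
    obtain ⟨hne, e2⟩ := h.moving_cycle hηA hηm ha₁ ha₁1
    rcases h.cases_four ha₁ ((h.set.conj_mem_iff hηA).1 ha₁) ha₁1 (fun e0 => ha₁1 (conj_eq_one_iff.1 e0))
      (Ne.symm hne) ha with e1 | e1 | e1 | e1
    · exact absurd e1 ha1
    · rw [hFeq ha ha₁ e1]; exact ha₁F
    · rw [hFeq ha ((h.set.conj_mem_iff hηA).1 ha₁) e1]; exact hstep _ ha₁ ha₁F
    · rw [hFeq ha ((h.set.conj_mem_iff hηA).1 ((h.set.conj_mem_iff hηA).1 ha₁)) (e1.trans e2.symm)]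
      exact hstep _ ((h.set.conj_mem_iff hηA).1 ha₁) (hstep _ ha₁ ha₁F)
  have hcard : ∀ a (ha : a ∈ A), a ≠ 1 → Nat.card (F a ha) = ℓ := by
    intro a ha ha1
    obtain ⟨b, hb, hb1, hba⟩ := h.exists_ne a
    obtain ⟨m, hm, hm1⟩ := (F a ha).bot_or_exists_ne_one.resolve_left (hall a ha ha1)
    exact (hE.fxd_torus hF h hbot hnc ha hb ha1 hb1 (Ne.symm hba) hm hm1).1
  -- the torus transported into the component
  obtain ⟨a, ha, ha1⟩ := A.bot_or_exists_ne_one.resolve_left h.ne_bot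
  obtain ⟨b, hb, hb1, hba⟩ := h.exists_ne a
  have hab : a ≠ b := Ne.symm hba
  have hcA : a * b ∈ A := mul_mem ha hb
  have hc1 : a * b ≠ 1 := fun e0 => hba (by rw [← inv_eq_of_mul_eq_one_right e0, h.inv_eq ha])
  obtain ⟨m, hm, hm1⟩ := (F a ha).bot_or_exists_ne_one.resolve_left (hall a ha ha1)
  obtain ⟨-, Qa, hQa, y₀, k, hy₀C, hy₀a, hy₀b, hy₀k, hy₀1, hy₀A⟩ :=
    hE.fxd_torus hF h hbot hnc ha hb ha1 hb1 hab hm hm1
  obtain ⟨g, hg, hgQ⟩ := hF.trans Qa R hQa hR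
  have hgA := h.S_le hg
  set y := g * y₀ * g⁻¹ with hy
  have hyC : y ∈ cenS R := by
    refine mem_centralizer_iff.2 fun ρ hρ => ?_
    have hρ' : ρ ∈ Qa.map (MulAut.conj g).toMonoidHom := hgQ.symm ▸ hρ
    obtain ⟨ρ₀, hρ₀, rfl⟩ := hρ'
    show g * ρ₀ * g⁻¹ * (g * y₀ * g⁻¹) = g * y₀ * g⁻¹ * (g * ρ₀ * g⁻¹)
    rw [show g * ρ₀ * g⁻¹ * (g * y₀ * g⁻¹) = g * (ρ₀ * y₀) * g⁻¹ by group,
      mem_centralizer_iff.1 hy₀C ρ₀ hρ₀]
    group
  have hgc : ∀ w ∈ A, Commute g w := fun w hw => (mem_centralizer_iff.1 hgA w hw).symm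
  have hya : y * a = a * y :=
    (((hgc a ha).mul_left (show Commute y₀ a from hy₀a)).mul_left (hgc a ha).inv_left).eq
  have hyb : b * y * b⁻¹ = y⁻¹ := by
    rw [hy, show b * (g * y₀ * g⁻¹) * b⁻¹ = (b * g) * y₀ * (b * g)⁻¹ by group, ← (hgc b hb).eq,
      show g * b * y₀ * (g * b)⁻¹ = g * (b * y₀ * b⁻¹) * g⁻¹ by group, hy₀b]
    group
  have hyk : y ^ ℓ ^ k = 1 := by rw [hy, ← conj_pow, hy₀k, mul_one, mul_inv_cancel]
  have hyo : Odd (orderOf y) :=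
    Odd.of_dvd_nat ((hE.mod.prime.odd_of_ne_two hE.mod.ne_two).pow) (orderOf_dvd_of_pow_eq_one hyk)
  have hyA : y ∉ centralizer (A : Set G) := fun hyA => hy₀A (by
    have := mul_mem (mul_mem (inv_mem hgA) hyA) hgA
    rwa [hy, show g⁻¹ * (g * y₀ * g⁻¹) * g = y₀ by group] at this)
  have hyL : y ∈ pre R L := hF.mem_pre_of_inverted h hR hL hyC hyo hb hyb
  have hyc : y ∉ cor R := fun e0 => hyA (hF.centralizes_cor h hbot hR e0)
  have htor : TorAt A R L a b y := ⟨ha, hb, ha1, hyL, hya, hyo, hyc, hyb⟩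
  let Φ1 : ↥(pre R L) →* MulAut M := Φ.comp (Subgroup.inclusion hLN)
  -- `ℓ`-elements of the core act trivially
  have hcorfix : ∀ z (hz : z ∈ pre R L), z ∈ cor R → ∀ j, z ^ ℓ ^ j = 1 → Φ1 ⟨z, hz⟩ = 1 := by
    intro z hz hzc j hzj
    have hφ : Φ1 ⟨z, hz⟩ ^ ℓ ^ j = 1 := by
      rw [← map_pow, show (⟨z, hz⟩ : ↥(pre R L)) ^ ℓ ^ j = 1 from Subtype.ext hzj, map_one]
    have hpres : ∀ w (hw : w ∈ A), ∀ n ∈ F w hw, Φ1 ⟨z, hz⟩ n ∈ F w hw := by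
      intro w hw n hn
      show Φ ⟨w, hTN (hF.A_T hw)⟩ (Φ1 ⟨z, hz⟩ n) = Φ1 ⟨z, hz⟩ n
      have h1 := hE.act_comm hF h (hTN (hF.A_T hw)) (hLN hz)
        (mem_centralizer_iff.1 (hF.centralizes_cor h hbot hR hzc) w hw) n
      exact h1.trans (congrArg _ hn)
    refine MulEquiv.ext fun n => ?_
    obtain ⟨x1, hx1, x2, hx2, x3, hx3, rfl⟩ := hE.exists_dec hF h hbot hnc ha hb ha1 hb1 hab n
    rw [map_mul, map_mul, Flag.fix_of_pow hφ (hcard a ha ha1) (hpres a ha) hx1,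
      Flag.fix_of_pow hφ (hcard b hb hb1) (hpres b hb) hx2,
      Flag.fix_of_pow hφ (hcard _ hcA hc1) (hpres _ hcA) hx3, MulAut.one_apply]
  -- the action of `y`
  set φ := Φ1 ⟨y, hyL⟩ with hφdef
  have hφk : φ ^ ℓ ^ k = 1 := by
    rw [hφdef, ← map_pow, show (⟨y, hyL⟩ : ↥(pre R L)) ^ ℓ ^ k = 1 from Subtype.ext hyk, map_one]
  set ga := Φ ⟨a, hTN (hF.A_T ha)⟩ with hgadef
  set gb := Φ ⟨b, hTN (hF.A_T hb)⟩ with hgbdef
  have hφga : ∀ n, ga (φ n) = φ (ga n) := fun n =>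
    hE.act_comm hF h (hTN (hF.A_T ha)) (hLN hyL) hya.symm n
  have hφa : ∀ n ∈ F a ha, φ n = n := fun n hn =>
    Flag.fix_of_pow hφk (hcard a ha ha1) (fun w hw => (hφga w).trans (congrArg φ hw)) hn
  have hφb : ∀ n, φ (gb n) = gb (φ⁻¹ n) := by
    intro n
    have e1 : Φ1 ⟨y, hyL⟩ * gb = gb * (Φ1 ⟨y, hyL⟩)⁻¹ := by
      rw [hgbdef]
      show Φ ⟨y, hLN hyL⟩ * _ = _ * (Φ ⟨y, hLN hyL⟩)⁻¹
      rw [← map_inv, ← map_mul, ← map_mul]
      refine congrArg Φ (Subtype.ext ?_)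
      show y * b = b * y⁻¹
      rw [← hyb, ← mul_assoc, ← mul_assoc, h.sq hb, one_mul, h.inv_eq hb]
    exact congrArg (fun w : MulAut M => w n) e1
  -- the elements inverted by `a`
  let I : Subgroup M := ga.toMonoidHom.eqLocus invMonoidHom
  have hIb : F b hb ≤ I := fun n hn => hE.inv_fxd hF h hbot hnc hb ha hb1 ha1 hba hn
  have hIc : F (a * b) hcA ≤ I := fun n hn =>
    hE.inv_fxd hF h hbot hnc hcA ha hc1 ha1 (fun e0 => hb1 (mul_left_cancel (e0.trans (mul_one a).symm))) hn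
  have hIV : ∀ n ∈ I, n ∈ F b hb ⊔ F (a * b) hcA := by
    intro n hn
    obtain ⟨x1, hx1, x2, hx2, x3, hx3, rfl⟩ := hE.exists_dec hF h hbot hnc ha hb ha1 hb1 hab n
    have h2 : x1 ∈ I := by
      have := mul_mem (mul_mem hn (inv_mem (hIc hx3))) (inv_mem (hIb hx2))
      rwa [mul_inv_cancel_right, mul_inv_cancel_right] at this
    have e1 : x1 = 1 := hE.mod.eq_one_of_sq (by
      have h3 : ga x1 = x1⁻¹ := h2
      rw [mem_fxd] at hx1
      rw [hx1] at h3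
      exact eq_inv_iff_mul_eq_one.1 h3)
    rw [e1, one_mul]
    exact mul_mem (mem_sup_left hx2) (mem_sup_right hx3)
  have hφI : ∀ n ∈ I, φ n ∈ I := fun n hn => by
    show ga (φ n) = (φ n)⁻¹
    rw [hφga, show ga n = n⁻¹ from hn, map_inv]
  -- a fixed line
  obtain ⟨z, hzI, hz1, hzφ⟩ : ∃ z ∈ I, z ≠ 1 ∧ φ z = z := by
    have hP : IsPGroup ℓ ↥(zpowers φ) := fun w => ⟨k, Subtype.ext (by
      obtain ⟨i, hi⟩ := mem_zpowers_iff.1 w.2
      rw [SubmonoidClass.coe_pow, ← hi, ← zpow_natCast, ← zpow_mul, mul_comm, zpow_mul, zpow_natCast,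
        hφk, one_zpow]; rfl)⟩
    have hzp : ∀ w ∈ zpowers φ, ∀ n ∈ I, w n ∈ I := by
      intro w hw n hn
      obtain ⟨i, rfl⟩ : ∃ i : ℕ, φ ^ i = w := (isOfFinOrder_of_finite φ).mem_powers_iff_mem_zpowers.2 hw
      clear hw
      induction i with
      | zero => exact hn
      | succ i ih => rw [pow_succ', MulAut.mul_apply]; exact hφI _ ih
    letI : MulAction ↥(zpowers φ) ↥I :=
      { smul := fun w n => ⟨(w : MulAut M) n, hzp _ w.2 n n.2⟩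
        one_smul := fun n => Subtype.ext rfl
        mul_smul := fun w w' n => Subtype.ext rfl }
    have hdvd : ℓ ∣ Nat.card ↥I := hcard b hb hb1 ▸ card_dvd_of_le hIb
    obtain ⟨⟨z, hz⟩, hzf, hz1⟩ := hP.exists_fixed_point_of_prime_dvd_card_of_fixed_point (α := ↥I) hdvd
      (a := 1) (fun w => Subtype.ext (map_one (w : MulAut M)))
    exact ⟨z, hz, fun e0 => hz1 (Subtype.ext e0.symm), congrArg Subtype.val (hzf ⟨φ, mem_zpowers φ⟩)⟩
  obtain ⟨bb, hbbA, hbb1, hbbne, hbbfix, hcc⟩ : ∃ bb, ∃ hbb : bb ∈ A, bb ≠ 1 ∧ bb ≠ a ∧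
      (∀ n ∈ F bb hbb, φ n = n) ∧ (bb = b ∨ bb = a * b) := by
    have hbz : φ (gb z) = gb z := by
      rw [hφb]
      refine congrArg gb ?_
      conv_lhs => rw [← hzφ]
      exact φ.symm_apply_apply z
    have hgbI : gb z ∈ I := by
      show ga (gb z) = (gb z)⁻¹
      rw [hgadef, hgbdef, hE.act_comm hF h (hTN (hF.A_T ha)) (hTN (hF.A_T hb)) (h.comm ha hb),
        show Φ ⟨a, hTN (hF.A_T ha)⟩ z = z⁻¹ from hzI, map_inv]
    have h1 : z * gb z ∈ F b hb := by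
      show gb (z * gb z) = _
      rw [map_mul, hgbdef, hE.act_invol hF h (hF.A_T hb), mul_comm]; rfl
    have h2 : z * (gb z)⁻¹ ∈ F (a * b) hcA := by
      have hg2 : gb (gb z) = z := hE.act_invol hF h (hF.A_T hb) z
      have hab2 : Φ ⟨a * b, hTN (hF.A_T hcA)⟩ = ga * gb := by rw [hgadef, hgbdef, ← map_mul]; rfl
      show Φ ⟨a * b, hTN (hF.A_T hcA)⟩ (z * (gb z)⁻¹) = _
      rw [hab2, MulAut.mul_apply, map_mul gb, map_inv gb, hg2, map_mul ga, map_inv ga,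
        show ga (gb z) = (gb z)⁻¹ from hgbI, show ga z = z⁻¹ from hzI, inv_inv, mul_comm]
      rfl
    have fixline : ∀ {X : Subgroup M}, Nat.card X = ℓ → ∀ {n}, n ∈ X → n ≠ 1 → φ n = n → ∀ w ∈ X, φ w = w :=
      fun {X} hX {n} hn hn1 hfix w hw => mem_fxd.1 (Flag.le_of_ne_one hX hn hn1 (mem_fxd.2 hfix) hw)
    by_cases e1 : z * gb z = 1
    · refine ⟨a * b, hcA, hc1, fun e0 => hb1 (mul_left_cancel (e0.trans (mul_one a).symm)),
        fixline (hcard _ hcA hc1) h2 (fun e2 => hz1 (hE.mod.eq_one_of_sq ?_))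
          (by rw [map_mul, map_inv, hzφ, hbz]), Or.inr rfl⟩
      rw [mul_inv_eq_one] at e2
      rw [← e2] at e1
      exact e1
    · exact ⟨b, hb, hb1, hba, fixline (hcard b hb hb1) h1 e1 (by rw [map_mul, hzφ, hbz]), Or.inl rfl⟩
  set cc := a * bb with hccdef
  have hccA : cc ∈ A := mul_mem ha hbbA
  have hcc1 : cc ≠ 1 := fun e0 => hbbne (by rw [← inv_eq_of_mul_eq_one_right e0, h.inv_eq ha])
  have hV : F bb hbbA ⊔ F cc hccA = F b hb ⊔ F (a * b) hcA := by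
    rcases hcc with e0 | e0
    · rw [hFeq hbbA hb e0, hFeq hccA hcA (by rw [hccdef, e0])]
    · rw [hFeq hbbA hcA e0, hFeq hccA hb (by rw [hccdef, e0, ← mul_assoc, h.sq ha, one_mul]), sup_comm]
  have hφV : ∀ n ∈ F bb hbbA ⊔ F cc hccA, φ n ∈ F bb hbbA ⊔ F cc hccA := by
    intro n hn
    rw [hV] at hn ⊢
    exact hIV _ (hφI _ ((sup_le hIb hIc) hn))
  -- the kernel
  have hφ1 : φ ≠ 1 := by
    intro hφ1
    obtain ⟨K, _, _, ρ, TK, P, hk⟩ := exists_kmap h hB hL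
    haveI := hk.simple
    rcases (MonoidHom.normal_ker Φ1 |>.map ρ hk.surj).eq_bot_or_eq_top with e0 | e0
    · have h1 : ρ ⟨y, hyL⟩ = 1 := by
        have : ρ ⟨y, hyL⟩ ∈ Φ1.ker.map ρ := mem_map_of_mem ρ (MonoidHom.mem_ker.2 hφ1)
        rwa [e0, mem_bot] at this
      exact hyc (hk.mem_cor_of_ker h hB hL hyL h1 hyo)
    obtain ⟨n, hn, hnb⟩ : ρ ⟨b, hAL hb⟩ ∈ Φ1.ker.map ρ := e0 ▸ mem_top _
    set zz : ↥(pre R L) := n⁻¹ * ⟨b, hAL hb⟩ with hzz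
    have hzk : ρ zz = 1 := by rw [hzz, map_mul, map_inv, hnb, inv_mul_cancel]
    set ηl : ↥(pre R L) := ⟨η, hηL⟩ with hηl
    have h1 : Φ1 zz = Φ1 ⟨b, hAL hb⟩ := by
      rw [hzz, map_mul, map_inv, (MonoidHom.mem_ker.1 hn : Φ1 n = 1), inv_one, one_mul]
    have hcor : ((zz * ηl * zz⁻¹ * ηl⁻¹ : ↥(pre R L)) : G) ∈ cor R :=
      comm_mem_cor ((hk.ker _).1 hzk) hηL
    set w := b * η * b⁻¹ * η⁻¹ with hw
    have hwA : w ∈ A := by
      rw [hw, show b * η * b⁻¹ * η⁻¹ = b * (η * b⁻¹ * η⁻¹) by group]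
      exact mul_mem hb ((h.set.conj_mem_iff hηA).1 (inv_mem hb))
    have hw1 : w ≠ 1 := by
      intro e1
      refine (h.moving_cycle hηA hηm hb hb1).1 ?_
      rw [hw, mul_inv_eq_one, mul_inv_eq_iff_eq_mul] at e1
      rw [← e1, mul_inv_cancel_right]
    have h2 : Φ1 ⟨w, hAL hwA⟩ = Φ1 (zz * ηl * zz⁻¹ * ηl⁻¹) := by
      rw [show (⟨w, hAL hwA⟩ : ↥(pre R L)) = ⟨b, hAL hb⟩ * ηl * ⟨b, hAL hb⟩⁻¹ * ηl⁻¹ from Subtype.ext hw]
      simp only [map_mul, map_inv, h1]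
    have hodd : Odd (orderOf (Φ1 (zz * ηl * zz⁻¹ * ηl⁻¹))) := by
      refine Odd.of_dvd_nat ?_ (orderOf_map_dvd Φ1 _)
      rw [← orderOf_coe]
      exact odd_of_cor hcor
    have h3 : Φ1 ⟨w, hAL hwA⟩ = 1 := by
      rw [h2]
      refine eq_one_of_sq_odd ?_ hodd
      rw [← h2, ← map_mul, show (⟨w, hAL hwA⟩ * ⟨w, hAL hwA⟩ : ↥(pre R L)) = 1 from Subtype.ext (h.sq hwA),
        map_one]
    obtain ⟨v, hv, hv1, hvw⟩ := h.exists_ne w
    obtain ⟨n', hn', hn'1⟩ := (F v hv).bot_or_exists_ne_one.resolve_left (hall v hv hv1)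
    refine hn'1 (hE.fxd_inf hF h hbot hnc hwA hv hw1 hv1 (Ne.symm hvw) ?_ hn')
    exact congrArg (fun f : MulAut M => f n') h3
  -- the cyclic permutation
  obtain ⟨ζ, hζL, hζA, hζm, hζa⟩ : ∃ ζ, ζ ∈ pre R L ∧ ζ ∈ normalizer (A : Set G) ∧
      ζ ∉ centralizer (A : Set G) ∧ ζ * a * ζ⁻¹ = bb := by
    obtain ⟨hne, e2⟩ := h.moving_cycle hηA hηm ha ha1
    have hηa : η * a * η⁻¹ ∈ A := (h.set.conj_mem_iff hηA).1 ha
    rcases h.cases_four ha hηa ha1 (fun e0 => ha1 (conj_eq_one_iff.1 e0)) (Ne.symm hne) hbbA with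
      e1 | e1 | e1 | e1
    · exact absurd e1 hbb1
    · exact absurd e1 hbbne
    · exact ⟨η, hηL, hηA, hηm, e1.symm⟩
    · refine ⟨η⁻¹, inv_mem hηL, inv_mem hηA, fun hc => hηm (inv_mem_iff.1 hc), ?_⟩
      have e3 : η * bb * η⁻¹ = a := by
        calc η * bb * η⁻¹ = (η * a * η⁻¹) * (η * (η * a * η⁻¹) * η⁻¹) := by rw [e1]; group
          _ = (η * a * η⁻¹) * (a * (η * a * η⁻¹)) := by rw [e2]
          _ = a := by rw [h.comm ha hηa, ← mul_assoc, h.sq hηa, one_mul]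
      rw [inv_inv]
      nth_rewrite 1 [← e3]
      group
  obtain ⟨-, hζb⟩ := h.moving_cycle hζA hζm ha ha1
  rw [hζa, ← hccdef] at hζb
  have hζc : ζ * cc * ζ⁻¹ = a := by
    calc ζ * cc * ζ⁻¹ = (ζ * a * ζ⁻¹) * (ζ * bb * ζ⁻¹) := by rw [hccdef]; group
      _ = a := by rw [hζa, hζb, hccdef, h.comm ha hbbA, ← mul_assoc, h.sq hbbA, one_mul]
  set η' := Φ1 ⟨ζ, hζL⟩ with hη'
  have hmap : ∀ w w' (hw : w ∈ A) (hw' : w' ∈ A), w ≠ 1 → w' ≠ 1 → ζ * w * ζ⁻¹ = w' →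
      (F w hw).map η'.toMonoidHom = F w' hw' := by
    intro w w' hw hw' hw1 hw'1 hc
    refine eq_of_le_of_card_ge ?_ ?_
    · rintro _ ⟨n, hn, rfl⟩
      rw [← hFeq ((h.set.conj_mem_iff hζA).1 hw) hw' hc]
      exact hE.conj_fxd hF h (hLN hζL) (hTN (hF.A_T hw)) hn
    · rw [hcard _ hw' hw'1, ← hcard _ hw hw1]
      exact (Nat.card_congr ((F w hw).equivMapOfInjective _ η'.injective).toEquiv).le
  have hdec : ∀ n : M, ∃ x ∈ F a ha, ∃ y ∈ F bb hbbA, ∃ z ∈ F cc hccA, n = x * y * z := by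
    intro n
    obtain ⟨x, hx, y', hy', z', hz', e0⟩ := hE.exists_dec hF h hbot hnc ha hbbA ha1 hbb1 (Ne.symm hbbne) n
    exact ⟨x, hx, y', hy', z', hz', e0⟩
  obtain ⟨P, hP, hφP, hψP, hne⟩ := Flag.exists_noncomm hE.mod.exp (hcard a ha ha1) (hcard bb hbbA hbb1)
    (hcard cc hccA hcc1) hdec hφk hφa hbbfix hφV hφ1 (hmap a bb ha hbbA ha1 hbb1 hζa)
    (hmap bb cc hbbA hccA hbb1 hcc1 hζb) (hmap cc a hccA ha hcc1 ha1 hζc)
  -- the image of the component has cyclic `ℓ`-subgroups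
  set P' : Subgroup (MulAut M) := P ⊓ Φ1.range with hP'
  have hP'p : IsPGroup ℓ ↥P' := hP.to_le inf_le_left
  have hψR : η' * φ * η'⁻¹ ∈ Φ1.range := ⟨⟨ζ, hζL⟩ * ⟨y, hyL⟩ * ⟨ζ, hζL⟩⁻¹, by rw [map_mul, map_mul, map_inv]⟩
  let H1 : Subgroup ↥(pre R L) := P'.comap Φ1
  let f : ↥H1 →* ↥P' := (Φ1.comp H1.subtype).codRestrict P' fun w => w.2
  have hfs : Function.Surjective f := fun p => by
    obtain ⟨w, hw⟩ := p.2.2
    exact ⟨⟨w, show Φ1 w ∈ P' from hw.symm ▸ p.2⟩, Subtype.ext hw⟩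
  let P0 : Sylow ℓ ↥H1 := default
  have hP0 : (P0 : Subgroup ↥H1).map f = ⊤ := by
    have h1 := (P0.mapSurjective hfs).3 (hP'p.to_subgroup (⊤ : Subgroup ↥P')) le_top
    simpa using h1.symm
  obtain ⟨g', hg', hgen⟩ := exists_cyclic_mod_cor h hB hL htor hyk
    ((P0 : Subgroup ↥H1).map ((pre R L).subtype.comp H1.subtype))
    (by rintro _ ⟨w, -, rfl⟩; exact w.1.2) (P0.2.map _)
  obtain ⟨g0, hg0, rfl⟩ := hg'
  have hpow : ∀ p : MulAut M, p ∈ P → p ∈ Φ1.range → ∃ i : ℤ, p = Φ1 g0 ^ i := by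
    intro p hp hpr
    obtain ⟨e, he, hef⟩ : (⟨p, hp, hpr⟩ : ↥P') ∈ (P0 : Subgroup ↥H1).map f := hP0 ▸ mem_top _
    obtain ⟨i, hi⟩ := hgen _ ⟨e, he, rfl⟩
    set d : ↥H1 := (g0 ^ i)⁻¹ * e with hd
    obtain ⟨j, hj⟩ := P0.2 ⟨d, mul_mem (inv_mem (zpow_mem hg0 i)) he⟩
    have hdj : ((d : ↥(pre R L)) : G) ^ ℓ ^ j = 1 :=
      congrArg (fun w : ↥H1 => ((w : ↥(pre R L)) : G)) (congrArg Subtype.val hj)
    have hdc : ((d : ↥(pre R L)) : G) ∈ cor R := by simpa [hd] using hi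
    have h4 : Φ1 (d : ↥(pre R L)) = 1 := hcorfix _ (d : ↥(pre R L)).2 hdc j hdj
    have h5 : Φ1 (e : ↥(pre R L)) = p := congrArg Subtype.val hef
    refine ⟨i, ?_⟩
    rw [hd, Subgroup.coe_mul, Subgroup.coe_inv, Subgroup.coe_zpow, map_mul, map_inv, map_zpow,
      inv_mul_eq_one, h5] at h4
    exact h4.symm
  obtain ⟨i, hi⟩ := hpow φ hφP ⟨_, rfl⟩
  obtain ⟨j, hj⟩ := hpow _ hψP hψR
  refine hne ?_
  rw [hj]
  rw [hi]
  exact ((Commute.refl _).zpow_zpow i j).eq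

end Final

end Cfsg.Agent.Gold1169.Two
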