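import Cfsg.Agent.Lib.Gold1169.Two.EndCore

/-!
Trivial functors: what the centralisers in `O(C(r))` of points of `A` centralise.
-/

set_option autoImplicit false
set_option linter.style.haveILetI false
set_option linter.unusedSectionVars false

namespace Cfsg.Agent.Gold1169.Two

open Subgroup
open Cfsg.Agent.Walter4 (cen cenS ocen cor XB pre CA mem_pre cor_zpowers pre_le)
open Cfsg.Agent.OddDown.CoreSep (q im mem_im)
open scoped commutatorElement

universe u

attribute [local instance] FittingCores.pPrimeCore_normal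

variable {G : Type u} [Group G] [Finite G] {S : Sylow 2 G} {A T Y : Subgroup G}

/-- Elements fixing or inverting `c` multiply. -/
theorem eig_mul {s t c : G} (hs : s * c * s⁻¹ = c ∨ s * c * s⁻¹ = c⁻¹)
    (ht : t * c * t⁻¹ = c ∨ t * c * t⁻¹ = c⁻¹) :
    s * t * c * (s * t)⁻¹ = c ∨ s * t * c * (s * t)⁻¹ = c⁻¹ := by
  rw [show s * t * c * (s * t)⁻¹ = s * (t * c * t⁻¹) * s⁻¹ by group]
  rcases ht with e | e <;> rw [e]
  · exact hs
  · rw [show s * c⁻¹ * s⁻¹ = (s * c * s⁻¹)⁻¹ by group]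
    rcases hs with e' | e' <;> rw [e']
    · exact Or.inr rfl
    · exact Or.inl (inv_inv c)

namespace Final

variable (hF : Final S A T Y) (h : Ctx S A) (hbot : ∀ x ∈ T, x ≠ 1 → theta (Ps A T) x = ⊥)
  (hnc : ∀ L : Subgroup (XB A), ¬ Cfsg.IsComponent L)
include hF h hbot hnc

omit hbot hnc in
theorem exists_two {R : Subgroup G} (hR : IsR A T R) {r : G} (hr : r ∈ R) :
    ∃ r' ∈ R, r' ≠ 1 ∧ r' ≠ r := by
  by_contra hno
  push Not at hno
  have hsub : (R : Set G) ⊆ {1, r} := fun w hw => by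
    by_cases hw1 : w = 1
    · exact Or.inl hw1
    · exact Or.inr (hno w hw hw1)
  have h1 := (Set.ncard_le_ncard hsub).trans (Set.ncard_insert_le _ _)
  rw [Set.ncard_singleton, ← Nat.card_coe_set_eq, SetLike.coe_sort_coe, hR.card] at h1
  omega

omit hbot hnc in
theorem R_cases {R : Subgroup G} (hR : IsR A T R) {r r' : G} (hr : r ∈ R) (hr1 : r ≠ 1) (hr' : r' ∈ R)
    (hr'1 : r' ≠ 1) (hne : r ≠ r') {x : G} (hx : x ∈ R) : x = 1 ∨ x = r ∨ x = r' ∨ x = r * r' :=
  eq_or_mul_of_four hR.card hr hr' hr1 hr'1 hne (hF.T_sq r (hR.le hr)) hx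

/-- An element of `O(C(r))` on which every complement but that of `r` has an inverter is trivial. -/
theorem piece {R : Subgroup G} (hR : IsR A T R) {r z : G} (hr : r ∈ R) (hr1 : r ≠ 1) (hz : z ∈ ocen r)
    (hzA : (∀ p ∈ A, p * z = z * p) ∨ ∃ p ∈ A, p * z * p⁻¹ = z⁻¹)
    (hzR : (∀ p ∈ R, p * z = z * p) ∨ ∃ p ∈ R, p * z * p⁻¹ = z⁻¹)
    (hzO : ∀ R', IsR A T R' → R' ≠ R → ∃ p ∈ R', p * z * p⁻¹ = z⁻¹) : z = 1 := by
  refine hF.eq_one_of h hbot (hR.le hr) hr1 hz ?_
  rintro P (rfl | hP)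
  · refine hzA.symm.imp_right fun hc => ?_
    have hzC : z ∈ cenS P := mem_centralizer_iff.2 fun p hp => hc p hp
    have hrC : zpowers r ≤ cenS P := zpowers_le.2 (hF.T_cenA h (hR.le hr))
    have hr2 : IsPGroup 2 ↥(zpowers r) := by
      haveI : Fact (Nat.Prime 2) := ⟨Nat.prime_two⟩
      exact IsPGroup.of_card (n := 1)
        (by rw [Nat.card_zpowers, pow_one, orderOf_eq_prime (by rw [pow_two]; exact hF.T_sq r (hR.le hr)) hr1])
    exact Walter4.mem_cor_of_mem_core (hx := hzC)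
      (Walter4.mem_cor hrC hr2 (by rw [cor_zpowers]; exact hz) hzC fun L hL => absurd hL (hnc L))
  by_cases hPR : P = R
  · subst hPR
    refine hzR.symm.imp_right fun hc => ?_
    have hzC : z ∈ cenS P := mem_centralizer_iff.2 fun p hp => hc p hp
    have hPC : cenS P ≤ cen r := centralizer_le (Set.singleton_subset_iff.2 hr)
    have hN : ((ocen r).subgroupOf (cenS P)).Normal := ⟨fun v hv g =>
      (mem_normalizer_iff.1 ((OddDown.CoreSep.core_props r).2.1 (hPC g.2)) (v : G)).1 hv⟩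
    refine Walter4.mem_cor_of_mem_core (hx := hzC) (Cfsg.Agent.PBasic.le_pPrimeCore hN ?_ hz)
    refine Nat.Coprime.coprime_dvd_left (dvd_trans (dvd_of_eq ?_)
      (card_dvd_of_le (inf_le_left : ocen r ⊓ cenS P ≤ _))) (Walter4.ocen_coprime r)
    rw [← inf_subgroupOf_right, Nat.card_congr (subgroupOfEquivOfLe inf_le_right).toEquiv]
  · exact Or.inl (hzO P hP hPR)

/-- An element of `O(C(r))` centralising `A` centralises `T`. -/
theorem centralizes_of_comm_A {R : Subgroup G} (hR : IsR A T R) {r y : G} (hr : r ∈ R) (hr1 : r ≠ 1)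
    (hy : y ∈ ocen r) (hyA : y ∈ centralizer (A : Set G)) {t : G} (ht : t ∈ T) : t * y = y * t := by
  have hyr : Commute r y := (mem_cen.1 (ocen_le_cen r hy)).symm
  suffices hR' : ∀ p ∈ R, p * y = y * p by
    obtain ⟨a, ha, ρ, hρ, rfl⟩ := hR.prod t ht
    exact ((show Commute a y from mem_centralizer_iff.1 hyA a ha).mul_left (hR' ρ hρ)).eq
  obtain ⟨r', hr', hr'1, hne⟩ := hF.exists_two h hR hr
  have hrT := hR.le hr'
  suffices hyr' : Commute r' y by
    intro p hp
    rcases hF.R_cases h hR hr hr1 hr' hr'1 (Ne.symm hne) hp with rfl | rfl | rfl | rfl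
    · exact (Commute.one_left y).eq
    · exact hyr.eq
    · exact hyr'.eq
    · exact (hyr.mul_left hyr').eq
  set c := y * r' * y⁻¹ * r'⁻¹ with hc
  have hcA : ∀ a ∈ A, a * c = c * a := fun a ha =>
    (comm_commute (mem_centralizer_iff.1 hyA a ha) (hF.T_comm h (hF.A_T ha) hrT)).eq
  have hcr : r * c = c * r := (comm_commute hyr (hF.T_comm h (hR.le hr) hrT)).eq
  have hinv : r' * c * r'⁻¹ = c⁻¹ := comm_inverted (hF.T_sq r' hrT)
  have hc1 : c = 1 := by
    refine hF.piece h hbot hnc hR hr hr1 (hF.comm_ocen h (hR.le hr) hrT hy) (Or.inl hcA)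
      (Or.inr ⟨r', hr', hinv⟩) fun P hP hPR => ?_
    by_contra hno
    push Not at hno
    have key : ∀ p ∈ P, p ≠ 1 → p * r ∈ A := by
      intro p hp hp1
      obtain ⟨a, ha, ρ, hρ, rfl⟩ := hR.prod p (hP.le hp)
      have e1 : a * ρ * c * (a * ρ)⁻¹ = ρ * c * ρ⁻¹ := by
        rw [(show Commute a ρ from hF.T_comm h (hF.A_T ha) (hR.le hρ)).eq,
          show ρ * a * c * (ρ * a)⁻¹ = ρ * (a * c * a⁻¹) * ρ⁻¹ by group, hcA a ha, mul_inv_cancel_right]
      rcases hF.R_cases h hR hr hr1 hr' hr'1 (Ne.symm hne) hρ with rfl | rfl | rfl | rfl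
      · rw [mul_one] at hp hp1
        exact absurd (mem_bot.1 (hP.meet.le ⟨ha, hp⟩)) hp1
      · rw [mul_assoc, hF.T_sq _ (hR.le hρ), mul_one]
        exact ha
      · exact absurd (e1.trans hinv) (hno _ hp)
      · refine absurd (e1.trans ?_) (hno _ hp)
        rw [show r * r' * c * (r * r')⁻¹ = r * (r' * c * r'⁻¹) * r⁻¹ by group, hinv,
          (show Commute r c from hcr).inv_right.eq, mul_inv_cancel_right]
    obtain ⟨p, hp, hp1⟩ := P.bot_or_exists_ne_one.resolve_left fun e0 => by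
      have := hP.card
      rw [e0, card_bot] at this
      omega
    obtain ⟨p', hp', hp'1, hpp⟩ := hF.exists_two h hP hp
    have h1 := mul_mem (key p hp hp1) (key p' hp' hp'1)
    rw [hF.T_comm h (hP.le hp') (hR.le hr), mul_assoc p r, ← mul_assoc r r, hF.T_sq r (hR.le hr),
      one_mul] at h1
    refine hpp ?_
    rw [← inv_eq_of_mul_eq_one_right (mem_bot.1 (hP.meet.le ⟨h1, mul_mem hp hp'⟩)),
      hF.T_inv h (hP.le hp)]
  rw [hc, mul_inv_eq_one, mul_inv_eq_iff_eq_mul] at hc1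
  exact (show Commute y r' from hc1).symm

/-- An element of `O(C(r))` centralising `a ∈ A` centralises the complement through `r a`. -/
theorem centralizes_of_comm {R Q : Subgroup G} (hR : IsR A T R) (hQ : IsR A T Q) {r a y : G} (hr : r ∈ R)
    (hr1 : r ≠ 1) (ha : a ∈ A) (ha1 : a ≠ 1) (hra : r * a ∈ Q) (hy : y ∈ ocen r)
    (hya : y * a = a * y) {p : G} (hp : p ∈ Q) : p * y = y * p := by
  have hrT := hR.le hr
  have hrA := hF.not_mem_A h hR hr hr1
  have haT := hF.A_T ha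
  have hra1 : r * a ≠ 1 := fun e0 => hrA (by
    rw [eq_inv_of_mul_eq_one_left e0]; exact inv_mem ha)
  obtain ⟨σ, hσ, hσ1, hσne⟩ := hF.exists_two h hQ hra
  have hσT := hQ.le hσ
  obtain ⟨b, hb, hb1, hba⟩ := h.exists_ne a
  have hbT := hF.A_T hb
  have hσb : Commute σ b := hF.T_comm h hσT hbT
  have hσA : σ ∉ A := hF.not_mem_A h hQ hσ hσ1
  set V := ext (zpowers b) σ (hF.T_sq σ hσT) (mem_centralizer_iff.2 fun z hz => by
    obtain ⟨i, rfl⟩ := mem_zpowers_iff.1 hz
    exact ((hσb.symm).zpow_left i).eq) with hV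
  have hzb : ∀ z ∈ zpowers b, z = 1 ∨ z = b := fun z hz => by
    obtain ⟨i, rfl⟩ := mem_zpowers_iff.1 hz
    rcases Int.even_or_odd i with ⟨j, rfl⟩ | ⟨j, rfl⟩
    · exact Or.inl (by rw [← two_mul, zpow_mul, zpow_two, h.sq hb, one_zpow])
    · exact Or.inr (by rw [zpow_add, zpow_mul, zpow_two, h.sq hb, one_zpow, one_mul, zpow_one])
  have hVc : ∀ v ∈ V, v = 1 ∨ v = b ∨ v = σ ∨ v = b * σ := by
    rintro v (hv | hv)
    · rcases hzb v hv with e1 | e1
      exacts [Or.inl e1, Or.inr (Or.inl e1)]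
    · rcases hzb _ hv with e1 | e1
      · exact Or.inr (Or.inr (Or.inl (by rw [eq_inv_of_mul_eq_one_left e1, hF.T_inv h hσT])))
      · exact Or.inr (Or.inr (Or.inr (by rw [← e1, mul_assoc, hF.T_sq σ hσT, mul_one])))
  have hVT : V ≤ T := fun v hv => by
    rcases hVc v hv with rfl | rfl | rfl | rfl
    exacts [one_mem T, hbT, hσT, mul_mem hbT hσT]
  haveI : IsMulCommutative V := ⟨⟨fun x z => Subtype.ext (hF.T_comm h (hVT x.2) (hVT z.2))⟩⟩
  have hcyc : ¬ IsCyclic V := fun hcy => by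
    obtain ⟨⟨g, hgV⟩, hg⟩ := hcy.exists_generator
    have hin : ∀ v ∈ V, v = 1 ∨ v = g := fun v hv => by
      obtain ⟨i, hi⟩ := mem_zpowers_iff.1 (hg ⟨v, hv⟩)
      have e1 : g ^ i = v := by rw [← Subgroup.coe_zpow V ⟨g, hgV⟩, hi]
      rcases Int.even_or_odd i with ⟨j, rfl⟩ | ⟨j, rfl⟩
      · exact Or.inl (by rw [← e1, ← two_mul, zpow_mul, zpow_two, hF.T_sq g (hVT hgV), one_zpow])
      · exact Or.inr (by
          rw [← e1, zpow_add, zpow_mul, zpow_two, hF.T_sq g (hVT hgV), one_zpow, one_mul, zpow_one])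
    have h1 := (hin b (le_ext (mem_zpowers b))).resolve_left hb1
    have h2 := (hin σ mem_ext).resolve_left hσ1
    exact hσA (h2.trans h1.symm ▸ hb)
  set K := ocen r ⊓ cen a with hK
  have hKn : V ≤ normalizer (K : Set G) := fun v hv => mem_normalizer_of_conj fun x hx => by
    refine ⟨hF.T_normalizes_ocen h hrT (hVT hv) hx.1, mem_cen.2 ?_⟩
    have h1 : Commute v a := hF.T_comm h (hVT hv) haT
    exact ((h1.mul_left (show Commute x a from mem_cen.1 hx.2)).mul_left h1.inv_left).eq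
  have hcop : (Nat.card V).Coprime (Nat.card K) := by
    have hd : Nat.card V ∣ 2 ^ 4 := (card_dvd_of_le hVT).trans (by rw [hF.cardT]; norm_num)
    refine Nat.Coprime.coprime_dvd_left hd ?_
    exact ((Walter4.ocen_coprime r).coprime_dvd_left
      (card_dvd_of_le (inf_le_left : K ≤ ocen r))).symm.pow_left 4
  suffices hKQ : K ≤ centralizer (Q : Set G) from
    mem_centralizer_iff.1 (hKQ (show y ∈ K from ⟨hy, mem_cen.2 hya⟩)) p hp
  rw [← CoprimeAct.generated_by_centralizers hcyc hKn hcop]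
  refine iSup₂_le fun v hv x hx => ?_
  obtain ⟨⟨hxO, hxa⟩, hxv⟩ := hx
  have hxv' : Commute x v := mem_centralizer_singleton_iff.1 hxv
  have hxa' : Commute x a := mem_cen.1 hxa
  have hxr : Commute x r := mem_cen.1 (ocen_le_cen r hxO)
  have hQc : ∀ ρ ∈ Q, ρ = 1 ∨ ρ = r * a ∨ ρ = σ ∨ ρ = r * a * σ := fun ρ hρ =>
    hF.R_cases h hQ hra hra1 hσ hσ1 (Ne.symm hσne) hρ
  have fin : Commute x σ → x ∈ centralizer (Q : Set G) := fun hxσ => by
    refine mem_centralizer_iff.2 fun ρ hρ => ?_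
    rcases hQc ρ hρ with rfl | rfl | rfl | rfl
    · exact (Commute.one_left x).eq
    · exact (hxr.mul_right hxa').eq.symm
    · exact hxσ.eq.symm
    · exact ((hxr.mul_right hxa').mul_right hxσ).eq.symm
  rcases hVc v hv.1 with e1 | e1 | e1 | e1
  · exact absurd e1 hv.2
  · refine fin (show Commute σ x from hF.centralizes_of_comm_A h hbot hnc hR hr hr1 hxO ?_ hσT).symm
    refine mem_centralizer_iff.2 fun c hc => ?_
    rw [e1] at hxv'
    rcases h.cases_four ha hb ha1 hb1 (Ne.symm hba) hc with rfl | rfl | rfl | rfl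
    · exact (Commute.one_left x).eq
    · exact hxa'.eq.symm
    · exact hxv'.eq.symm
    · exact (hxa'.mul_right hxv').eq.symm
  · exact fin (e1 ▸ hxv')
  · rw [e1] at hxv'
    suffices hxb : Commute x b by
      refine fin ?_
      have := hxb.mul_right hxv'
      rwa [← mul_assoc, h.sq hb, one_mul] at this
    set c := x * b * x⁻¹ * b⁻¹ with hc
    have hca : Commute a c := comm_commute hxa'.symm (h.comm ha hb)
    have hcr : Commute r c := comm_commute hxr.symm (hF.T_comm h hrT hbT)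
    have hcv : Commute (b * σ) c := comm_commute hxv'.symm ((Commute.refl b).mul_left hσb)
    have hbc : b * c * b⁻¹ = c⁻¹ := comm_inverted (h.sq hb)
    have hσc : σ * c * σ⁻¹ = c⁻¹ := by
      have e2 : σ = b * (b * σ) := by rw [← mul_assoc, h.sq hb, one_mul]
      rw [e2, show b * (b * σ) * c * (b * (b * σ))⁻¹ = b * ((b * σ) * c * (b * σ)⁻¹) * b⁻¹ by group,
        hcv.eq, mul_inv_cancel_right, hbc]
    have hfa : ∀ {z : G}, Commute z c → z * c * z⁻¹ = c := fun hzc => by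
      rw [hzc.eq, mul_inv_cancel_right]
    have eA : ∀ a' ∈ A, a' * c * a'⁻¹ = c ∨ a' * c * a'⁻¹ = c⁻¹ := by
      intro a' ha'
      rcases h.cases_four ha hb ha1 hb1 (Ne.symm hba) ha' with rfl | rfl | rfl | rfl
      · exact Or.inl (by group)
      · exact Or.inl (hfa hca)
      · exact Or.inr hbc
      · exact eig_mul (Or.inl (hfa hca)) (Or.inr hbc)
    have eQ : ∀ ρ ∈ Q, ρ * c * ρ⁻¹ = c ∨ ρ * c * ρ⁻¹ = c⁻¹ := by
      intro ρ hρ
      rcases hQc ρ hρ with rfl | rfl | rfl | rfl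
      · exact Or.inl (by group)
      · exact Or.inl (hfa (hcr.mul_left hca))
      · exact Or.inr hσc
      · exact eig_mul (Or.inl (hfa (hcr.mul_left hca))) (Or.inr hσc)
    have eT : ∀ t ∈ T, t * c * t⁻¹ = c ∨ t * c * t⁻¹ = c⁻¹ := fun t ht => by
      obtain ⟨a', ha', ρ, hρ, rfl⟩ := hQ.prod t ht
      exact eig_mul (eA a' ha') (eQ ρ hρ)
    have hcO : c ∈ ocen r := hF.comm_ocen h hrT hbT hxO
    have hc1 : c = 1 := by
      by_contra hcne
      have hni : c ≠ c⁻¹ := fun e2 => hcne (eq_one_of_sq_odd (by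
        nth_rewrite 2 [e2]; exact mul_inv_cancel c) (odd_of_ocen hcO))
      refine hcne (hF.piece h hbot hnc hR hr hr1 hcO (Or.inr ⟨b, hb, hbc⟩) ?_ fun P hP hPR => ?_)
      · by_cases hall : ∀ z ∈ R, z * c = c * z
        · exact Or.inl hall
        push Not at hall
        obtain ⟨z, hz, hzc⟩ := hall
        exact Or.inr ⟨z, hz, (eT z (hR.le hz)).resolve_left fun e2 => hzc (mul_inv_eq_iff_eq_mul.1 e2)⟩
      by_cases hPQ : P = Q
      · exact ⟨σ, hPQ ▸ hσ, hσc⟩
      by_contra hno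
      push Not at hno
      have hfix : ∀ z ∈ P, Commute z c := fun z hz =>
        mul_inv_eq_iff_eq_mul.1 ((eT z (hP.le hz)).resolve_right (hno z hz))
      have key : ∀ z ∈ P, z ≠ 1 → ∀ a' ∈ A, ∀ ρ ∈ Q, z = a' * ρ → a' * c * a'⁻¹ = c⁻¹ := by
        intro z hz hz1 a' ha' ρ hρ ez
        refine (eA a' ha').resolve_left fun e2 => ?_
        have e3 : a' = 1 ∨ a' = a := by
          rcases h.cases_four ha hb ha1 hb1 (Ne.symm hba) ha' with e4 | e4 | e4 | e4
          · exact Or.inl e4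
          · exact Or.inr e4
          · exact absurd (e2.symm.trans (e4 ▸ hbc)) hni
          · refine absurd (e2.symm.trans ?_) hni
            rw [e4, show a * b * c * (a * b)⁻¹ = a * (b * c * b⁻¹) * a⁻¹ by group, hbc]
            exact (by rw [hca.inv_right.eq, mul_inv_cancel_right])
        have e5 : Commute ρ c := by
          have h1 := (show Commute a' c from mul_inv_eq_iff_eq_mul.1 e2).inv_left.mul_left (hfix z hz)
          rwa [ez, inv_mul_cancel_left] at h1
        have e6 : ρ = 1 ∨ ρ = r * a := by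
          rcases hQc ρ hρ with e4 | e4 | e4 | e4
          · exact Or.inl e4
          · exact Or.inr e4
          · exact absurd ((hfa e5).symm.trans (e4 ▸ hσc)) hni
          · refine absurd ((hfa e5).symm.trans ?_) hni
            rw [e4, show r * a * σ * c * (r * a * σ)⁻¹ = r * a * (σ * c * σ⁻¹) * (r * a)⁻¹ by group, hσc,
              (hcr.mul_left hca).inv_right.eq, mul_inv_cancel_right]
        rcases e6 with rfl | rfl
        · exact hz1 (mem_bot.1 (hP.meet.le ⟨by rw [ez, mul_one]; exact ha', hz⟩))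
        rcases e3 with rfl | rfl
        · rw [one_mul] at ez
          exact hPQ (hF.unique P Q hP hQ z hz (ez ▸ hra) hz1)
        · have e7 : z = r := by
            rw [ez, hF.T_comm h hrT haT, ← mul_assoc, h.sq ha, one_mul]
          exact hPR (hF.unique P R hP hR z hz (e7 ▸ hr) hz1)
      obtain ⟨z, hz, hz1⟩ := P.bot_or_exists_ne_one.resolve_left fun e0 => by
        have := hP.card
        rw [e0, card_bot] at this
        omega
      obtain ⟨w, hw, hw1, hwz⟩ := hF.exists_two h hP hz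
      obtain ⟨a1, ha1', ρ1, hρ1, ez⟩ := hQ.prod z (hP.le hz)
      obtain ⟨a2, ha2', ρ2, hρ2, ew⟩ := hQ.prod w (hP.le hw)
      have hzw1 : z * w ≠ 1 := fun e2 => hwz (by
        rw [← inv_eq_of_mul_eq_one_right e2, hF.T_inv h (hP.le hz)])
      have ezw : z * w = a1 * a2 * (ρ1 * ρ2) := by
        rw [ez, ew, mul_assoc a1 ρ1, ← mul_assoc ρ1 a2, hF.T_comm h (hQ.le hρ1) (hF.A_T ha2')]
        group
      have e8 := key _ (mul_mem hz hw) hzw1 (a1 * a2) (mul_mem ha1' ha2') (ρ1 * ρ2) (mul_mem hρ1 hρ2) ezw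
      have k1 := key z hz hz1 a1 ha1' ρ1 hρ1 ez
      have k2 := key w hw hw1 a2 ha2' ρ2 hρ2 ew
      rw [show a1 * a2 * c * (a1 * a2)⁻¹ = a1 * (a2 * c * a2⁻¹) * a1⁻¹ by group, k2,
        show a1 * c⁻¹ * a1⁻¹ = (a1 * c * a1⁻¹)⁻¹ by group, k1, inv_inv] at e8
      exact hni e8
    rw [hc, mul_inv_eq_one, mul_inv_eq_iff_eq_mul] at hc1
    exact hc1

end Final

end Cfsg.Agent.Gold1169.Two
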