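import Cfsg.Agent.Lib.Gold1169.Two.KOne

/-!
The configuration left by the analysis of a rank two `A`: `|S| = 64`, the elementary abelian subgroups
`T`, `Y` of order 16 meet in `A`, and the complements `R` of `A` in `T` cut out by the moved components
form a partition of `T \ A`. Interface between the local part and the last two steps (no components of
`C(A) ⧸ O(C(A))`, and the signalizer).
-/

set_option autoImplicit false
set_option linter.style.haveILetI false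
set_option linter.unusedSectionVars false

namespace Cfsg.Agent.Gold1169.Two

open Subgroup
open Cfsg.Agent.Walter4 (cen cenS ocen cor XB pre CA mem_pre cor_zpowers pre_le)

universe u

variable {G : Type u} [Group G]

/-- A complement of `A` in `T` centralising the moved components of each of its involutions. -/
structure IsR (A T R : Subgroup G) : Prop where
  le : R ≤ T
  meet : A ⊓ R = ⊥
  prod : ∀ t ∈ T, ∃ a ∈ A, ∃ r ∈ R, t = a * r
  card : Nat.card R = 4
  fix : ∀ r ∈ R, r ≠ 1 → ∀ L : Subgroup (XB (zpowers r)), Moved A (zpowers r) L → Fixes R L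

/-- The family attached to `A` and the complements. -/
def Ps (A T : Subgroup G) : Set (Subgroup G) := insert A {R | IsR A T R}

variable [Finite G]

/-- The configuration. -/
structure Final (S : Sylow 2 G) (A T Y : Subgroup G) : Prop where
  cardS : Nat.card (S : Subgroup G) = 64
  T_le : T ≤ (S : Subgroup G)
  Y_le : Y ≤ (S : Subgroup G)
  A_T : A ≤ T
  A_Y : A ≤ Y
  cardT : Nat.card T = 16
  cardY : Nat.card Y = 16
  T_sq : ∀ t ∈ T, t * t = 1
  Y_sq : ∀ y ∈ Y, y * y = 1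
  meet : T ⊓ Y = A
  prod : ∀ x ∈ (S : Subgroup G), ∃ t ∈ T, ∃ y ∈ Y, x = t * y
  pair : ∀ t ∈ T, t ∉ A → ∀ y ∈ Y, y ∉ A → t * y ≠ y * t
  /-- The involutions of `S` lie in `T` or in `Y`. -/
  invol : ∀ x ∈ (S : Subgroup G), x * x = 1 → x ∈ T ∨ x ∈ Y
  sq_A : ∀ x ∈ (S : Subgroup G), x * x ∈ A
  comm_A : ∀ x ∈ (S : Subgroup G), ∀ y ∈ (S : Subgroup G), x * y * x⁻¹ * y⁻¹ ∈ A
  S_T : (S : Subgroup G) ≤ normalizer (T : Set G)
  S_Y : (S : Subgroup G) ≤ normalizer (Y : Set G)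
  /-- `C_S(t) = T`. -/
  cen_T : ∀ t ∈ T, t ∉ A → ∀ x ∈ (S : Subgroup G), x * t = t * x → x ∈ T
  cen_Y : ∀ y ∈ Y, y ∉ A → ∀ x ∈ (S : Subgroup G), x * y = y * x → x ∈ Y
  surj_T : ∀ t ∈ T, t ∉ A → ∀ a ∈ A, ∃ g ∈ (S : Subgroup G), g * t * g⁻¹ * t⁻¹ = a
  special : ∀ t ∈ T, t ∉ A → Special A t
  cover : ∀ t ∈ T, t ∉ A → ∃ R, IsR A T R ∧ t ∈ R
  unique : ∀ R R', IsR A T R → IsR A T R' → ∀ r ∈ R, r ∈ R' → r ≠ 1 → R = R'
  R_conj : ∀ R, IsR A T R → ∀ g ∈ normalizer (T : Set G), g ∈ normalizer (A : Set G) →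
    IsR A T (R.map (MulAut.conj g).toMonoidHom)
  trans : ∀ R R', IsR A T R → IsR A T R' →
    ∃ g ∈ (S : Subgroup G), R.map (MulAut.conj g).toMonoidHom = R'
  mover : ∃ n ∈ normalizer (A : Set G), n ∉ centralizer (A : Set G) ∧ Odd (orderOf n) ∧
    n ∈ normalizer ((S : Subgroup G) : Set G) ∧ n ∈ normalizer (T : Set G) ∧
    n ∈ normalizer (Y : Set G) ∧ (∀ t ∈ T, n * t * n⁻¹ * t⁻¹ ∈ A) ∧
    ∃ R, IsR A T R ∧ ∀ r ∈ R, n * r = r * n

end Cfsg.Agent.Gold1169.Two
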