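import Cfsg.Agent.Lib.Gold1169.Two.KTwo
import Cfsg.Agent.Lib.Gold1169.Two.Final

/-!
A rank two `A` with an involution of `S` outside it leads to the final configuration.
-/

set_option autoImplicit false
set_option linter.style.haveILetI false
set_option linter.unusedSectionVars false

namespace Cfsg.Agent.Gold1169.Two

open Subgroup
open Cfsg.Agent.Walter4 (cen cenS ocen cor XB pre CA mem_pre cor_zpowers pre_le)
open Cfsg.Agent.OddDown.CoreSep (q im mem_im)
open scoped commutatorElement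

universe u

attribute [local instance] FittingCores.pPrimeCore_normal

variable {G : Type u} [Group G] [Finite G] {S : Sylow 2 G} {A : Subgroup G}

theorem conj_le_mem_normalizer {H : Subgroup G} {g : G} (hg : ∀ x ∈ H, g * x * g⁻¹ ∈ H) :
    g ∈ normalizer (H : Set G) := by
  rw [← LEBasic.map_conj_eq_iff_mem_normalizer]
  refine eq_of_le_of_card_ge ?_ (LEBasic.card_map_conj H g).ge
  rintro _ ⟨x, hx, rfl⟩
  exact hg x hx

/-- An element moving `A` with a pointwise fixed complement `R` in `T`. -/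
structure Mov (A T R : Subgroup G) (n : G) : Prop where
  norm : n ∈ normalizer (A : Set G)
  move : n ∉ centralizer (A : Set G)
  normT : n ∈ normalizer (T : Set G)
  le : R ≤ T
  prod : ∀ t ∈ T, ∃ a ∈ A, ∃ r ∈ R, t = a * r
  fix : ∀ r ∈ R, n * r = r * n

namespace Mov

variable {T R : Subgroup G} {n : G} (hM : Mov A T R n) (h : Ctx S A)
include hM h

theorem meet : A ⊓ R = ⊥ := le_bot_iff.1 fun a ha => mem_bot.2 <| by
  by_contra ha1
  exact hM.move (h.centralizes_of_comm hM.norm ha.1 ha1 (hM.fix a ha.2))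

theorem card_R (hAT : A ≤ T) (hT : Nat.card T = 16) : Nat.card R = 4 := by
  let f : ↥A × ↥R → ↥T := fun p => ⟨(p.1 : G) * p.2, mul_mem (hAT p.1.2) (hM.le p.2.2)⟩
  have hf : Function.Bijective f := by
    refine ⟨?_, fun t => ?_⟩
    · rintro ⟨a, r⟩ ⟨a', r'⟩ he
      have he' : (a : G) * r = a' * r' := congrArg Subtype.val he
      have h1 : (a' : G)⁻¹ * a = (r' : G) * (r : G)⁻¹ := by
        rw [eq_mul_inv_iff_mul_eq, mul_assoc, he', inv_mul_cancel_left]
      have h2 : (a' : G)⁻¹ * a ∈ A ⊓ R :=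
        ⟨A.mul_mem (A.inv_mem a'.2) a.2, h1 ▸ R.mul_mem r'.2 (R.inv_mem r.2)⟩
      rw [hM.meet h, mem_bot, inv_mul_eq_one] at h2
      obtain rfl : a' = a := Subtype.ext h2
      obtain rfl : r = r' := Subtype.ext (mul_left_cancel he')
      rfl
    · obtain ⟨a, ha, r, hr, e1⟩ := hM.prod t t.2
      exact ⟨(⟨a, ha⟩, ⟨r, hr⟩), Subtype.ext e1.symm⟩
  have h1 := Nat.card_congr (Equiv.ofBijective f hf)
  rw [Nat.card_prod, h.card, hT] at h1
  omega

theorem mem_R {t : G} (ht : t ∈ T) (hn : n * t = t * n) : t ∈ R := by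
  obtain ⟨a, ha, r, hr, rfl⟩ := hM.prod t ht
  suffices ha1 : a = 1 by rw [ha1, one_mul]; exact hr
  by_contra ha1
  refine hM.move (h.centralizes_of_comm hM.norm ha ha1 ?_)
  have := (show Commute n (a * r) from hn).mul_right (show Commute n r from hM.fix r hr).inv_right
  rwa [mul_inv_cancel_right] at this

theorem triv {t : G} (ht : t ∈ T) : n * t * n⁻¹ * t⁻¹ ∈ A := by
  obtain ⟨a, ha, r, hr, rfl⟩ := hM.prod t ht
  have e1 : n * (a * r) * n⁻¹ * (a * r)⁻¹ = n * a * n⁻¹ * (n * r * n⁻¹ * r⁻¹) * a⁻¹ := by group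
  rw [e1, hM.fix r hr, mul_inv_cancel_right, mul_inv_cancel, mul_one]
  exact mul_mem ((h.set.conj_mem_iff hM.norm).1 ha) (inv_mem ha)

end Mov

theorem Mov.inv {T R : Subgroup G} {n : G} (hM : Mov A T R n) : Mov A T R n⁻¹ :=
  ⟨inv_mem hM.norm, fun hc => hM.move (inv_mem_iff.1 hc), inv_mem hM.normT, hM.le, hM.prod,
    fun r hr => ((show Commute n r from hM.fix r hr).inv_left).eq⟩

namespace Deep

variable {e n : G} (hD : Deep S A e n) (h : Ctx S A)
include hD h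

/-- An element of `N(T) ∩ C(A)` trivial on `T ⧸ A` and fixing a point outside `A` centralises `T`. -/
theorem centralizes_T {m : G} (hmA : m ∈ centralizer (A : Set G))
    (hmT : m ∈ normalizer (CS S e : Set G)) (htriv : ∀ t ∈ CS S e, m * t * m⁻¹ * t⁻¹ ∈ A) {r : G}
    (hr : r ∈ CS S e) (hrA : r ∉ A) (hmr : m * r = r * m) {t : G} (ht : t ∈ CS S e) :
    m * t = t * m := by
  have h2 : Commute (m * m) t := by
    have h3 : m * t * m⁻¹ * t⁻¹ ∈ A := htriv t ht
    set c := m * t * m⁻¹ * t⁻¹ with hc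
    have e1 : m * m * t * (m * m)⁻¹ = m * c * m⁻¹ * (m * t * m⁻¹) := by rw [hc]; group
    rw [← mem_centralizer_iff.1 hmA c h3, mul_inv_cancel_right,
      show m * t * m⁻¹ = c * t by rw [hc]; group, ← mul_assoc, h.sq h3, one_mul,
      mul_inv_eq_iff_eq_mul] at e1
    exact e1
  obtain ⟨k, q, hq, hord⟩ := Nat.exists_eq_two_pow_mul_odd (orderOf_pos m).ne'
  have hq2 : (m ^ q) ^ 2 ^ k = 1 := by rw [← pow_mul, mul_comm, ← hord, pow_orderOf_eq_one]
  have hmq : m ^ q ∈ CS S e := hD.top.mem_of_comm h hD.lt hq2 (pow_mem hmT q) hr hrA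
    ((show Commute m r from hmr).pow_left q).eq
  have h1 : Commute (m ^ q) t := hD.T_comm h hmq ht
  obtain ⟨j, rfl⟩ := hq
  have e2 : m = ((m * m) ^ j)⁻¹ * m ^ (2 * j + 1) := by
    rw [← pow_two, ← pow_mul, pow_succ, inv_mul_cancel_left]
  rw [e2]
  exact ((h2.pow_left j).inv_left.mul_left h1).eq

/-- Complements fixed by moving elements which meet coincide. -/
theorem mov_eq {R R' : Subgroup G} {m m' : G} (hM : Mov A (CS S e) R m)
    (hM' : Mov A (CS S e) R' m') {r : G} (hr : r ∈ R) (hr' : r ∈ R') (hrA : r ∉ A) : R = R' := by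
  obtain ⟨a, ha, ha1⟩ := A.bot_or_exists_ne_one.resolve_left h.ne_bot
  obtain ⟨k, hMk, hk⟩ : ∃ k, Mov A (CS S e) R' k ∧ k * a * k⁻¹ = m * a * m⁻¹ := by
    by_cases he : m' * a * m'⁻¹ = m * a * m⁻¹
    · exact ⟨m', hM', he⟩
    refine ⟨m'⁻¹, hM'.inv, ?_⟩
    set b := m * a * m⁻¹ with hb
    set b' := m' * a * m'⁻¹ with hb'
    have hbA : b ∈ A := (h.set.conj_mem_iff hM.norm).1 ha
    have hb'A : b' ∈ A := (h.set.conj_mem_iff hM'.norm).1 ha
    obtain ⟨hne', e1⟩ := h.moving_cycle hM'.norm hM'.move ha ha1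
    have hb1 : b ≠ 1 := fun h1 => ha1 (conj_eq_one_iff.1 h1)
    have hb1' : b' ≠ 1 := fun h1 => ha1 (conj_eq_one_iff.1 h1)
    have hbe : b = a * b' := by
      rcases h.cases_four ha hb'A ha1 hb1' (Ne.symm hne') hbA with e2 | e2 | e2 | e2
      · exact absurd e2 hb1
      · exact absurd e2 (h.moving_cycle hM.norm hM.move ha ha1).1
      · exact absurd e2.symm he
      · exact e2
    have e3 : m' * (a * b') * m'⁻¹ = a := by
      calc m' * (a * b') * m'⁻¹ = b' * (m' * b' * m'⁻¹) := by rw [hb']; group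
        _ = b' * (a * b') := by rw [e1]
        _ = a := by rw [h.comm ha hb'A, ← mul_assoc, h.sq hb'A, one_mul]
    calc m'⁻¹ * a * m'⁻¹⁻¹ = m'⁻¹ * (m' * (a * b') * m'⁻¹) * m'⁻¹⁻¹ := by rw [e3]
      _ = a * b' := by group
      _ = b := hbe.symm
  -- `m` and `k` agree on `A`
  have hagree : ∀ c ∈ A, m * c * m⁻¹ = k * c * k⁻¹ := by
    have hbA : m * a * m⁻¹ ∈ A := (h.set.conj_mem_iff hM.norm).1 ha
    obtain ⟨hne, e1⟩ := h.moving_cycle hM.norm hM.move ha ha1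
    obtain ⟨-, e1'⟩ := h.moving_cycle hMk.norm hMk.move ha ha1
    rw [hk] at e1'
    intro c hc
    rcases h.cases_four ha hbA ha1 (fun h1 => ha1 (conj_eq_one_iff.1 h1)) (Ne.symm hne) hc with
      rfl | rfl | rfl | rfl
    · simp
    · exact hk.symm
    · rw [e1, e1']
    · rw [show m * (a * (m * a * m⁻¹)) * m⁻¹ = m * a * m⁻¹ * (m * (m * a * m⁻¹) * m⁻¹) by group,
        show k * (a * (m * a * m⁻¹)) * k⁻¹ = k * a * k⁻¹ * (k * (m * a * m⁻¹) * k⁻¹) by group,
        e1, e1', hk]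
  set x := k⁻¹ * m with hx
  have hxA : x ∈ centralizer (A : Set G) := mem_centralizer_iff.2 fun c hc => by
    have h1 : x * c * x⁻¹ = c := by
      calc x * c * x⁻¹ = k⁻¹ * (m * c * m⁻¹) * k := by rw [hx]; group
        _ = c := by rw [hagree c hc]; group
    exact (mul_inv_eq_iff_eq_mul.1 h1).symm
  have hxtriv : ∀ t ∈ CS S e, x * t * x⁻¹ * t⁻¹ ∈ A := by
    intro t ht
    have h1 : m * t * m⁻¹ ∈ CS S e := (mem_normalizer_iff.1 hM.normT t).1 ht
    have h2 := hMk.inv.triv h h1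
    have e1 : x * t * x⁻¹ * t⁻¹ = (k⁻¹ * (m * t * m⁻¹) * k⁻¹⁻¹ * (m * t * m⁻¹)⁻¹) *
        (m * t * m⁻¹ * t⁻¹) := by rw [hx]; group
    rw [e1]
    exact mul_mem h2 (hM.triv h ht)
  have hxr : x * r = r * x := ((show Commute k r from hMk.fix r hr').inv_left.mul_left
    (show Commute m r from hM.fix r hr)).eq
  have hxT := fun t (ht : t ∈ CS S e) =>
    hD.centralizes_T h hxA (mul_mem (inv_mem hMk.normT) hM.normT) hxtriv (hM.le hr) hrA hxr ht
  refine le_antisymm (fun t ht => hMk.mem_R h (hM.le ht) ?_) fun t ht => hM.mem_R h (hMk.le ht) ?_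
  · have h1 : Commute (m * x⁻¹) t :=
      (show Commute m t from hM.fix t ht).mul_left (show Commute x t from hxT t (hM.le ht)).inv_left
    rwa [hx, show m * (k⁻¹ * m)⁻¹ = k by group] at h1
  · have h1 : Commute (k * x) t :=
      (show Commute k t from hMk.fix t ht).mul_left (hxT t (hMk.le ht))
    rwa [hx, mul_inv_cancel_left] at h1

variable (h16 : Nat.card (CS S e) = 16)
include h16

theorem CS_eq_T {t : G} (ht : t ∈ CS S e) (htA : t ∉ A) : CS S t = CS S e :=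
  hD.top.cS_eq h hD.lt ht htA

theorem cardS : Nat.card (S : Subgroup G) = 64 := by
  have hN := hD.NS_eq_S h h16
  have h1 := hD.top.card_gamma_two h (R := NS S e) (NS_two e) (hD.top.NS_le_gamma h hD.lt) (CS_le_NS e)
  have h2 := hD.card_NS h h16
  rw [h16] at h1
  rw [hN] at h1 h2
  omega

theorem surj_T {t : G} (ht : t ∈ CS S e) (htA : t ∉ A) {a : G} (ha : a ∈ A) :
    ∃ g ∈ (S : Subgroup G), g * t * g⁻¹ * t⁻¹ = a := by
  obtain ⟨Y, hY⟩ := hD.exists_Y h
  let θ : ↥Y →* ↥A :=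
    { toFun := fun y => ⟨y * t * (y : G)⁻¹ * t⁻¹, hD.top.NS_triv h hD.lt (hD.Y_le h hY y.2) ht⟩
      map_one' := Subtype.ext (by simp)
      map_mul' := fun x y => Subtype.ext (by
        have hy := hD.top.NS_triv h hD.lt (hD.Y_le h hY y.2) ht
        have hx := hD.top.NS_triv h hD.lt (hD.Y_le h hY x.2) ht
        push_cast
        calc (x : G) * y * t * ((x : G) * y)⁻¹ * t⁻¹
            = (x : G) * ((y : G) * t * (y : G)⁻¹ * t⁻¹) * (x : G)⁻¹ * ((x : G) * t * (x : G)⁻¹ * t⁻¹) := by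
              group
          _ = ((y : G) * t * (y : G)⁻¹ * t⁻¹) * ((x : G) * t * (x : G)⁻¹ * t⁻¹) := by
              rw [← (hD.A_central h hy (hD.Y_le h hY x.2)).eq, mul_inv_cancel_right]
          _ = _ := h.comm hy hx) }
  have h1 := θ.ker.card_mul_index
  rw [Subgroup.index_ker, hD.card_Y h hY] at h1
  have hker : θ.ker ≤ A.subgroupOf Y := fun y hy => by
    by_contra hyA
    refine hD.pair h hY y.2 hyA ht htA ?_
    have h2 : (y : G) * t * (y : G)⁻¹ * t⁻¹ = 1 := congrArg Subtype.val (MonoidHom.mem_ker.1 hy)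
    rwa [mul_inv_eq_one, mul_inv_eq_iff_eq_mul] at h2
  have h2 : Nat.card θ.ker ≤ 4 := (Subgroup.card_le_of_le hker).trans (by
    rw [Nat.card_congr (subgroupOfEquivOfLe (hD.A_le_Y h hY)).toEquiv, h.card])
  have h3 : Nat.card θ.range ≤ 4 :=
    (Nat.le_of_dvd Nat.card_pos (card_subgroup_dvd_card _)).trans h.card.le
  have h4 : θ.range = ⊤ := Subgroup.eq_top_of_card_eq _ (by rw [h.card]; nlinarith)
  obtain ⟨y, hy⟩ : (⟨a, ha⟩ : ↥A) ∈ θ.range := h4 ▸ mem_top _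
  exact ⟨y, (hD.Y_le h hY y.2).1, congrArg Subtype.val hy⟩

theorem special_T {t : G} (ht : t ∈ CS S e) (htA : t ∉ A) : Special A t := by
  obtain ⟨f, hf, hft⟩ := h.exists_special (hD.T_sq h ht) (h.S_le ht.1) htA
  set a := f * t with ha
  have hfT : f ∈ CS S e := by
    have := mul_mem (hD.A_le h hft) ht
    rwa [ha, mul_assoc, hD.T_sq h ht, mul_one] at this
  have hfA : f ∉ A := hf.2.2.1
  obtain ⟨g, hg, hga⟩ := hD.surj_T h h16 hfT hfA hft
  have e1 : g * f * g⁻¹ = t := by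
    rw [mul_inv_eq_iff_eq_mul] at hga
    rw [hga, hD.T_comm h (hD.A_le h hft) hfT, ha, ← mul_assoc, hD.T_sq h hfT, one_mul]
  exact e1 ▸ h.special_conj (h.set.S_le_normalizer hg) hf

theorem top_T {t : G} (ht : t ∈ CS S e) (htA : t ∉ A) : Top S A t :=
  ⟨hD.special_T h h16 ht htA, ht.1, fun f h1 h2 h3 R hR hRf => by
    rw [hD.CS_eq_T h h16 ht htA]; exact hD.top.max f h1 h2 h3 R hR hRf⟩

/-- The complement of a point. -/
theorem exists_mov {t : G} (ht : t ∈ CS S e) (htA : t ∉ A) : ∃ L m, Moved A (zpowers t) L ∧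
    t ∈ RS S t L ∧ Mov A (CS S e) (RS S t L) m := by
  obtain ⟨L, m, hF⟩ := (hD.top_T h h16 ht htA).exists_frame h
  have e1 := hD.CS_eq_T h h16 ht htA
  refine ⟨L, m, hF.moved, hF.mem_R, hF.n_norm, hF.n_move, ?_, ?_, ?_, hF.n_R⟩
  · rw [← e1]; exact hF.n_T
  · rw [← e1]; exact inf_le_left
  · rw [← e1]; exact hF.prod

/-- A complement fixed by a moving element fixes the components of its points. -/
theorem isR_of_mov {R : Subgroup G} {m : G} (hM : Mov A (CS S e) R m) : IsR A (CS S e) R := by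
  refine ⟨hM.le, hM.meet h, hM.prod, hM.card_R h (hD.A_le h) h16, fun r hr hr1 L hL => ?_⟩
  have hrA : r ∉ A := fun hA => hr1 (mem_bot.1 ((hM.meet h).le ⟨hA, hr⟩))
  obtain ⟨L', m', hL', hrR, hM'⟩ := hD.exists_mov h h16 (hM.le hr) hrA
  have he := hD.mov_eq h hM hM' hr hrR hrA
  have hB : Loc A (zpowers r) :=
    h.loc_invol (hD.T_sq h (hM.le hr)) (h.S_le (hM.le hr).1) hrA
  obtain rfl := h.moved_unique hB hL hL'
  refine le_centralizer_iff.1 ?_
  rintro _ ⟨⟨x, hxC⟩, hx, rfl⟩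
  obtain ⟨_, h1⟩ := mem_pre.1 ((he ▸ hx : x ∈ RS S r _)).2
  exact h1

/-- The complement through a point is the one of its component. -/
theorem isR_eq {R : Subgroup G} (hR : IsR A (CS S e) R) {r : G} (hr : r ∈ R) (hr1 : r ≠ 1) :
    ∃ m, Mov A (CS S e) R m := by
  have hrA : r ∉ A := fun hA => hr1 (mem_bot.1 (hR.meet.le ⟨hA, hr⟩))
  obtain ⟨L, m, hL, hrR, hM⟩ := hD.exists_mov h h16 (hR.le hr) hrA
  refine ⟨m, ?_⟩
  have hle : R ≤ RS S r L := fun x hx => by
    have hxT : x ∈ CS S r := by rw [hD.CS_eq_T h h16 (hR.le hr) hrA]; exact hR.le hx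
    have hxC : x ∈ cenS (zpowers r) := mem_cenS_zpowers.2 (mem_cen.1 hxT.2)
    exact ⟨hxT, mem_pre.2 ⟨hxC, le_centralizer_iff.1 (hR.fix r hr hr1 L hL) (mem_im hx hxC)⟩⟩
  rw [eq_of_le_of_card_ge hle (by rw [hR.card, hM.card_R h (hD.A_le h) h16])]
  exact hM

theorem isR_mov {R : Subgroup G} (hR : IsR A (CS S e) R) :
    ∃ r ∈ R, r ≠ 1 ∧ r ∉ A ∧ ∃ m, Mov A (CS S e) R m := by
  have hR0 : R ≠ ⊥ := fun e0 => by
    have := hR.card
    rw [e0, card_bot] at this
    omega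
  obtain ⟨r, hr, hr1⟩ := R.bot_or_exists_ne_one.resolve_left hR0
  exact ⟨r, hr, hr1, fun hA => hr1 (mem_bot.1 (hR.meet.le ⟨hA, hr⟩)), hD.isR_eq h h16 hR hr hr1⟩

theorem isR_unique {R R' : Subgroup G} (hR : IsR A (CS S e) R) (hR' : IsR A (CS S e) R') {r : G}
    (hr : r ∈ R) (hr' : r ∈ R') (hr1 : r ≠ 1) : R = R' := by
  obtain ⟨m, hM⟩ := hD.isR_eq h h16 hR hr hr1
  obtain ⟨m', hM'⟩ := hD.isR_eq h h16 hR' hr' hr1
  exact hD.mov_eq h hM hM' hr hr' fun hA => hr1 (mem_bot.1 (hR.meet.le ⟨hA, hr⟩))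

theorem isR_conj {R : Subgroup G} (hR : IsR A (CS S e) R) {g : G}
    (hgT : g ∈ normalizer (CS S e : Set G)) (hgA : g ∈ normalizer (A : Set G)) :
    IsR A (CS S e) (R.map (MulAut.conj g).toMonoidHom) := by
  obtain ⟨r, hr, -, -, m, hM⟩ := hD.isR_mov h h16 hR
  refine hD.isR_of_mov h h16 (m := g * m * g⁻¹)
    ⟨mul_mem (mul_mem hgA hM.norm) (inv_mem hgA), fun hc => hM.move ?_,
      mul_mem (mul_mem hgT hM.normT) (inv_mem hgT), ?_, fun t ht => ?_, ?_⟩
  · refine mem_centralizer_iff.2 fun a ha => ?_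
    have := mem_centralizer_iff.1 hc _ ((h.set.conj_mem_iff hgA).1 ha)
    calc a * m = g⁻¹ * ((g * a * g⁻¹) * (g * m * g⁻¹)) * g := by group
      _ = g⁻¹ * ((g * m * g⁻¹) * (g * a * g⁻¹)) * g := by rw [this]
      _ = m * a := by group
  · rintro _ ⟨x, hx, rfl⟩
    exact (mem_normalizer_iff.1 hgT x).1 (hM.le hx)
  · obtain ⟨a, ha, x, hx, e1⟩ := hM.prod (g⁻¹ * t * g) ((mem_normalizer_iff.1 hgT _).2 (by
      rwa [show g * (g⁻¹ * t * g) * g⁻¹ = t by group]))
    refine ⟨g * a * g⁻¹, (h.set.conj_mem_iff hgA).1 ha, _, ⟨x, hx, rfl⟩, ?_⟩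
    show t = g * a * g⁻¹ * (g * x * g⁻¹)
    rw [show t = g * (g⁻¹ * t * g) * g⁻¹ by group, e1]
    group
  · rintro _ ⟨x, hx, rfl⟩
    show g * m * g⁻¹ * (g * x * g⁻¹) = g * x * g⁻¹ * (g * m * g⁻¹)
    rw [show g * m * g⁻¹ * (g * x * g⁻¹) = g * (m * x) * g⁻¹ by group, hM.fix x hx]
    group

theorem exists_final : ∃ Y, Final S A (CS S e) Y := by
  obtain ⟨Y, hY⟩ := hD.exists_Y h
  have hN := hD.NS_eq_S h h16
  have hSN : ∀ {x : G}, x ∈ (S : Subgroup G) → x ∈ NS S e := fun hx => hN.ge hx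
  have hST : (S : Subgroup G) ≤ normalizer (CS S e : Set G) := fun x hx => (hSN hx).2
  refine ⟨Y, {
    cardS := hD.cardS h h16
    T_le := inf_le_left
    Y_le := (hD.Y_le h hY).trans hN.le
    A_T := hD.A_le h
    A_Y := hD.A_le_Y h hY
    cardT := h16
    cardY := hD.card_Y h hY
    T_sq := fun t ht => hD.T_sq h ht
    Y_sq := fun y hy => hD.Y_elem h h16 hY hy
    meet := le_antisymm (fun x hx => hD.Y_T h hY hx.2 hx.1)
      (_root_.le_inf (hD.A_le h) (hD.A_le_Y h hY))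
    prod := fun x hx => ?_
    pair := fun t ht htA y hy hyA e1 => hD.pair h hY hy hyA ht htA e1.symm
    invol := fun x hx hxx => hD.invol_mem h h16 hY (hSN hx) hxx
    sq_A := fun x hx => hD.NS_sq h (hSN hx)
    comm_A := fun x hx y hy => hD.NS_comm h (hSN hx) (hSN hy)
    S_T := hST
    S_Y := fun g hg => conj_le_mem_normalizer fun y hy => hD.NS_normalizes h hY (hSN hg) hy
    cen_T := fun t ht htA x hx e1 => hD.top.NS_mem_of_comm h hD.lt (hSN hx) ht htA e1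
    cen_Y := fun y hy hyA x hx e1 => (hD.CS_eq_Y h h16 hY hy hyA).le ⟨hx, mem_cen.2 e1⟩
    surj_T := fun t ht htA a ha => hD.surj_T h h16 ht htA ha
    special := fun t ht htA => hD.special_T h h16 ht htA
    cover := fun t ht htA => ?_
    unique := fun R R' hR hR' r hr hr' hr1 => hD.isR_unique h h16 hR hR' hr hr' hr1
    R_conj := fun R hR g hgT hgA => hD.isR_conj h h16 hR hgT hgA
    trans := fun R R' hR hR' => ?_
    mover := ?_ }⟩
  · obtain ⟨y, hy, t, ht, rfl⟩ := hD.decomp h hY (hSN hx)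
    refine ⟨t, ht, t⁻¹ * y * t⁻¹⁻¹, hD.NS_normalizes h hY (inv_mem (CS_le_NS e ht)) hy, by group⟩
  · obtain ⟨L, m, -, htR, hM⟩ := hD.exists_mov h h16 ht htA
    exact ⟨_, hD.isR_of_mov h h16 hM, htR⟩
  · obtain ⟨r, hr, hr1, hrA, -⟩ := hD.isR_mov h h16 hR
    obtain ⟨a, ha, r', hr', e1⟩ := hR'.prod r (hR.le hr)
    obtain ⟨g, hg, hga⟩ := hD.surj_T h h16 (hR.le hr) hrA ha
    refine ⟨g, hg, hD.isR_unique h h16 (hD.isR_conj h h16 hR (hST hg) (h.set.S_le_normalizer hg)) hR'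
      (r := r') ⟨r, hr, ?_⟩ hr' fun h1 => hrA (by rw [e1, h1, mul_one]; exact ha)⟩
    show g * r * g⁻¹ = r'
    rw [mul_inv_eq_iff_eq_mul] at hga
    rw [hga, e1, ← mul_assoc, h.sq ha, one_mul]
  · let R0 : Subgroup G := CS S e ⊓ centralizer {n}
    have hM : Mov A (CS S e) R0 n := by
      refine ⟨hD.n_norm, hD.n_move, hD.n_T, inf_le_left, fun t ht => ?_,
        fun r hr => (mem_centralizer_singleton_iff.1 hr.2).symm⟩
      obtain ⟨a, ha, r, hr, hnr, e1⟩ := hD.T_fixed h ht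
      exact ⟨a, ha, r, ⟨hr, mem_centralizer_singleton_iff.2 hnr.symm⟩, e1⟩
    refine ⟨n, hD.n_norm, hD.n_move, hD.n_odd, ?_, hD.n_T,
      conj_le_mem_normalizer fun y hy => hD.n_Y h hY hy, hD.n_triv, R0, hD.isR_of_mov h h16 hM, hM.fix⟩
    rw [← hN]
    exact hD.n_NS

end Deep

/-- The final configuration exists. -/
theorem Ctx.exists_final (h : Ctx S A) (hx : ∃ x ∈ (S : Subgroup G), x * x = 1 ∧ x ∉ A) :
    ∃ T Y, Final S A T Y := by
  haveI : Fact (Nat.Prime 2) := ⟨Nat.prime_two⟩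
  obtain ⟨e, he⟩ := h.exists_top hx
  by_cases hTS : CS S e = (S : Subgroup G)
  · obtain ⟨L, m, hF⟩ := he.exists_frame h
    exact (hF.false_of_split h hTS).elim
  obtain ⟨e', n, hD⟩ := he.exists_deep_conj h hTS
  obtain ⟨k, hk⟩ := (cS_two (S := S) e').exists_card_eq
  have hle := hD.top.card_T_le h hD.lt
  have hge : 5 ≤ Nat.card (CS S e') := by
    by_contra hlt
    have h1 := h.ext_le_CS (hf2 := hD.top.spec.1) (hfC := hD.top.spec.2.1) hD.top.memS
    have h2 := (Subgroup.card_le_of_le h1).trans' (h.ext_card hD.top.spec.2.2.1)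
    omega
  rw [hk] at hle hge
  have hk3 : 3 ≤ k := by
    by_contra hk3
    have := Nat.pow_le_pow_right (show 1 ≤ 2 by norm_num) (show k ≤ 2 by omega)
    omega
  have hk4 : k ≤ 4 := (Nat.pow_le_pow_iff_right (show 1 < 2 by norm_num)).1 (by norm_num; exact hle)
  interval_cases k
  · exact (hD.false_of_eight h (by rw [hk]; norm_num)).elim
  · exact ⟨_, hD.exists_final h (by rw [hk]; norm_num)⟩

end Cfsg.Agent.Gold1169.Two
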