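import Cfsg.Agent.Lib.Gold1169.Two.Coset
import Cfsg.Agent.Lib.Gold1169.Two.Final

/-!
The family `A`, `R` of the final configuration.
-/

set_option autoImplicit false
set_option linter.style.haveILetI false
set_option linter.unusedSectionVars false

namespace Cfsg.Agent.Gold1169.Two

open Subgroup
open Cfsg.Agent.Walter4 (cen cenS ocen cor XB pre CA mem_pre cor_zpowers pre_le)

universe u

variable {G : Type u} [Group G] [Finite G] {S : Sylow 2 G} {A T Y : Subgroup G}

namespace Final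

variable (hF : Final S A T Y) (h : Ctx S A)
include hF h

theorem T_comm {x y : G} (hx : x ∈ T) (hy : y ∈ T) : x * y = y * x := by
  have h1 := inv_eq_of_mul_eq_one_right (hF.T_sq _ (mul_mem hx hy))
  rw [mul_inv_rev, inv_eq_of_mul_eq_one_right (hF.T_sq x hx),
    inv_eq_of_mul_eq_one_right (hF.T_sq y hy)] at h1
  exact h1.symm

theorem T_ea : Cfsg.IsElementaryAbelian 2 T :=
  ⟨⟨⟨fun x y => Subtype.ext (hF.T_comm h x.2 y.2)⟩⟩, fun x hx => by rw [pow_two]; exact hF.T_sq x hx⟩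

theorem not_mem_A {R : Subgroup G} (hR : IsR A T R) {r : G} (hr : r ∈ R) (hr1 : r ≠ 1) : r ∉ A :=
  fun hA => hr1 (mem_bot.1 (hR.meet.le ⟨hA, hr⟩))

theorem fam : Fam T (Ps A T) := by
  refine ⟨hF.T_ea h, by rw [hF.cardT]; norm_num, ?_, ?_, ?_, ?_⟩
  · rintro P (rfl | hP)
    exacts [hF.A_T, hP.le]
  · rintro P (rfl | hP)
    exacts [h.card.ge, hP.card.ge]
  · rintro P (rfl | hP) e he he1 L hL
    · exact Or.inl (h.fixes_A he he1 hL le_rfl)
    by_cases hm : Moved A (zpowers e) L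
    · exact Or.inl (hP.fix e he he1 L hm)
    refine Or.inr ⟨A, hF.A_T, fun x hx => ?_, by_contra fun hn => hm ⟨hL, hn⟩⟩
    obtain ⟨a, ha, r, hr, rfl⟩ := hP.prod x hx
    exact ⟨r, hr, a, ha, hF.T_comm h (hF.A_T ha) (hP.le hr)⟩
  · intro x hx hx1 L hL
    left
    by_cases hm : Moved A (zpowers x) L
    · by_cases hxA : x ∈ A
      · exact absurd hm (h.not_moved (zpowers_le.2 hxA) (fun e => hx1 (zpowers_eq_bot.1 e)) L)
      obtain ⟨R, hR, hxR⟩ := hF.cover x hx hxA
      exact ⟨R, Or.inr hR, hR.fix x hxR hx1 L hm⟩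
    · exact ⟨A, Or.inl rfl, by_contra fun hn => hm ⟨hL, hn⟩⟩

/-- The final configuration is absurd if trivial functors are. -/
theorem false_of (hend : (∀ x ∈ T, x ≠ 1 → theta (Ps A T) x = ⊥) → False) : False :=
  h.false_of_fam (hF.fam h) hF.A_T hend

end Final

end Cfsg.Agent.Gold1169.Two
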