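import Cfsg.Agent.Lib.Gold1169.Two.Coset

/-!
A special involution `e` with largest `T = C_S(e)`: `T = A × R` with `R` the part centralising the moved
component, and an element `n` of the component permuting `A#` and centralising `R`.
-/

set_option autoImplicit false
set_option linter.style.haveILetI false
set_option linter.unusedSectionVars false

namespace Cfsg.Agent.Gold1169.Two

open Subgroup
open Cfsg.Agent.Walter4 (cen cenS ocen cor XB pre CA mem_pre cor_zpowers pre_le)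
open Cfsg.Agent.OddDown.CoreSep (q im mem_im)
open scoped commutatorElement

universe u

attribute [local instance] FittingCores.pPrimeCore_normal

variable {G : Type u} [Group G] [Finite G]

/-- `C_S(e)`. -/
def CS (S : Sylow 2 G) (e : G) : Subgroup G := (S : Subgroup G) ⊓ cen e

/-- A special involution with centraliser in `S` as large as possible. -/
structure Top (S : Sylow 2 G) (A : Subgroup G) (e : G) : Prop where
  spec : Special A e
  memS : e ∈ (S : Subgroup G)
  max : ∀ f : G, f * f = 1 → f ∈ centralizer (A : Set G) → f ∉ A → ∀ R : Subgroup G, IsPGroup 2 R →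
    R ≤ cen f → Nat.card R ≤ Nat.card (CS S e)

/-- The part of `C_S(e)` centralising the component. -/
def RS (S : Sylow 2 G) (e : G) (L : Subgroup (XB (zpowers e))) : Subgroup G :=
  CS S e ⊓ pre (zpowers e) (centralizer (L : Set (XB (zpowers e))))

/-- The frame of a top involution. -/
structure Frame (S : Sylow 2 G) (A : Subgroup G) (e : G) (L : Subgroup (XB (zpowers e))) (n : G) : Prop
    where
  top : Top S A e
  moved : Moved A (zpowers e) L
  prod : ∀ t ∈ CS S e, ∃ a ∈ A, ∃ r ∈ RS S e L, t = a * r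
  meet : A ⊓ RS S e L = ⊥
  mem_R : e ∈ RS S e L
  n_pre : n ∈ pre (zpowers e) L
  n_norm : n ∈ normalizer (A : Set G)
  n_move : n ∉ centralizer (A : Set G)
  n_odd : Odd (orderOf n)
  n_T : n ∈ normalizer (CS S e : Set G)
  n_R : ∀ r ∈ RS S e L, n * r = r * n

variable {S : Sylow 2 G} {A : Subgroup G}

theorem Special.ne_one {e : G} (he : Special A e) : e ≠ 1 := fun e1 => he.2.2.1 (e1 ▸ one_mem A)

theorem cS_two (e : G) : IsPGroup 2 ↥(CS S e) := S.isPGroup'.to_le inf_le_left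

namespace Ctx

variable (h : Ctx S A)
include h

theorem le_CS {e : G} (he : e ∈ centralizer (A : Set G)) : A ≤ CS S e := fun a ha =>
  ⟨h.set.le ha, mem_cen.2 (mem_centralizer_iff.1 he a ha)⟩

theorem CS_le_cenA (e : G) : CS S e ≤ centralizer (A : Set G) := inf_le_left.trans h.S_le

theorem exists_top (hx : ∃ x ∈ (S : Subgroup G), x * x = 1 ∧ x ∉ A) : ∃ e, Top S A e := by
  haveI : Fact (Nat.Prime 2) := ⟨Nat.prime_two⟩
  obtain ⟨x, hxS, hx2, hxA⟩ := hx
  obtain ⟨e₀, he₀, hex⟩ := h.exists_special hx2 (h.S_le hxS) hxA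
  have he₀S : e₀ ∈ (S : Subgroup G) := by
    have := mul_mem (h.set.le hex) hxS
    rwa [mul_assoc, hx2, mul_one] at this
  obtain ⟨e, ⟨hes, heS⟩, hmax⟩ := Set.exists_max_image {e : G | Special A e ∧ e ∈ (S : Subgroup G)}
    (fun e => Nat.card (CS S e)) (Set.toFinite _) ⟨e₀, he₀, he₀S⟩
  refine ⟨e, hes, heS, fun f hf2 hfC hfA R hR hRf => ?_⟩
  have hfA' : A ≤ cen f := fun a ha => mem_cen.2 (mem_centralizer_iff.1 hfC a ha)
  -- a Sylow subgroup of `C(f)` containing `A⟨f⟩`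
  set E := ext A f hf2 hfC
  have hEf : E ≤ cen f := fun y hy => mem_cen.2
    (congrArg Subtype.val ((h.ext_ea hf2 hfC).1.is_comm.comm (⟨y, hy⟩ : ↥E) ⟨f, mem_ext⟩))
  have hE2 : IsPGroup 2 E := fun y => ⟨1, Subtype.ext (by
    rw [SubmonoidClass.coe_pow, pow_one]
    exact (h.ext_ea hf2 hfC).2 y y.2)⟩
  obtain ⟨Q, hQ⟩ := (hE2.comap_of_injective (cen f).subtype (cen f).subtype_injective :
    IsPGroup 2 (E.subgroupOf (cen f))).exists_le_sylow
  obtain ⟨R₁, hR₁⟩ := (hR.comap_of_injective (cen f).subtype (cen f).subtype_injective :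
    IsPGroup 2 (R.subgroupOf (cen f))).exists_le_sylow
  have hcard : Nat.card R ≤ Nat.card ((Q : Subgroup ↥(cen f)).map (cen f).subtype) := by
    rw [card_map_of_injective (cen f).subtype_injective, Q.card_eq_multiplicity, ← R₁.card_eq_multiplicity,
      ← Nat.card_congr (subgroupOfEquivOfLe hRf).toEquiv]
    exact Subgroup.card_le_of_le hR₁
  set Q' := (Q : Subgroup ↥(cen f)).map (cen f).subtype with hQ'
  have hEQ : E ≤ Q' := fun y hy => ⟨⟨y, hEf hy⟩, hQ hy, rfl⟩
  have hQ'2 : IsPGroup 2 Q' := Q.isPGroup'.map _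
  have hQA : Q' ≤ centralizer (A : Set G) := h.le_centralizer_two hQ'2 (le_ext.trans hEQ)
  -- a special involution of `f A`
  obtain ⟨e', he', hef⟩ := h.exists_special hf2 hfC hfA
  have hQe : Q' ≤ cen e' := fun y hy => by
    have hyf : Commute y f := mem_cen.1 (map_subtype_le _ hy)
    have hya : Commute y (e' * f) := (mem_centralizer_iff.1 (hQA hy) _ hef).symm
    have := hya.mul_right hyf
    rw [mul_assoc, hf2, mul_one] at this
    exact mem_cen.2 this.eq
  obtain ⟨g, hg, hgS⟩ := h.exists_conj_into hQ'2 hQA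
  have he'Q : e' ∈ Q' := by
    refine hEQ (Or.inr hef)
  have hmem : g * e' * g⁻¹ ∈ (S : Subgroup G) := hgS e' he'Q
  refine hcard.trans (le_trans ?_ (hmax _ ⟨h.special_conj hg he', hmem⟩))
  rw [← LEBasic.card_map_conj Q' g]
  refine Subgroup.card_le_of_le ?_
  rintro _ ⟨y, hy, rfl⟩
  refine ⟨hgS y hy, mem_cen.2 ?_⟩
  show g * y * g⁻¹ * (g * e' * g⁻¹) = g * e' * g⁻¹ * (g * y * g⁻¹)
  rw [conj_mul, conj_mul, mem_cen.1 (hQe hy)]

end Ctx

namespace Top

variable {e : G} (ht : Top S A e)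
include ht

theorem self_mem : e ∈ CS S e := ⟨ht.memS, mem_cen.2 rfl⟩

/-- `C_S(e)` is a Sylow 2-subgroup of `C(e)`. -/
theorem eq_of_le {R : Subgroup G} (hR : IsPGroup 2 R) (hRe : R ≤ cen e) (hle : CS S e ≤ R) : R = CS S e :=
  (eq_of_le_of_card_ge hle (ht.max e ht.spec.1 ht.spec.2.1 ht.spec.2.2.1 R hR hRe)).symm

theorem le_cenS : CS S e ≤ cenS (zpowers e) := fun _ hx => mem_cenS_zpowers.2 (mem_cen.1 hx.2)

/-- The frame. -/
theorem exists_frame (h : Ctx S A) : ∃ L n, Frame S A e L n := by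
  haveI : Fact (Nat.Prime 2) := ⟨Nat.prime_two⟩
  obtain ⟨L, hL, a₀, b₀, y₀, htor⟩ := ht.spec.2.2.2
  have he2 := ht.spec.1
  have heC := ht.spec.2.1
  have hB : Loc A (zpowers e) := h.loc_invol he2 heC ht.spec.2.2.1
  set T := CS S e with hT
  set R := RS S e L with hR
  have hAT : A ≤ T := h.le_CS heC
  have hTA : T ≤ centralizer (A : Set G) := h.CS_le_cenA e
  have hTB : T ≤ cenS (zpowers e) := ht.le_cenS
  have hTn : ∀ t : G, ∀ htt : t ∈ T, q (cenS (zpowers e)) ⟨t, hTB htt⟩ ∈ normalizer (L : Set (XB (zpowers e))) := fun t htt =>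
    h.normalizes hB hL (centralizer_le_normalizer _ (hTA htt)) (hTB htt)
  obtain ⟨hAL, hCA⟩ := h.torus_eq hB hL
  obtain ⟨K, _, _, ρ, TK, P, hk⟩ := exists_kmap h hB hL
  have hTKP : (TK : Subgroup K) = P := hk.sylow_eq h hB hL htor
  have hRinf : A ⊓ R = ⊥ := le_bot_iff.1 fun x hx => hCA.le ⟨hx.1, hx.2.2⟩
  -- the elements of `T` in the component
  have hTL : ∀ x ∈ T, x ∈ pre (zpowers e) L → ∃ a ∈ A, ∃ r ∈ R, x = a * r := by
    intro x hx hxL
    set TL := T.subgroupOf (pre (zpowers e) L) with hTLdef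
    have hTL2 : IsPGroup 2 TL :=
      (cS_two e).comap_of_injective (pre (zpowers e) L).subtype (pre (zpowers e) L).subtype_injective
    have hle : (TK : Subgroup K) ≤ TL.map ρ := by
      rw [hTKP, ← hk.map]
      exact map_mono fun y hy => hAT hy
    have heq : TL.map ρ = P := (TK.is_maximal' (hTL2.map ρ) hle).trans hTKP
    have hmem : ρ ⟨x, hxL⟩ ∈ P := heq ▸ mem_map_of_mem ρ (show _ ∈ TL from hx)
    rw [← hk.map] at hmem
    obtain ⟨al, hal, he⟩ := hmem
    have hala : (al : G) ∈ A := hal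
    refine ⟨al, hala, (al : G)⁻¹ * x, ⟨T.mul_mem (T.inv_mem (hAT hala)) hx, ?_⟩, (mul_inv_cancel_left _ _).symm⟩
    exact (hk.ker (al⁻¹ * ⟨x, hxL⟩)).1 (by rw [map_mul, map_inv, he, inv_mul_cancel])
  -- a torus element normalising `T`
  obtain ⟨U, t, htU⟩ := h.loc.torus (zpowers e) hB L hL
  have hUA : U = A := eq_of_le_of_card_ge htU.le (h.card.trans_le htU.four)
  subst hUA
  have htm : t ∉ centralizer (U : Set G) := by
    intro htc
    obtain ⟨a, ha, ha1⟩ := U.bot_or_exists_ne_one.resolve_left h.ne_bot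
    obtain ⟨b, hb, hb1, hba⟩ := h.exists_ne a
    obtain ⟨i, hi⟩ := htU.trans a ha ha1 b hb hb1
    refine hba (hi.symm.trans ?_)
    rw [← mem_centralizer_iff.1 (pow_mem htc i) a ha, mul_inv_cancel_right]
  set N1 := pre (zpowers e) L ⊓ centralizer (U : Set G) with hN1
  have hTN1 : T ≤ normalizer (N1 : Set G) := by
    have hT' : ∀ s ∈ T, ∀ y ∈ N1, s * y * s⁻¹ ∈ N1 := fun s hs y hy =>
      ⟨normalizes_pre (hTB hs) (hTn s hs) hy.1, (centralizer (U : Set G)).mul_mem ((centralizer (U : Set G)).mul_mem (hTA hs) hy.2) ((centralizer (U : Set G)).inv_mem (hTA hs))⟩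
    intro s hs
    refine mem_normalizer_iff.2 fun y => ⟨hT' s hs y, fun hy => ?_⟩
    have := hT' s⁻¹ (inv_mem hs) _ hy
    simpa [mul_assoc] using this
  set C2 := N1 ⊔ T with hC2
  have hC2e : C2 ≤ cen e :=
    sup_le (inf_le_left.trans (pre_le.trans (cenS_zpowers e).le)) inf_le_right
  let T' : Sylow 2 ↥C2 :=
    { toSubgroup := T.subgroupOf C2
      isPGroup' := (cS_two e).comap_of_injective C2.subtype C2.subtype_injective
      is_maximal' := fun {Q} hQ hle => by
        have h1 : T ≤ Q.map C2.subtype := fun s hs => ⟨⟨s, mem_sup_right hs⟩, hle hs, rfl⟩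
        have h2 := ht.eq_of_le (hQ.map C2.subtype) ((map_subtype_le Q).trans hC2e) h1
        ext ⟨s, hs⟩
        rw [mem_subgroupOf]
        show _ ↔ s ∈ T
        rw [hT, ← h2]
        simp [hs] }
  have hconjT : T.map (MulAut.conj t).toMonoidHom ≤ C2 := by
    rintro _ ⟨s, hs, rfl⟩
    show t * s * t⁻¹ ∈ C2
    have e1 : t * s * t⁻¹ = (t * (s * t⁻¹ * s⁻¹)) * s := by group
    rw [e1]
    refine mul_mem (mem_sup_left ⟨mul_mem htU.mem (normalizes_pre (hTB hs) (hTn s hs) (inv_mem htU.mem)), ?_⟩)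
      (mem_sup_right hs)
    have h1 : t * s * t⁻¹ ∈ centralizer (U : Set G) := mem_centralizer_iff.2 fun a ha => by
      have hb : t⁻¹ * a * t ∈ U := (h.set.conj_mem_iff htU.norm).2 (by
        rwa [show t * (t⁻¹ * a * t) * t⁻¹ = a by group])
      calc a * (t * s * t⁻¹) = t * ((t⁻¹ * a * t) * s) * t⁻¹ := by group
        _ = t * (s * (t⁻¹ * a * t)) * t⁻¹ := by rw [mem_centralizer_iff.1 (hTA hs) _ hb]
        _ = t * s * t⁻¹ * a := by group
    have := mul_mem h1 (inv_mem (hTA hs))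
    rwa [show t * s * t⁻¹ * s⁻¹ = t * (s * t⁻¹ * s⁻¹) by group] at this
  obtain ⟨Q, hQ⟩ := (((cS_two e).map (MulAut.conj t).toMonoidHom).comap_of_injective C2.subtype
    C2.subtype_injective : IsPGroup 2 ((T.map (MulAut.conj t).toMonoidHom).subgroupOf C2)).exists_le_sylow
  obtain ⟨c, hc⟩ := MulAction.exists_smul_eq ↥C2 Q T'
  have hcT : ∀ s ∈ T, ((c : G) * t) * s * ((c : G) * t)⁻¹ ∈ T := by
    intro s hs
    have h1 : t * s * t⁻¹ ∈ T.map (MulAut.conj t).toMonoidHom := ⟨s, hs, rfl⟩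
    have h2 : c * ⟨t * s * t⁻¹, hconjT h1⟩ * c⁻¹ ∈ (T' : Subgroup ↥C2) := by
      rw [← hc, Sylow.coe_subgroup_smul]
      exact ⟨_, hQ h1, rfl⟩
    have h3 : (c : G) * (t * s * t⁻¹) * (c : G)⁻¹ ∈ T := h2
    rwa [show (c : G) * t * s * ((c : G) * t)⁻¹ = (c : G) * (t * s * t⁻¹) * (c : G)⁻¹ by group]
  obtain ⟨l, hl, s, hs, hls⟩ := (SolvBasic.mem_sup_iff_of_le_normalizer hTN1).1 c.2
  set h1 := s⁻¹ * ((c : G) * t) with hh1
  have hh1L : h1 ∈ pre (zpowers e) L := by
    have e1 : h1 = (s⁻¹ * l * s⁻¹⁻¹) * t := by rw [hh1, hls]; group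
    rw [e1]
    exact mul_mem (normalizes_pre (hTB (inv_mem hs)) (hTn _ (inv_mem hs)) hl.1) htU.mem
  have hlsA : s⁻¹ * (c : G) ∈ centralizer (U : Set G) := by
    rw [hls]; exact mul_mem (inv_mem (hTA hs)) (mul_mem hl.2 (hTA hs))
  have hh1N : h1 ∈ normalizer (U : Set G) := by
    rw [hh1, ← mul_assoc]
    exact mul_mem (centralizer_le_normalizer _ hlsA) htU.norm
  have hh1T : h1 ∈ normalizer (T : Set G) := by
    refine mul_mem (le_normalizer (inv_mem hs)) ?_
    rw [← LEBasic.map_conj_eq_iff_mem_normalizer]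
    refine eq_of_le_of_card_ge ?_ (LEBasic.card_map_conj T _).ge
    rintro _ ⟨y, hy, rfl⟩
    exact hcT y hy
  have hh1m : h1 ∉ centralizer (U : Set G) := fun hc' => htm (by
    have := mul_mem (inv_mem hlsA) hc'
    rwa [hh1, show (s⁻¹ * (c : G))⁻¹ * (s⁻¹ * ((c : G) * t)) = t by group] at this)
  obtain ⟨j, hjo, -⟩ := exists_odd_pow h1
  set n := h1 ^ 2 ^ j with hn
  have hnN : n ∈ normalizer (U : Set G) := pow_mem hh1N _
  have hnm : n ∉ centralizer (U : Set G) := by
    intro hnc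
    have h3 : h1 ^ 3 ∈ centralizer (U : Set G) := by
      refine mem_centralizer_iff.2 fun a ha => ?_
      by_cases ha1 : a = 1
      · rw [ha1, one_mul, mul_one]
      obtain ⟨-, e2⟩ := h.moving_cycle hh1N hh1m ha ha1
      have hb : h1 * a * h1⁻¹ ∈ U := (h.set.conj_mem_iff hh1N).1 ha
      have e3 : h1 * (a * (h1 * a * h1⁻¹)) * h1⁻¹ = a := by
        calc h1 * (a * (h1 * a * h1⁻¹)) * h1⁻¹ = h1 * a * h1⁻¹ * (h1 * (h1 * a * h1⁻¹) * h1⁻¹) := by group
          _ = h1 * a * h1⁻¹ * (a * (h1 * a * h1⁻¹)) := by rw [e2]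
          _ = a * ((h1 * a * h1⁻¹) * (h1 * a * h1⁻¹)) := by rw [← mul_assoc, h.comm hb ha, mul_assoc]
          _ = a := by rw [h.sq hb, mul_one]
      rw [← e2] at e3
      refine (mul_inv_eq_iff_eq_mul.1 ?_).symm
      calc h1 ^ 3 * a * (h1 ^ 3)⁻¹ = h1 * (h1 * (h1 * a * h1⁻¹) * h1⁻¹) * h1⁻¹ := by
            simp only [pow_succ, pow_zero, one_mul, mul_inv_rev, mul_assoc]
        _ = a := e3
    refine hh1m ?_
    have hcop : Nat.Coprime 3 (2 ^ j) := Nat.Coprime.pow_right j (by norm_num)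
    have hb : (3 : ℕ) * Nat.gcdA 3 (2 ^ j) + (2 ^ j : ℕ) * Nat.gcdB 3 (2 ^ j) = (1 : ℤ) := by
      rw [← Nat.gcd_eq_gcd_ab, hcop]; rfl
    have e1 : h1 = (h1 ^ 3) ^ Nat.gcdA 3 (2 ^ j) * n ^ Nat.gcdB 3 (2 ^ j) := by
      conv_lhs => rw [← zpow_one h1, ← hb]
      rw [zpow_add, zpow_mul, zpow_mul, zpow_natCast, zpow_natCast, hn]
    rw [e1]
    exact mul_mem (zpow_mem h3 _) (zpow_mem hnc _)
  have hnL : n ∈ pre (zpowers e) L := pow_mem hh1L _
  have hnT : n ∈ normalizer (T : Set G) := pow_mem hh1T _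
  have hnR : ∀ r ∈ R, n * r = r * n := by
    intro r hr
    have h2 : r * n * r⁻¹ * n⁻¹ ∈ cor (zpowers e) := comm_mem_cor hr.2 hnL
    have h3 : r * n * r⁻¹ * n⁻¹ ∈ T := by
      rw [show r * n * r⁻¹ * n⁻¹ = r * (n * r⁻¹ * n⁻¹) by group]
      exact mul_mem hr.1 ((mem_normalizer_iff.1 hnT _).1 (inv_mem hr.1))
    have h4 := PBasic.eq_one_of_isPGroup_of_coprime (cS_two e) h3
      (PBasic.coprime_orderOf_of_mem (Walter4.cor_coprime (zpowers e)) h2)
    rw [mul_inv_eq_one, mul_inv_eq_iff_eq_mul] at h4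
    exact h4.symm
  -- `T = A R`
  have hRn : ∀ v ∈ T, ∀ r ∈ R, v * r * v⁻¹ ∈ R := fun v hv r hr =>
    ⟨T.mul_mem (T.mul_mem hv hr.1) (T.inv_mem hv), normalizes_pre_centralizer (hTB hv) (hTn v hv) hr.2⟩
  obtain ⟨Φ, hΦ⟩ := hk.exists_action h hB hL T hTB hTn
  have hprod : ∀ (k : ℕ) (v : G), v ∈ T → v ^ 2 ^ k = 1 → ∃ a ∈ U, ∃ r ∈ R, v = a * r := by
    intro k
    induction k with
    | zero =>
      intro v _ hv
      rw [pow_zero, pow_one] at hv
      exact ⟨1, one_mem _, 1, one_mem _, by rw [hv, mul_one]⟩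
    | succ k ih =>
      intro v hv hvk
      obtain ⟨p, hp, r, hr, hvv⟩ := ih (v * v) (mul_mem hv hv) (by rwa [← pow_two, ← pow_mul, ← pow_succ'])
      by_cases hp1 : p = 1
      · -- the action on `K` is inner by an element of `U`
        rw [hp1, one_mul] at hvv
        set vT : ↥T := ⟨v, hv⟩ with hvT
        have hfix : ∀ pk ∈ P, Φ vT pk = pk := by
          intro pk hpk
          rw [← hk.map] at hpk
          obtain ⟨al, hal, rfl⟩ := hpk
          rw [hΦ]
          refine congrArg ρ (Subtype.ext ?_)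
          show v * (al : G) * v⁻¹ = al
          rw [← mem_centralizer_iff.1 (hTA hv) (al : G) (show (al : G) ∈ U from hal), mul_inv_cancel_right]
        have hker : ∀ w : ↥T, (w : G) ∈ R → Φ w = 1 := fun w hw => MulEquiv.ext fun z => by
          obtain ⟨y, rfl⟩ := hk.surj z
          rw [hΦ, MulAut.one_apply, ← mul_inv_eq_one, ← map_inv, ← map_mul]
          refine (hk.ker _).2 ?_
          exact cor_le_pre (zpowers e) _ (comm_mem_cor hw.2 y.2)
        have hsq : Φ vT * Φ vT = 1 := by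
          rw [← map_mul]
          exact hker _ (show v * v ∈ R from hvv ▸ hr)
        obtain ⟨pk, hpk, hinn⟩ := hk.facts.inner (Φ vT) hsq hfix fun x hx => by
          rw [hfix x (hTKP ▸ hx), mul_inv_cancel]
          exact one_mem _
        rw [← hk.map] at hpk
        obtain ⟨al, hal, rfl⟩ := hpk
        have hala : (al : G) ∈ U := hal
        refine ⟨al, hala, (al : G)⁻¹ * v, ⟨T.mul_mem (T.inv_mem (hAT hala)) hv, ?_⟩,
          (mul_inv_cancel_left _ _).symm⟩
        have hwT : (al : G)⁻¹ * v ∈ T := mul_mem (inv_mem (hAT hala)) hv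
        refine mem_pre.2 ⟨hTB hwT, mem_centralizer_of_mod hL.1 (hTn _ hwT) fun z hz => ?_⟩
        obtain ⟨⟨y, hyC⟩, rfl⟩ := QuotientGroup.mk'_surjective _ z
        set yl : ↥(pre (zpowers e) L) := ⟨y, mem_pre.2 ⟨hyC, hz⟩⟩
        set wT : ↥T := ⟨(al : G)⁻¹ * v, hwT⟩ with hwTdef
        have e2 : Φ wT = 1 := by
          have e3 : Φ ⟨(al : G), hAT hala⟩ = MulAut.conj (ρ al) := MulEquiv.ext fun z => by
            obtain ⟨y, rfl⟩ := hk.surj z
            rw [hΦ, MulAut.conj_apply, ← map_inv, ← map_mul, ← map_mul]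
            exact congrArg ρ (Subtype.ext rfl)
          rw [show wT = (⟨(al : G), hAT hala⟩ : ↥T)⁻¹ * vT from rfl, map_mul, map_inv, e3, hinn,
            inv_mul_cancel]
        have h2 : ρ (⟨(wT : G) * yl * (wT : G)⁻¹, normalizes_pre (hTB hwT) (hTn _ hwT) yl.2⟩ * yl⁻¹) = 1 := by
          rw [map_mul, map_inv, ← hΦ wT yl, e2, MulAut.one_apply, mul_inv_cancel]
        obtain ⟨_, h4⟩ := mem_pre.1 ((hk.ker _).1 h2)
        rw [← map_inv (q (cenS (zpowers e))), ← map_inv (q (cenS (zpowers e))), ← map_mul, ← map_mul, ← map_mul]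
        exact h4
      · -- `n` moves `p`
        exfalso
        have hcw : n * v * n⁻¹ * v⁻¹ ∈ T := mul_mem ((mem_normalizer_iff.1 hnT v).1 hv) (inv_mem hv)
        obtain ⟨a', ha', r', hr', hc'⟩ := hTL _ hcw (by
          rw [show n * v * n⁻¹ * v⁻¹ = n * (v * n⁻¹ * v⁻¹) by group]
          exact mul_mem hnL (normalizes_pre (hTB hv) (hTn v hv) (inv_mem hnL)))
        have hw : n * v * n⁻¹ = a' * r' * v := by rw [← hc']; group
        have hra : Commute r' a' := (mem_centralizer_iff.1 (hTA hr'.1) a' ha').symm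
        have hva : Commute v a' := (mem_centralizer_iff.1 (hTA hv) a' ha').symm
        have hrp : Commute (r' * (v * r' * v⁻¹)) p :=
          (mem_centralizer_iff.1 (hTA (mul_mem hr'.1 (hRn v hv r' hr').1)) p hp).symm
        have e1 : n * p * n⁻¹ * r = p * (r' * (v * r' * v⁻¹)) * r := by
          calc n * p * n⁻¹ * r = n * p * n⁻¹ * (n * r * n⁻¹) := by
                rw [hnR r hr, mul_inv_cancel_right]
            _ = n * (p * r) * n⁻¹ := by group
            _ = (n * v * n⁻¹) * (n * v * n⁻¹) := by rw [← hvv]; group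
            _ = a' * ((r' * v) * a') * (r' * v) := by rw [hw]; group
            _ = a' * a' * (r' * (v * r' * v⁻¹)) * (v * v) := by rw [(hra.mul_left hva).eq]; group
            _ = r' * (v * r' * v⁻¹) * p * r := by rw [h.sq ha', one_mul, hvv, ← mul_assoc]
            _ = _ := by rw [hrp.eq]
        have e2 := mul_right_cancel e1
        have hd : p⁻¹ * (n * p * n⁻¹) ∈ U ⊓ R := ⟨U.mul_mem (U.inv_mem hp) ((h.set.conj_mem_iff hnN).1 hp), by
          rw [e2, inv_mul_cancel_left]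
          exact R.mul_mem hr' (hRn v hv r' hr')⟩
        rw [hRinf, mem_bot, inv_mul_eq_one] at hd
        exact (h.moving_cycle hnN hnm hp hp1).1 hd.symm
  refine ⟨L, n, ht, hL, fun v hv => ?_, hRinf, ⟨ht.self_mem, ?_⟩, hnL, hnN, hnm, ?_, hnT, hnR⟩
  · obtain ⟨k, hk'⟩ := cS_two e ⟨v, hv⟩
    exact hprod k v hv (congrArg Subtype.val hk')
  · refine mem_pre_centralizer (mem_cenS_zpowers.2 rfl) fun y hy => ?_
    rw [← mem_cenS_zpowers.1 (pre_le hy), mul_inv_cancel_right, mul_inv_cancel]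
    exact one_mem _
  · exact hjo

end Top

end Cfsg.Agent.Gold1169.Two
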