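import Cfsg.Agent.Lib.Gold1169.Two.Quot
import Cfsg.Agent.Lib.ProdFusion.Transfer

/-!
No configuration with `|T ⧸ A| = 2`: by transfer.
-/

set_option autoImplicit false
set_option linter.style.haveILetI false
set_option linter.unusedSectionVars false

namespace Cfsg.Agent.Gold1169.Two

open Subgroup
open Cfsg.Agent.Walter4 (cen cenS ocen cor XB pre CA mem_pre cor_zpowers pre_le)
open Cfsg.Agent.OddDown.CoreSep (q im mem_im)
open scoped commutatorElement

universe u

attribute [local instance] FittingCores.pPrimeCore_normal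

variable {G : Type u} [Group G] [Finite G] {S : Sylow 2 G} {A : Subgroup G}

namespace Ctx

variable (h : Ctx S A)
include h

theorem ext_card {f : G} {hf2 : f * f = 1} {hfC : f ∈ centralizer (A : Set G)} (hfA : f ∉ A) :
    8 ≤ Nat.card (ext A f hf2 hfC) := by
  have h3 := (A.subgroupOf (ext A f hf2 hfC)).card_mul_index
  rw [Nat.card_congr (subgroupOfEquivOfLe (show A ≤ ext A f hf2 hfC from le_ext)).toEquiv, h.card] at h3
  have h4 : (A.subgroupOf (ext A f hf2 hfC)).index ≠ 1 := fun e1 =>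
    hfA ((subgroupOf_eq_top.1 (index_eq_one.1 e1)) mem_ext)
  have h5 := Subgroup.index_ne_zero_of_finite (H := A.subgroupOf (ext A f hf2 hfC))
  have h6 : 4 * 2 ≤ 4 * (A.subgroupOf (ext A f hf2 hfC)).index := Nat.mul_le_mul_left 4 (by omega)
  omega

theorem ext_le_CS {f : G} {hf2 : f * f = 1} {hfC : f ∈ centralizer (A : Set G)}
    (hfS : f ∈ (S : Subgroup G)) : ext A f hf2 hfC ≤ CS S f := by
  rintro x (hx | hx)
  · exact h.le_CS hfC hx
  · have e1 : x = x * f * f := by rw [mul_assoc, hf2, mul_one]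
    rw [e1]
    exact mul_mem (h.le_CS hfC hx) ⟨hfS, mem_cen.2 rfl⟩

/-- `G` has no normal subgroup of index two. -/
theorem no_normal_two (N : Subgroup G) (hN : N.Normal) : N.index ≠ 2 := by
  intro h2
  have hb := h.set.eq_bot_of_normal hN fun e => by rw [e, index_top] at h2; omega
  rw [hb, index_bot] at h2
  have h4 := card_subgroup_dvd_card A
  rw [h.card, h2] at h4
  omega

/-- A subgroup of `S` containing its normaliser in `S` is `S`. -/
theorem eq_S_of_normalizer {M : Subgroup G} (hM : M ≤ (S : Subgroup G))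
    (hn : ∀ g ∈ (S : Subgroup G), g ∈ normalizer (M : Set G) → g ∈ M) : M = (S : Subgroup G) := by
  haveI : Fact (Nat.Prime 2) := ⟨Nat.prime_two⟩
  by_contra hne
  have hlt : M.subgroupOf (S : Subgroup G) < ⊤ := by
    rw [lt_top_iff_ne_top, Ne, subgroupOf_eq_top]
    exact fun h' => hne (le_antisymm hM h')
  haveI := S.isPGroup'.isNilpotent
  obtain ⟨⟨g, hgS⟩, hg, hgn⟩ :=
    SetLike.exists_of_lt (Group.normalizerCondition_of_isNilpotent _ hlt)
  refine hgn (mem_subgroupOf.2 (hn g hgS (mem_normalizer_iff.2 fun y => ⟨fun hy => ?_, fun hy => ?_⟩)))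
  · exact mem_subgroupOf.1 ((mem_normalizer_iff.1 hg ⟨y, hM hy⟩).1 hy)
  · have hyS : y ∈ (S : Subgroup G) := by
      have := mul_mem (mul_mem (inv_mem hgS) (hM hy)) hgS
      rwa [show g⁻¹ * (g * y * g⁻¹) * g = y by group] at this
    exact mem_subgroupOf.1 ((mem_normalizer_iff.1 hg ⟨y, hyS⟩).2 hy)

/-- An involution of `S` is not conjugate into `A` unless it lies in `A`. -/
theorem not_conj_A {t y : G} (htS : t ∈ (S : Subgroup G)) (htA : t ∉ A) (hy : y ∈ A) : ¬ IsConj t y := by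
  intro hc
  obtain ⟨c, hc⟩ := isConj_iff.1 hc
  have e1 : c⁻¹ * y * c⁻¹⁻¹ = t := by rw [← hc]; group
  exact htA (e1 ▸ h.set.closed.2 y hy c⁻¹ (e1.symm ▸ htS))

end Ctx

namespace Deep

variable {e n : G} (hD : Deep S A e n) (h : Ctx S A)
include hD h

section One

variable (h8 : Nat.card (CS S e) = 8)
include h8

theorem T_mem {t : G} (ht : t ∈ CS S e) : t ∈ A ∨ t * e ∈ A := by
  have hle := h.ext_le_CS (hf2 := hD.top.spec.1) (hfC := hD.top.spec.2.1) hD.top.memS
  have heq := eq_of_le_of_card_ge hle (h8.trans_le (h.ext_card hD.top.spec.2.2.1))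
  exact (heq.ge ht : t ∈ ext A e hD.top.spec.1 hD.top.spec.2.1)

variable {Y : Subgroup G} (hY : (Y : Set G) = YSet S A e n)
include hY

theorem Y_sq_one {y : G} (hy : y ∈ Y) (hyy : y * y = 1) : y ∈ A := by
  rcases hD.Y_type h hY with hall | hinv
  · exfalso
    have hne : ∃ z ∈ Y, z ∉ A := by
      by_contra hno
      push Not at hno
      have := Subgroup.card_le_of_le (show Y ≤ A from hno)
      rw [hD.card_Y h hY, h.card] at this
      omega
    obtain ⟨z, hz, hzA⟩ := hne
    have hY2 : IsPGroup 2 Y := (NS_two e).to_le (hD.Y_le h hY)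
    have := hD.top.max z (hall z hz) (hD.NS_cenA h (hD.Y_le h hY hz)) hzA Y hY2
      fun x hx => mem_cen.2 (hD.Y_comm h hY hx hz)
    rw [hD.card_Y h hY, h8] at this
    omega
  · exact hinv y hy hyy

theorem NS_mem {x : G} (hx : x ∈ NS S e) : x ∈ Y ∨ x * e ∈ Y := by
  obtain ⟨y, hy, t, ht, rfl⟩ := hD.decomp h hY hx
  rcases hD.T_mem h h8 ht with h1 | h1
  · exact Or.inl (mul_mem hy (hD.A_le_Y h hY h1))
  · exact Or.inr (by rw [mul_assoc]; exact mul_mem hy (hD.A_le_Y h hY h1))

/-- `e` inverts `Y`. -/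
theorem inverts {y : G} (hy : y ∈ Y) : e * y * e = y⁻¹ := by
  haveI : Fact (Nat.Prime 2) := ⟨Nat.prime_two⟩
  have he2 := hD.top.spec.1
  have heA := hD.top.spec.2.2.1
  have hei : e⁻¹ = e := inv_eq_of_mul_eq_one_right he2
  by_cases hex : ∃ y0 ∈ Y, y0 ∉ A ∧ y0 * e * (y0 * e) = 1
  · obtain ⟨y0, hy0, hy0A, he0⟩ := hex
    have h0 : e * y0 * e = y0⁻¹ := by
      rw [show e * y0 * e = y0⁻¹ * (y0 * e * (y0 * e)) by group, he0, mul_one]
    have h1 : y0 * y0 = y0 * e * y0⁻¹ * e⁻¹ := by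
      calc y0 * y0 = y0 * (e * y0 * e)⁻¹ := by rw [h0, inv_inv]
        _ = _ := by rw [mul_inv_rev, mul_inv_rev, hei]; group
    have h2 := hD.sq_eq_comm h hY hD.top.self_mem hD.n_e hy0 hy0A h1 hy
    rw [hei, mul_assoc y e, mul_assoc y (e * y⁻¹)] at h2
    have h3 := mul_left_cancel h2
    have h4 : (e * y⁻¹ * e)⁻¹ = y⁻¹ := by rw [← h3]
    rwa [mul_inv_rev, mul_inv_rev, inv_inv, hei, ← mul_assoc] at h4
  exfalso
  push Not at hex
  have hT : ∀ x ∈ NS S e, x * x = 1 → x ∈ CS S e := by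
    intro x hx hxx
    rcases hD.NS_mem h h8 hY hx with h1 | h1
    · exact hD.A_le h (hD.Y_sq_one h h8 hY h1 hxx)
    · have e1 : x = x * e * e := by rw [mul_assoc, he2, mul_one]
      by_cases h2 : x * e ∈ A
      · rw [e1]; exact mul_mem (hD.A_le h h2) hD.top.self_mem
      · exact absurd (by rw [← e1]; exact hxx) (hex _ h1 h2)
  have hNS : NS S e = (S : Subgroup G) := h.eq_S_of_normalizer inf_le_left fun g hgS hg => by
    refine ⟨hgS, ?_⟩
    show g ∈ normalizer (CS S e : Set G)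
    rw [← LEBasic.map_conj_eq_iff_mem_normalizer]
    refine eq_of_le_of_card_ge ?_ (LEBasic.card_map_conj _ _).ge
    rintro _ ⟨t, ht, rfl⟩
    refine hT _ ((mem_normalizer_iff.1 hg t).1 (CS_le_NS e ht)) ?_
    show g * t * g⁻¹ * (g * t * g⁻¹) = 1
    rw [conj_mul, hD.T_sq h ht, mul_one, mul_inv_cancel]
  have heY : e ∉ Y := fun h1 => heA (hD.Y_sq_one h h8 hY h1 he2)
  obtain ⟨z, hz, hz2, hconj⟩ := ProdFusion.transfer_out (P := S) h.no_normal_two
    ((hD.Y_le h hY).trans inf_le_left) hD.top.memS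
    (orderOf_eq_prime (by rw [pow_two, he2]) (Special.ne_one hD.top.spec)) heY
    (fun x hx => hD.NS_mem h h8 hY (hNS.ge hx))
  have hzz : z * z = 1 := by rw [← pow_two, ← hz2, pow_orderOf_eq_one]
  exact h.not_conj_A hD.top.memS heA (hD.Y_sq_one h h8 hY hz hzz) hconj

end One

/-- No configuration with `|T| = 8`. -/
theorem false_of_eight (h8 : Nat.card (CS S e) = 8) : False := by
  haveI : Fact (Nat.Prime 2) := ⟨Nat.prime_two⟩
  obtain ⟨Y, hY⟩ := hD.exists_Y h
  obtain ⟨he2, heC, heA, -⟩ := hD.top.spec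
  have hei : e⁻¹ = e := inv_eq_of_mul_eq_one_right he2
  have hinv := fun {y : G} (hy : y ∈ Y) => hD.inverts h h8 hY hy
  set Q : Subgroup G := (S : Subgroup G) ⊓ normalizer (Y : Set G) with hQ
  have hYS : Y ≤ (S : Subgroup G) := (hD.Y_le h hY).trans inf_le_left
  have heQ : e ∈ Q := by
    refine ⟨hD.top.memS, ?_⟩
    show e ∈ normalizer (Y : Set G)
    rw [← LEBasic.map_conj_eq_iff_mem_normalizer]
    refine eq_of_le_of_card_ge ?_ (LEBasic.card_map_conj _ _).ge
    rintro _ ⟨y, hy, rfl⟩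
    exact hD.NS_normalizes h hY (CS_le_NS e hD.top.self_mem) hy
  -- every involution of `Q` outside `Y` inverts `Y`
  have hall : ∀ f ∈ Q, f * f = 1 → f ∉ Y → ∀ y ∈ Y, f * y * f = y⁻¹ := by
    intro f hf hf2 hfY
    have hfS : f ∈ (S : Subgroup G) := hf.1
    have hfC : f ∈ centralizer (A : Set G) := h.S_le hfS
    have hfA : f ∉ A := fun h1 => hfY (hD.A_le_Y h hY h1)
    have hfi : f⁻¹ = f := inv_eq_of_mul_eq_one_right hf2
    have hfext : CS S f = ext A f hf2 hfC := (eq_of_le_of_card_ge (h.ext_le_CS hfS)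
      (((hD.top.max f hf2 hfC hfA _ (cS_two f) inf_le_right).trans h8.le).trans (h.ext_card hfA))).symm
    have hCY : ∀ y ∈ Y, y * f = f * y → y ∈ A := by
      intro y hy hyf
      have : y ∈ CS S f := ⟨hYS hy, mem_cen.2 hyf⟩
      rw [hfext] at this
      rcases this with h1 | h1
      · exact h1
      · refine absurd ?_ hfY
        have := mul_mem (inv_mem hy) (hD.A_le_Y h hY h1)
        rwa [inv_mul_cancel_left] at this
    have htriv : ∀ y ∈ Y, y * f * y⁻¹ * f⁻¹ ∈ A := by
      intro y hy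
      have hy' : f * y * f ∈ Y := by
        have := (mem_normalizer_iff.1 hf.2 y).1 hy
        rwa [hfi] at this
      set z := y * (f * y * f) with hz
      have hzA : z ∈ A := by
        refine hCY z (mul_mem hy hy') ?_
        have h1 : f * z * f = z := by
          calc f * z * f = f * y * (f * y * (f * f)) := by rw [hz]; group
            _ = f * y * f * y := by rw [hf2]; group
            _ = z := by rw [hz]; exact hD.Y_comm h hY hy' hy
        calc z * f = f * z * f * f := by rw [h1]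
          _ = f * z := by rw [mul_assoc, hf2, mul_one]
      have e1 : y * f * y⁻¹ * f⁻¹ = y * z⁻¹ * y := by
        rw [hz, mul_inv_rev, mul_inv_rev, mul_inv_rev, hfi]
        group
      rw [e1, mul_assoc, (hD.A_central h (inv_mem hzA) (hD.Y_le h hY hy)).eq, ← mul_assoc]
      exact mul_mem (hD.NS_sq h (hD.Y_le h hY hy)) (inv_mem hzA)
    -- a special involution in `f A`
    obtain ⟨f', hf', hff⟩ := h.exists_special hf2 hfC hfA
    have hf'S : f' ∈ (S : Subgroup G) := by
      have := mul_mem (h.set.le hff) hfS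
      rwa [mul_assoc, hf2, mul_one] at this
    have hcomm : ∀ x ∈ (S : Subgroup G), Commute x f ↔ Commute x f' := by
      intro x hx
      have hxa : Commute x (f' * f) := (h.comm_S hx hff).symm
      constructor
      · intro hxf
        have := hxa.mul_right hxf
        rwa [mul_assoc, hf2, mul_one] at this
      · intro hxf
        have := hxf.mul_right hxa
        rwa [← mul_assoc, hf'.1, one_mul] at this
    have hCS' : CS S f' = CS S f := by
      ext x
      exact ⟨fun hx => ⟨hx.1, mem_cen.2 ((hcomm x hx.1).2 (mem_cen.1 hx.2))⟩,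
        fun hx => ⟨hx.1, mem_cen.2 ((hcomm x hx.1).1 (mem_cen.1 hx.2))⟩⟩
    have h8' : Nat.card (CS S f') = 8 := by
      rw [hCS']
      refine le_antisymm ((hD.top.max f hf2 hfC hfA _ (cS_two f) inf_le_right).trans h8.le) ?_
      rw [hfext]; exact h.ext_card hfA
    have htop' : Top S A f' := ⟨hf', hf'S, fun g h1 h2 h3 R hR hRg =>
      (hD.top.max g h1 h2 h3 R hR hRg).trans (h8.trans h8'.symm).le⟩
    have hYN : Y ≤ NS S f' := by
      intro y hy
      refine ⟨hYS hy, ?_⟩
      show y ∈ normalizer (CS S f' : Set G)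
      rw [hCS', ← LEBasic.map_conj_eq_iff_mem_normalizer]
      refine eq_of_le_of_card_ge ?_ (LEBasic.card_map_conj _ _).ge
      have hA' : ∀ a ∈ A, y * a * y⁻¹ = a := fun a ha => by
        rw [← (hD.A_central h ha (hD.Y_le h hY hy)).eq, mul_inv_cancel_right]
      rintro _ ⟨x, hx, rfl⟩
      rw [hfext] at hx ⊢
      show y * x * y⁻¹ ∈ _
      rcases hx with hx | hx
      · rw [hA' x hx]; exact Or.inl hx
      · have e1 : y * x * y⁻¹ = x * f * (y * f * y⁻¹ * f⁻¹) * f := by
          calc y * x * y⁻¹ = (y * (x * f) * y⁻¹) * (y * f⁻¹ * y⁻¹) := by group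
            _ = (x * f) * (y * f * y⁻¹) := by rw [hA' _ hx, hfi]
            _ = _ := by group
        refine Or.inr ?_
        rw [e1, mul_assoc _ f f, hf2, mul_one]
        exact mul_mem hx (htriv y hy)
    have hcf : ∀ y : G, y ∈ Y → y * f' * y⁻¹ * f'⁻¹ = y * f * y⁻¹ * f⁻¹ := by
      intro y hy
      have hf'e : f' = f' * f * f := by rw [mul_assoc, hf2, mul_one]
      have c1 := hD.A_central h hff (hD.Y_le h hY hy)
      calc y * f' * y⁻¹ * f'⁻¹ = y * ((f' * f) * f) * y⁻¹ * ((f' * f) * f)⁻¹ := by rw [← hf'e]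
        _ = (f' * f) * (y * f * y⁻¹ * f⁻¹) * (f' * f)⁻¹ := by
            rw [← mul_assoc y (f' * f) f, ← c1.eq]; group
        _ = _ := by rw [h.comm hff (htriv y hy), mul_inv_cancel_right]
    let θ : ↥Y →* ↥A :=
      { toFun := fun y => ⟨y * f * (y : G)⁻¹ * f⁻¹, htriv y y.2⟩
        map_one' := Subtype.ext (by simp)
        map_mul' := fun x y => Subtype.ext (by
          have c1 := hD.A_central h (htriv y y.2) (hD.Y_le h hY x.2)
          push_cast
          calc (x : G) * y * f * ((x : G) * y)⁻¹ * f⁻¹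
              = (x : G) * ((y : G) * f * (y : G)⁻¹ * f⁻¹) * (x : G)⁻¹ * ((x : G) * f * (x : G)⁻¹ * f⁻¹) := by group
            _ = _ := by rw [← c1.eq, mul_inv_cancel_right, h.comm (htriv y y.2) (htriv x x.2)]) }
    have hker : θ.ker ≤ A.subgroupOf Y := fun y hy => by
      have h1 : (y : G) * f * (y : G)⁻¹ * f⁻¹ = 1 := congrArg Subtype.val (MonoidHom.mem_ker.1 hy)
      rw [mul_inv_eq_one, mul_inv_eq_iff_eq_mul] at h1
      exact hCY _ y.2 h1
    have hsurj : ∀ a ∈ A, ∃ g ∈ NS S f', g * f' * g⁻¹ * f'⁻¹ = a := by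
      intro a ha
      have h1 := θ.ker.card_mul_index
      rw [Subgroup.index_ker, hD.card_Y h hY] at h1
      have h2 : Nat.card θ.ker ≤ 4 := (Subgroup.card_le_of_le hker).trans (by
        rw [Nat.card_congr (subgroupOfEquivOfLe (hD.A_le_Y h hY)).toEquiv, h.card])
      have h3 : Nat.card θ.range ≤ 4 :=
        (Nat.le_of_dvd Nat.card_pos (card_subgroup_dvd_card _)).trans h.card.le
      have h4 : θ.range = ⊤ := Subgroup.eq_top_of_card_eq _ (by rw [h.card]; nlinarith)
      obtain ⟨y, hy⟩ : (⟨a, ha⟩ : ↥A) ∈ θ.range := h4 ▸ mem_top _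
      exact ⟨y, hYN y.2, (hcf y y.2).trans (congrArg Subtype.val hy)⟩
    have hTS' : CS S f' ≠ (S : Subgroup G) := fun e1 => by
      have := Subgroup.card_le_of_le hYS
      rw [← e1, hD.card_Y h hY, h8'] at this
      omega
    obtain ⟨n', hD'⟩ := htop'.exists_deep h hTS' hsurj
    obtain ⟨Y', hY'⟩ := hD'.exists_Y h
    have hYY : Y ≤ Y' := by
      intro y hy
      rcases hD'.NS_mem h h8' hY' (hYN hy) with h1 | h1
      · exact h1
      · refine hD'.A_le_Y h hY' (hD.Y_sq_one h h8 hY hy ?_)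
        have h2 := hD'.inverts h h8' hY' h1
        have hf'2 : f' * f' = 1 := hf'.1
        calc y * y = (y * f') * (f' * (y * f') * f') := by
              rw [show f' * (y * f') * f' = f' * y * (f' * f') by group, hf'2,
                show y * f' * (f' * y * 1) = y * (f' * f') * y by group, hf'2, mul_one]
          _ = 1 := by rw [h2, mul_inv_cancel]
    intro y hy
    have h2 := hD'.inverts h h8' hY' (hYY hy)
    have hc : Commute y (f' * f) := (hD.A_central h hff (hD.Y_le h hY hy)).symm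
    calc f * y * f = f' * ((f' * f) * y * (f' * f)) * f' := by
          rw [show f' * ((f' * f) * y * (f' * f)) * f' = (f' * f') * f * y * (f' * f) * f' by group, hf'.1,
            one_mul, show f * y * (f' * f) * f' = f * y * ((f' * f) * f') by group,
            h.comm_S hf'S hff, ← mul_assoc f', hf'.1, one_mul]
      _ = f' * y * f' := by rw [← hc.eq, mul_assoc y, h.sq hff, mul_one]
      _ = y⁻¹ := h2
  -- so `S = Q`
  have hQS : Q = (S : Subgroup G) := h.eq_S_of_normalizer inf_le_left fun g hgS hg => by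
    refine ⟨hgS, ?_⟩
    show g ∈ normalizer (Y : Set G)
    rw [← LEBasic.map_conj_eq_iff_mem_normalizer]
    refine eq_of_le_of_card_ge ?_ (LEBasic.card_map_conj _ _).ge
    rintro _ ⟨y, hy, rfl⟩
    show g * y * g⁻¹ ∈ Y
    have hgN := h.set.S_le_normalizer hgS
    set f := g⁻¹ * e * g with hf
    have hfQ : f ∈ Q := by
      have := (mem_normalizer_iff.1 (inv_mem hg) e).1 heQ
      rwa [inv_inv] at this
    have hff : f * f = 1 := by
      rw [hf, show g⁻¹ * e * g * (g⁻¹ * e * g) = g⁻¹ * (e * e) * g by group, he2]; group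
    have hfY : f ∉ Y := fun h1 => heA ((h.set.conj_mem_iff (inv_mem hgN)).2 (by
      rw [inv_inv]; exact hD.Y_sq_one h h8 hY h1 hff))
    set y' := g * y * g⁻¹ with hy'
    have hy'S : y' ∈ (S : Subgroup G) := mul_mem (mul_mem hgS (hYS hy)) (inv_mem hgS)
    have hey : e * y' * e = y'⁻¹ := by
      have h1 := hall f hfQ hff hfY y hy
      calc e * y' * e = g * (f * y * f) * g⁻¹ := by rw [hy', hf]; group
        _ = _ := by rw [h1, hy']; group
    have hsq : y' * y' ∈ A := by
      rw [hy', conj_mul]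
      exact (h.set.conj_mem_iff hgN).1 (hD.NS_sq h (hD.Y_le h hY hy))
    have hy'N : y' ∈ NS S e := by
      refine ⟨hy'S, ?_⟩
      show y' ∈ normalizer (CS S e : Set G)
      rw [← LEBasic.map_conj_eq_iff_mem_normalizer]
      refine eq_of_le_of_card_ge ?_ (LEBasic.card_map_conj _ _).ge
      rintro _ ⟨t, ht, rfl⟩
      show y' * t * y'⁻¹ ∈ CS S e
      have hce : y' * e * y'⁻¹ ∈ CS S e := by
        rw [← hey, show y' * e * (e * y' * e) = y' * (e * e) * y' * e by group, he2, mul_one]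
        exact mul_mem (hD.A_le h hsq) hD.top.self_mem
      have hAc : ∀ a ∈ A, y' * a * y'⁻¹ = a := fun a ha => by
        rw [← h.comm_S hy'S ha, mul_inv_cancel_right]
      rcases hD.T_mem h h8 ht with h1 | h1
      · rw [hAc t h1]; exact hD.A_le h h1
      · have e1 : y' * t * y'⁻¹ = (y' * (t * e) * y'⁻¹) * (y' * e * y'⁻¹) := by
          rw [conj_mul, mul_assoc t, he2, mul_one]
        rw [e1, hAc _ h1]
        exact mul_mem (hD.A_le h h1) hce
    rcases hD.NS_mem h h8 hY hy'N with h1 | h1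
    · exact h1
    · refine hD.A_le_Y h hY ?_
      rw [hy', ← h.set.conj_mem_iff hgN]
      refine hD.Y_sq_one h h8 hY hy ?_
      have h2 := hinv h1
      have h3 : y' * y' = 1 := by
        calc y' * y' = (y' * e) * (e * (y' * e) * e) := by
              rw [show e * (y' * e) * e = e * y' * (e * e) by group, he2, mul_one,
                show y' * e * (e * y') = y' * (e * e) * y' by group, he2, mul_one]
          _ = 1 := by rw [h2, mul_inv_cancel]
      rw [hy', conj_mul, conj_eq_one_iff] at h3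
      exact h3
  -- transfer to the stabiliser of a hyperplane
  obtain ⟨y0, hy0, hy0A⟩ : ∃ z ∈ Y, z ∉ A := by
    by_contra hno
    push Not at hno
    have := Subgroup.card_le_of_le (show Y ≤ A from hno)
    rw [hD.card_Y h hY, h.card] at this
    omega
  have hSn : ∀ x ∈ (S : Subgroup G), x * y0 * x⁻¹ ∈ Y := fun x hx =>
    (mem_normalizer_iff.1 (hQS.ge hx).2 y0).1 hy0
  have hχA : ∀ x ∈ (S : Subgroup G), x * y0 * x⁻¹ * y0⁻¹ ∈ A := by
    intro x hx
    refine hD.Y_sq_one h h8 hY (mul_mem (hSn x hx) (inv_mem hy0)) ?_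
    have hc : Commute (x * y0 * x⁻¹) y0⁻¹ :=
      (show Commute (x * y0 * x⁻¹) y0 from hD.Y_comm h hY (hSn x hx) hy0).inv_right
    have hs : x * (y0 * y0) * x⁻¹ = y0 * y0 := by
      rw [← h.comm_S hx (hD.NS_sq h (hD.Y_le h hY hy0)), mul_inv_cancel_right]
    calc x * y0 * x⁻¹ * y0⁻¹ * (x * y0 * x⁻¹ * y0⁻¹)
        = x * y0 * x⁻¹ * (y0⁻¹ * (x * y0 * x⁻¹)) * y0⁻¹ := by group
      _ = x * (y0 * y0) * x⁻¹ * (y0⁻¹ * y0⁻¹) := by rw [← hc.eq]; group
      _ = 1 := by rw [hs]; group
  have hχmul : ∀ x ∈ (S : Subgroup G), ∀ z ∈ (S : Subgroup G),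
      x * z * y0 * (x * z)⁻¹ * y0⁻¹ = (z * y0 * z⁻¹ * y0⁻¹) * (x * y0 * x⁻¹ * y0⁻¹) := by
    intro x hx z hz
    calc x * z * y0 * (x * z)⁻¹ * y0⁻¹
        = x * (z * y0 * z⁻¹ * y0⁻¹) * x⁻¹ * (x * y0 * x⁻¹ * y0⁻¹) := by group
      _ = _ := by rw [← h.comm_S hx (hχA z hz), mul_inv_cancel_right]
  set a0 := e * y0 * e⁻¹ * y0⁻¹ with ha0
  have ha0A : a0 ∈ A := hχA e hD.top.memS
  have ha0e : a0 = (y0 * y0)⁻¹ := by rw [ha0, hei, hinv hy0]; group
  have ha01 : a0 ≠ 1 := fun e1 => hy0A (hD.Y_sq_one h h8 hY hy0 (inv_eq_one.1 (ha0e.symm.trans e1)))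
  obtain ⟨b, hb, hb1, hba⟩ := h.exists_ne a0
  have hzb : ∀ x ∈ zpowers b, x = 1 ∨ x = b := fun x hx => by
    obtain ⟨i, rfl⟩ := mem_zpowers_iff.1 hx
    rcases Int.even_or_odd i with ⟨j, rfl⟩ | ⟨j, rfl⟩
    · exact Or.inl (by rw [← two_mul, zpow_mul, zpow_two, h.sq hb, one_zpow])
    · exact Or.inr (by rw [zpow_add, zpow_mul, zpow_two, h.sq hb, one_zpow, one_mul, zpow_one])
  let M : Subgroup G :=
    { carrier := {x | x ∈ (S : Subgroup G) ∧ x * y0 * x⁻¹ * y0⁻¹ ∈ zpowers b}
      one_mem' := ⟨one_mem _, by simp⟩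
      mul_mem' := fun {x z} hx hz => ⟨mul_mem hx.1 hz.1, by
        rw [hχmul x hx.1 z hz.1]; exact mul_mem hz.2 hx.2⟩
      inv_mem' := fun {x} hx => ⟨inv_mem hx.1, by
        have h1 := hχmul x hx.1 x⁻¹ (inv_mem hx.1)
        rw [mul_inv_cancel, one_mul, inv_one, mul_one, mul_inv_cancel, eq_comm, mul_eq_one_iff_eq_inv] at h1
        rw [h1]
        exact inv_mem hx.2⟩ }
  have hMS : M ≤ (S : Subgroup G) := fun x hx => hx.1
  have heM : e ∉ M := fun h1 => by
    rcases hzb _ h1.2 with e1 | e1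
    exacts [ha01 e1, hba e1.symm]
  obtain ⟨z, hz, hz2, hconj⟩ := ProdFusion.transfer_out (P := S) h.no_normal_two hMS hD.top.memS
    (orderOf_eq_prime (by rw [pow_two, he2]) (Special.ne_one hD.top.spec)) heM (fun x hx => by
      rcases h.cases_four hb ha0A hb1 ha01 hba (hχA x hx) with e1 | e1 | e1 | e1
      · exact Or.inl ⟨hx, by rw [e1]; exact one_mem _⟩
      · exact Or.inl ⟨hx, by rw [e1]; exact mem_zpowers b⟩
      · refine Or.inr ⟨mul_mem hx hD.top.memS, ?_⟩
        rw [hχmul x hx e hD.top.memS, e1, ← ha0, h.sq ha0A]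
        exact one_mem _
      · refine Or.inr ⟨mul_mem hx hD.top.memS, ?_⟩
        rw [hχmul x hx e hD.top.memS, e1, ← ha0, h.comm ha0A (mul_mem hb ha0A), mul_assoc, h.sq ha0A,
          mul_one]
        exact mem_zpowers b)
  have hzz : z * z = 1 := by rw [← pow_two, ← hz2, pow_orderOf_eq_one]
  by_cases hzY : z ∈ Y
  · exact h.not_conj_A hD.top.memS heA (hD.Y_sq_one h h8 hY hzY hzz) hconj
  · have h1 := hall z (hQS.ge (hMS hz)) hzz hzY y0 hy0
    have h2 : z * y0 * z⁻¹ * y0⁻¹ = a0 := by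
      rw [inv_eq_of_mul_eq_one_right hzz, h1, ha0e]; group
    rcases hzb _ hz.2 with e1 | e1
    · exact ha01 (h2.symm.trans e1)
    · exact hba (h2.symm.trans e1).symm

end Deep

end Cfsg.Agent.Gold1169.Two
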