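import Cfsg.Agent.Lib.Gold1169.Two.KOne

/-!
With `|T ⧸ A| = 4`: `Y` is elementary, `T` and `Y` are the two elementary subgroups of order 16 and
`S = N_S(T)`.
-/

set_option autoImplicit false
set_option linter.style.haveILetI false
set_option linter.unusedSectionVars false

namespace Cfsg.Agent.Gold1169.Two

open Subgroup
open Cfsg.Agent.Walter4 (cen cenS ocen cor XB pre CA mem_pre cor_zpowers pre_le)
open Cfsg.Agent.OddDown.CoreSep (q im mem_im)
open scoped commutatorElement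

universe u

attribute [local instance] FittingCores.pPrimeCore_normal

variable {G : Type u} [Group G] [Finite G] {S : Sylow 2 G} {A : Subgroup G}

/-- An involution with centraliser of the largest order may be replaced by a top involution. -/
theorem Top.of_card {e : G} (ht : Top S A e) (h : Ctx S A) {f : G} (hfS : f ∈ (S : Subgroup G))
    (hf2 : f * f = 1) (hfA : f ∉ A) (hc : Nat.card (CS S e) ≤ Nat.card (CS S f)) :
    ∃ f', Top S A f' ∧ CS S f' = CS S f ∧ f' * f ∈ A := by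
  obtain ⟨f', hf', hff⟩ := h.exists_special hf2 (h.S_le hfS) hfA
  have hf'S : f' ∈ (S : Subgroup G) := by
    have := mul_mem (h.set.le hff) hfS
    rwa [mul_assoc, hf2, mul_one] at this
  have hcomm : ∀ x ∈ (S : Subgroup G), Commute x f ↔ Commute x f' := by
    intro x hx
    have hxa : Commute x (f' * f) := (h.comm_S hx hff).symm
    constructor
    · intro hxf
      have := hxa.mul_right hxf
      rwa [mul_assoc, hf2, mul_one] at this
    · intro hxf
      have := hxf.mul_right hxa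
      rwa [← mul_assoc, hf'.1, one_mul] at this
  have hCS' : CS S f' = CS S f := by
    ext x
    exact ⟨fun hx => ⟨hx.1, mem_cen.2 ((hcomm x hx.1).2 (mem_cen.1 hx.2))⟩,
      fun hx => ⟨hx.1, mem_cen.2 ((hcomm x hx.1).1 (mem_cen.1 hx.2))⟩⟩
  exact ⟨f', ⟨hf', hf'S, fun g h1 h2 h3 R hR hRg =>
    (ht.max g h1 h2 h3 R hR hRg).trans (hc.trans_eq (by rw [hCS']))⟩, hCS', hff⟩

namespace Deep

variable {e n : G} (hD : Deep S A e n) (h : Ctx S A) (h16 : Nat.card (CS S e) = 16)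
include hD h h16

theorem card_NS : 64 ≤ Nat.card (NS S e) := by
  let θ : ↥(NS S e) →* ↥A :=
    { toFun := fun g => ⟨g * e * (g : G)⁻¹ * e⁻¹, hD.comm_e_mem h g.2⟩
      map_one' := Subtype.ext (by simp)
      map_mul' := fun x y => Subtype.ext (hD.comm_e_mul h x.2 y.2) }
  have hle : (CS S e).subgroupOf (NS S e) ≤ θ.ker := fun t ht => MonoidHom.mem_ker.2 (Subtype.ext (by
    show (t : G) * e * (t : G)⁻¹ * e⁻¹ = 1
    rw [mem_cen.1 (show (t : G) ∈ CS S e from ht).2, mul_inv_cancel_right, mul_inv_cancel]))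
  have h1 := θ.ker.card_mul_index
  rw [Subgroup.index_ker, MonoidHom.range_eq_top.2 fun a => ?_, card_top, h.card] at h1
  · have h2 := Subgroup.card_le_of_le hle
    rw [Nat.card_congr (subgroupOfEquivOfLe (CS_le_NS e)).toEquiv, h16] at h2
    omega
  · obtain ⟨g, hg, hge⟩ := hD.surj a a.2
    exact ⟨⟨g, hg⟩, Subtype.ext hge⟩

variable {Y : Subgroup G} (hY : (Y : Set G) = YSet S A e n)
include hY

/-- `Y` is elementary. -/
theorem Y_elem {y : G} (hy : y ∈ Y) : y * y = 1 := by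
  rcases hD.Y_type h hY with hall | hinv
  · exact hall y hy
  exfalso
  obtain ⟨y0, hy0, hy0A⟩ : ∃ z ∈ Y, z ∉ A := by
    by_contra hno
    push Not at hno
    have := Subgroup.card_le_of_le (show Y ≤ A from hno)
    rw [hD.card_Y h hY, h.card] at this
    omega
  have hy0N := hD.Y_le h hY hy0
  -- `t ↦ [y0, t]` maps `T` onto `A`
  let θ : ↥(CS S e) →* ↥A :=
    { toFun := fun t => ⟨y0 * t * y0⁻¹ * (t : G)⁻¹, hD.top.NS_triv h hD.lt hy0N t.2⟩
      map_one' := Subtype.ext (by simp)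
      map_mul' := fun s t => Subtype.ext (by
        have hc := hD.A_central h (hD.top.NS_triv h hD.lt hy0N t.2) (CS_le_NS e s.2)
        push_cast
        calc y0 * ((s : G) * t) * y0⁻¹ * ((s : G) * t)⁻¹
            = y0 * s * y0⁻¹ * ((y0 * (t : G) * y0⁻¹ * (t : G)⁻¹) * (s : G)⁻¹) := by group
          _ = _ := by rw [hc.inv_right.eq]; group) }
  have hθ : ∀ a ∈ A, ∃ t ∈ CS S e, y0 * t * y0⁻¹ * t⁻¹ = a := by
    intro a ha
    have h1 := θ.ker.card_mul_index
    rw [Subgroup.index_ker, h16] at h1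
    have hker : θ.ker ≤ A.subgroupOf (CS S e) := fun t htk => by
      by_contra htA
      refine hD.pair h hY hy0 hy0A t.2 htA ?_
      have : y0 * t * y0⁻¹ * (t : G)⁻¹ = 1 := congrArg Subtype.val (MonoidHom.mem_ker.1 htk)
      rwa [mul_inv_eq_one, mul_inv_eq_iff_eq_mul] at this
    have h2 : Nat.card θ.ker ≤ 4 := (Subgroup.card_le_of_le hker).trans (by
      rw [Nat.card_congr (subgroupOfEquivOfLe (hD.A_le h)).toEquiv, h.card])
    have h3 : Nat.card θ.range ≤ 4 :=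
      (Nat.le_of_dvd Nat.card_pos (card_subgroup_dvd_card _)).trans h.card.le
    have h4 : θ.range = ⊤ := Subgroup.eq_top_of_card_eq _ (by rw [h.card]; nlinarith)
    obtain ⟨t, ht⟩ : (⟨a, ha⟩ : ↥A) ∈ θ.range := h4 ▸ mem_top _
    exact ⟨t, t.2, congrArg Subtype.val ht⟩
  obtain ⟨t0, ht0, ht0e⟩ := hθ _ (hD.NS_sq h hy0N)
  obtain ⟨a0, ha0, s0, hs0, hns0, rfl⟩ := hD.T_fixed h ht0
  have hs0e : y0 * s0 * y0⁻¹ * s0⁻¹ = y0 * y0 := by
    rw [← ht0e]
    calc y0 * s0 * y0⁻¹ * s0⁻¹ = (a0 * y0) * s0 * y0⁻¹ * s0⁻¹ * a0⁻¹ := by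
          rw [mul_assoc a0, mul_assoc a0, mul_assoc a0]
          rw [h.comm ha0 (hD.top.NS_triv h hD.lt hy0N hs0), mul_inv_cancel_right]
      _ = _ := by rw [(hD.A_central h ha0 hy0N).eq]; group
  set y1 := n * y0 * n⁻¹ with hy1
  have hy1Y : y1 ∈ Y := hD.n_Y h hY hy0
  have hy1N := hD.Y_le h hY hy1Y
  have hy1e : y1 * y1 = y1 * s0 * y1⁻¹ * s0⁻¹ := hD.sq_eq_comm h hY hs0 hns0 hy0 hy0A hs0e.symm hy1Y
  set c := y1 * y1 with hc
  have hcA : c ∈ A := hD.NS_sq h hy1N
  obtain ⟨s, hs, hse⟩ := hθ c hcA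
  have hne : y1⁻¹ * y0 ∉ A := fun h1 => by
    have hα := hD.comm_e_mem h hy0N
    refine (h.moving_cycle hD.n_norm hD.n_move hα (hD.moves_Y h hY hy0 hy0A)).1 ?_
    rw [← hD.theta_n h, ← hy1]
    have h2 := hD.comm_e_mul h hy1N (hD.A_le_NS h h1)
    rw [mul_inv_cancel_left, mem_cen.1 (hD.A_le h h1).2, mul_inv_cancel_right, mul_inv_cancel,
      mul_one] at h2
    exact h2.symm
  have hT : ∀ {x : G}, x ∈ CS S e → Commute c x := fun hx => hD.A_central h hcA (CS_le_NS e hx)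
  -- `u = y0 s0` is an involution centralised by `w = y1 s`
  set u := y0 * s0 with hu
  set w := y1 * s with hw
  have hu2 : u * u = 1 := by
    have hq := hD.A_central h (hD.NS_sq h hy0N) (hD.Y_le h hY hy0)
    have h1 : y0 * s0 = (y0 * y0) * (s0 * y0) := by rw [← hs0e, hu]; group
    calc u * u = (y0 * y0) * (s0 * (y0 * y0)) * s0 := by
          rw [hu]; nth_rewrite 1 [h1]; group
      _ = (y0 * y0) * (y0 * y0) * (s0 * s0) := by
          rw [← (hD.A_central h (hD.NS_sq h hy0N) (CS_le_NS e hs0)).eq]; group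
      _ = 1 := by rw [hD.T_sq h hs0, h.sq (hD.NS_sq h hy0N), one_mul]
  have hwu : w * u = u * w := by
    have h1 : y1 * s0 = c * (s0 * y1) := by rw [hy1e]; group
    have h2 : s * y0 = c * (y0 * s) := by
      have h3 : y0 * s = c * (s * y0) := by rw [← hse]; group
      rw [h3, ← mul_assoc, h.sq hcA, one_mul]
    calc w * u = y1 * (s * y0) * s0 := by rw [hw, hu]; group
      _ = (y1 * c) * (y0 * (s * s0)) := by rw [h2]; group
      _ = c * (y1 * y0) * (s0 * s) := by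
          rw [(hD.A_central h hcA hy1N).symm.eq, hD.T_comm h hs hs0]; group
      _ = c * y0 * (y1 * s0) * s := by rw [hD.Y_comm h hY hy1Y hy0]; group
      _ = (c * (y0 * c)) * (s0 * y1 * s) := by rw [h1]; group
      _ = u * w := by
          rw [← (hD.A_central h hcA hy0N).eq, ← mul_assoc c, h.sq hcA, one_mul, hu, hw]; group
  have hw1 : w * w ≠ 1 := by
    intro h1
    set d := s * y1 * s⁻¹ * y1⁻¹ with hd
    have hdA : d ∈ A := hD.NS_comm h (CS_le_NS e hs) hy1N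
    have h2 : w * w = d * c := by
      calc w * w = y1 * (d * y1) * (s * s) := by rw [hw, hd]; group
        _ = d * c := by
          rw [hD.T_sq h hs, mul_one, ← mul_assoc, ← (hD.A_central h hdA hy1N).eq, mul_assoc, ← hc]
    rw [h1] at h2
    have h3 : y1 * s * y1⁻¹ * s⁻¹ = y1 * s0 * y1⁻¹ * s0⁻¹ := by
      calc y1 * s * y1⁻¹ * s⁻¹ = d⁻¹ := by rw [hd]; group
        _ = c := by rw [eq_inv_of_mul_eq_one_left h2.symm, inv_inv]
        _ = _ := hy1e
    have hsA : s * s0 ∈ A := by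
      by_contra hA
      refine hD.pair h hY hy1Y (fun h4 => hne ?_) (mul_mem hs hs0) hA ?_
      · exfalso
        have h5 := hD.theta_n h (g := y0)
        rw [← hy1, mem_cen.1 (hD.A_le h h4).2, mul_inv_cancel_right, mul_inv_cancel] at h5
        exact hD.moves_Y h hY hy0 hy0A (conj_eq_one_iff.1 h5.symm)
      · have h6 : y1 * (s * s0) * y1⁻¹ * (s * s0)⁻¹ = 1 := by
          have c1 := hD.A_central h (hD.top.NS_triv h hD.lt hy1N hs0) (CS_le_NS e hs)
          calc y1 * (s * s0) * y1⁻¹ * (s * s0)⁻¹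
              = y1 * s * y1⁻¹ * ((y1 * s0 * y1⁻¹ * s0⁻¹) * s⁻¹) := by group
            _ = (y1 * s * y1⁻¹ * s⁻¹) * (y1 * s0 * y1⁻¹ * s0⁻¹) := by rw [c1.inv_right.eq]; group
            _ = 1 := by rw [h3, h.sq (hD.top.NS_triv h hD.lt hy1N hs0)]
        rwa [mul_inv_eq_one, mul_inv_eq_iff_eq_mul] at h6
    -- then the squares of `y0` and `y1` agree
    have h7 : y0 * y0 = c := by
      rw [← hse, ← hs0e]
      have e1 : s = (s * s0) * s0 := by rw [mul_assoc, hD.T_sq h hs0, mul_one]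
      have c1 := hD.A_central h hsA hy0N
      calc y0 * s0 * y0⁻¹ * s0⁻¹ = (s * s0) * (y0 * s0 * y0⁻¹ * s0⁻¹) * (s * s0)⁻¹ := by
            rw [h.comm hsA (hD.top.NS_triv h hD.lt hy0N hs0), mul_inv_cancel_right]
        _ = y0 * ((s * s0) * s0) * y0⁻¹ * ((s * s0) * s0)⁻¹ := by
            rw [← mul_assoc y0 (s * s0), ← c1.eq]; group
        _ = _ := by rw [← e1]
    refine hne (hinv _ (mul_mem (inv_mem hy1Y) hy0) ?_)
    calc y1⁻¹ * y0 * (y1⁻¹ * y0) = y1⁻¹ * (y0 * y1⁻¹) * y0 := by group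
      _ = (y1 * y1)⁻¹ * (y0 * y0) := by rw [hD.Y_comm h hY hy0 (inv_mem hy1Y)]; group
      _ = 1 := by rw [h7, ← hc, inv_mul_cancel]
  have huA : u ∉ A := fun h1 => hy0A (hD.Y_T h hY hy0 (by
    have := mul_mem (hD.A_le h h1) hs0
    rwa [hu, mul_assoc, hD.T_sq h hs0, mul_one] at this))
  have huS : u ∈ (S : Subgroup G) := mul_mem hy0N.1 hs0.1
  have hwE : w ∉ ext A u hu2 (h.S_le huS) := by
    rintro (h1 | h1)
    · refine hw1 ?_
      exact h.sq h1
    · refine hne ?_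
      have h2 := hD.comm_e_mul h (mul_mem hy1N (CS_le_NS e hs)) (mul_mem hy0N (CS_le_NS e hs0))
      have hz : y1 * s * (y0 * s0) * e * (y1 * s * (y0 * s0))⁻¹ * e⁻¹ = 1 := by
        rw [show y1 * s * (y0 * s0) * e = e * (y1 * s * (y0 * s0)) from mem_cen.1 (hD.A_le h h1).2,
          mul_inv_cancel_right, mul_inv_cancel]
      rw [hz, hD.comm_e_mul h hy1N (CS_le_NS e hs), hD.comm_e_mul h hy0N (CS_le_NS e hs0),
        mem_cen.1 hs.2, mem_cen.1 hs0.2] at h2
      simp only [mul_inv_cancel_right, mul_inv_cancel, mul_one] at h2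
      refine hD.theta_Y h hY (mul_mem (inv_mem hy1Y) hy0) ?_
      have h3 := hD.comm_e_mul h hy1N (hD.Y_le h hY (mul_mem (inv_mem hy1Y) hy0))
      rw [mul_inv_cancel_left] at h3
      rw [h3, ← mul_assoc, h.sq (hD.comm_e_mem h hy1N), one_mul] at h2
      exact h2.symm
  have hwS : w ∈ CS S u := ⟨mul_mem hy1N.1 hs.1, mem_cen.2 hwu⟩
  have h16u : Nat.card (CS S e) ≤ Nat.card (CS S u) := by
    rw [h16]
    have hle := h.ext_le_CS (hf2 := hu2) (hfC := h.S_le huS) huS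
    set E := ext A u hu2 (h.S_le huS)
    have h1 := (E.subgroupOf (CS S u)).card_mul_index
    rw [Nat.card_congr (subgroupOfEquivOfLe hle).toEquiv] at h1
    have h2 : (E.subgroupOf (CS S u)).index ≠ 1 := fun e1 =>
      hwE ((subgroupOf_eq_top.1 (index_eq_one.1 e1)) hwS)
    have h3 := Subgroup.index_ne_zero_of_finite (H := E.subgroupOf (CS S u))
    rw [← h1]
    exact le_trans (by norm_num) (Nat.mul_le_mul (h.ext_card huA : 8 ≤ Nat.card E)
      (show 2 ≤ (E.subgroupOf (CS S u)).index by omega))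
  obtain ⟨u', htop', hCS', -⟩ := hD.top.of_card h huS hu2 huA h16u
  have hlt' : CS S u' ≠ (S : Subgroup G) := fun e1 => by
    have h1 := hD.top.max u hu2 (h.S_le huS) huA (CS S u) (cS_two u) inf_le_right
    have h2 := Subgroup.card_le_of_le (show NS S e ≤ (S : Subgroup G) from inf_le_left)
    rw [← e1, hCS'] at h2
    have := hD.card_NS h h16
    omega
  exact hw1 (htop'.elem h hlt' (hCS' ▸ hwS))

theorem CS_eq_Y {y : G} (hy : y ∈ Y) (hyA : y ∉ A) : CS S y = Y := by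
  have hle : Y ≤ CS S y := fun x hx =>
    ⟨(hD.Y_le h hY hx).1, mem_cen.2 (hD.Y_comm h hY hx hy)⟩
  refine (eq_of_le_of_card_ge hle ?_).symm
  rw [hD.card_Y h hY]
  exact (hD.top.max y (hD.Y_elem h h16 hY hy) (hD.NS_cenA h (hD.Y_le h hY hy)) hyA _ (cS_two y)
    inf_le_right).trans h16.le

/-- The involutions of `N` lie in `T` or `Y`. -/
theorem invol_mem {x : G} (hx : x ∈ NS S e) (hxx : x * x = 1) : x ∈ CS S e ∨ x ∈ Y := by
  obtain ⟨y, hy, t, ht, rfl⟩ := hD.decomp h hY hx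
  by_cases hyA : y ∈ A
  · exact Or.inl (mul_mem (hD.A_le h hyA) ht)
  by_cases htA : t ∈ A
  · exact Or.inr (mul_mem hy (hD.A_le_Y h hY htA))
  refine absurd ?_ (hD.pair h hY hy hyA ht htA)
  have hyi : y⁻¹ = y := inv_eq_of_mul_eq_one_right (hD.Y_elem h h16 hY hy)
  have := inv_eq_of_mul_eq_one_right hxx
  rw [mul_inv_rev, hyi, hD.T_inv h ht] at this
  exact this.symm

/-- An elementary subgroup of order 16 of `N` is `T` or `Y`. -/
theorem ea_eq {F : Subgroup G} (hF : F ≤ NS S e) (hF2 : ∀ x ∈ F, x * x = 1) (hFc : 16 ≤ Nat.card F) :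
    F = CS S e ∨ F = Y := by
  by_cases hT : F ≤ CS S e
  · exact Or.inl (eq_of_le_of_card_ge hT (by rw [h16]; exact hFc))
  refine Or.inr (eq_of_le_of_card_ge (fun x hx => ?_) (by rw [hD.card_Y h hY]; exact hFc))
  obtain ⟨z, hz, hzT⟩ := SetLike.not_le_iff_exists.1 hT
  have hzY := (hD.invol_mem h h16 hY (hF hz) (hF2 z hz)).resolve_left hzT
  by_contra hxY
  have hxT := (hD.invol_mem h h16 hY (hF hx) (hF2 x hx)).resolve_right hxY
  rcases hD.invol_mem h h16 hY (hF (mul_mem hz hx)) (hF2 _ (mul_mem hz hx)) with h1 | h1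
  · exact hzT (by have := mul_mem h1 (inv_mem hxT); rwa [mul_inv_cancel_right] at this)
  · exact hxY (by have := mul_mem (inv_mem hzY) h1; rwa [inv_mul_cancel_left] at this)

omit h16 hY in
/-- The conjugate of a subgroup fixing `A`. -/
theorem card_image (g : G) (H : Subgroup G) :
    Nat.card (H.map (MulAut.conj g).toMonoidHom) = Nat.card H := LEBasic.card_map_conj H g

/-- An element normalising `N` and `A` fixes or exchanges `T` and `Y`. -/
theorem swap {g : G} (hgA : g ∈ normalizer (A : Set G)) (hgN : g ∈ normalizer (NS S e : Set G)) :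
    (∀ t ∈ CS S e, g * t * g⁻¹ ∈ CS S e) ∨
      ((∀ t ∈ CS S e, g * t * g⁻¹ ∈ Y) ∧ ∀ y ∈ Y, g * y * g⁻¹ ∈ CS S e) := by
  have key : ∀ H : Subgroup G, H ≤ NS S e → (∀ x ∈ H, x * x = 1) → 16 ≤ Nat.card H →
      H.map (MulAut.conj g).toMonoidHom = CS S e ∨ H.map (MulAut.conj g).toMonoidHom = Y := by
    intro H hH hH2 hHc
    refine hD.ea_eq h h16 hY ?_ ?_ (hHc.trans_eq (hD.card_image h g H).symm)
    · rintro _ ⟨x, hx, rfl⟩
      exact (mem_normalizer_iff.1 hgN x).1 (hH hx)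
    · rintro _ ⟨x, hx, rfl⟩
      show g * x * g⁻¹ * (g * x * g⁻¹) = 1
      rw [conj_mul, hH2 x hx, mul_one, mul_inv_cancel]
  rcases key _ (CS_le_NS e) (fun x hx => hD.T_sq h hx) h16.ge with e1 | e1
  · exact Or.inl fun t ht => e1 ▸ mem_map_of_mem _ ht
  refine Or.inr ⟨fun t ht => e1 ▸ mem_map_of_mem _ ht, fun y hy => ?_⟩
  rcases key _ (hD.Y_le h hY) (fun x hx => hD.Y_elem h h16 hY hx) (hD.card_Y h hY).ge with e2 | e2
  · exact e2 ▸ mem_map_of_mem _ hy
  exfalso
  have h3 : CS S e = Y := map_injective (MulAut.conj g).injective (e1.trans e2.symm)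
  exact hD.top.spec.2.2.1 (hD.Y_T h hY (h3 ▸ hD.top.self_mem) hD.top.self_mem)

omit hY in
/-- `S = N_S(T)`. -/
theorem NS_eq_S : NS S e = (S : Subgroup G) := by
  haveI : Fact (Nat.Prime 2) := ⟨Nat.prime_two⟩
  obtain ⟨Y, hY⟩ := hD.exists_Y h
  set T := CS S e with hTdef
  set N := NS S e with hNdef
  by_contra hne
  set S1 : Subgroup G := (S : Subgroup G) ⊓ normalizer (N : Set G) with hS1
  obtain ⟨g0, hg0, hg0N⟩ : ∃ g ∈ S1, g ∉ N := by
    by_contra hno
    push Not at hno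
    exact hne (h.eq_S_of_normalizer inf_le_left fun g hgS hg => hno g ⟨hgS, hg⟩)
  have hgA : ∀ g ∈ (S : Subgroup G), g ∈ normalizer (A : Set G) := fun g hg => h.set.S_le_normalizer hg
  have hfix : ∀ g ∈ S1, (∀ t ∈ T, g * t * g⁻¹ ∈ T) → g ∈ N := fun g hg hgT => by
    refine ⟨hg.1, ?_⟩
    show g ∈ normalizer (T : Set G)
    rw [← LEBasic.map_conj_eq_iff_mem_normalizer]
    refine eq_of_le_of_card_ge ?_ (LEBasic.card_map_conj _ _).ge
    rintro _ ⟨t, ht, rfl⟩
    exact hgT t ht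
  have hout : ∀ g ∈ S1, g ∉ N →
      (∀ t ∈ T, g * t * g⁻¹ ∈ Y) ∧ ∀ y ∈ Y, g * y * g⁻¹ ∈ T := fun g hg hgN' =>
    (hD.swap h h16 hY (hgA g hg.1) hg.2).resolve_left fun h1 => hgN' (hfix g hg h1)
  have hprod : ∀ x ∈ S1, x ∉ N → ∀ z ∈ S1, z ∉ N → x * z ∈ N := fun x hx hxN z hz hzN =>
    hfix _ (mul_mem hx hz) fun t ht => by
      rw [show x * z * t * (x * z)⁻¹ = x * (z * t * z⁻¹) * x⁻¹ by group]
      exact (hout x hx hxN).2 _ ((hout z hz hzN).1 t ht)
  -- elementary subgroups of order 16 through `A`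
  have hEA : ∀ F : Subgroup G, F ≤ S1 → (∀ x ∈ F, x * x = 1) → (∀ x ∈ F, ∀ z ∈ F, x * z = z * x) →
      A ≤ F → 16 ≤ Nat.card F → F ≤ N := by
    intro F hF hF2 hFc hAF hF16 x hx
    by_contra hxN
    obtain ⟨f, hf, hfN, hfA⟩ : ∃ f ∈ F, f ∈ N ∧ f ∉ A := by
      by_contra hno
      push Not at hno
      have hsub : (F : Set G) ⊆ (A : Set G) ∪ (fun a => x * a) '' (A : Set G) := by
        intro z hz
        by_cases hzN : z ∈ N
        · exact Or.inl (hno z hz hzN)
        · exact Or.inr ⟨x * z, hno _ (mul_mem hx hz) (hprod x (hF hx) hxN z (hF hz) hzN),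
            show x * (x * z) = z by rw [← mul_assoc, hF2 x hx, one_mul]⟩
      have := (Set.ncard_le_ncard hsub).trans ((Set.ncard_union_le _ _).trans
        (add_le_add le_rfl (Set.ncard_image_le (Set.toFinite _))))
      rw [← Nat.card_coe_set_eq, ← Nat.card_coe_set_eq, SetLike.coe_sort_coe, SetLike.coe_sort_coe,
        h.card] at this
      omega
    have hxCS : x ∈ CS S f := ⟨(hF hx).1, mem_cen.2 (hFc x hx f hf)⟩
    rcases hD.invol_mem h h16 hY hfN (hF2 f hf) with h1 | h1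
    · rw [hD.top.cS_eq h hD.lt h1 hfA] at hxCS
      exact hxN (CS_le_NS e hxCS)
    · rw [hD.CS_eq_Y h h16 hY h1 hfA] at hxCS
      exact hxN (hD.Y_le h hY hxCS)
  have hNS1 : N ≤ S1 := _root_.le_inf inf_le_left le_normalizer
  have hnorm : ∀ g : G, g ∈ normalizer (A : Set G) → (∀ x ∈ N, g * x * g⁻¹ ∈ S1) →
      g ∈ normalizer (N : Set G) := by
    intro g hgA' hg
    have key : ∀ H : Subgroup G, H ≤ N → (∀ x ∈ H, x * x = 1) → (∀ x ∈ H, ∀ z ∈ H, x * z = z * x) →
        A ≤ H → 16 ≤ Nat.card H → ∀ x ∈ H, g * x * g⁻¹ ∈ N := by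
      intro H hH hH2 hHc hAH hH16 x hx
      refine hEA (H.map (MulAut.conj g).toMonoidHom) ?_ ?_ ?_ ?_ ?_ ⟨x, hx, rfl⟩
      · rintro _ ⟨z, hz, rfl⟩; exact hg z (hH hz)
      · rintro _ ⟨z, hz, rfl⟩
        show g * z * g⁻¹ * (g * z * g⁻¹) = 1
        rw [conj_mul, hH2 z hz, mul_one, mul_inv_cancel]
      · rintro _ ⟨z, hz, rfl⟩ _ ⟨z', hz', rfl⟩
        show g * z * g⁻¹ * (g * z' * g⁻¹) = g * z' * g⁻¹ * (g * z * g⁻¹)
        rw [conj_mul, conj_mul, hHc z hz z' hz']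
      · intro a ha
        refine ⟨g⁻¹ * a * g, hAH ((h.set.conj_mem_iff hgA').2 ?_), ?_⟩
        · rwa [show g * (g⁻¹ * a * g) * g⁻¹ = a by group]
        · show g * (g⁻¹ * a * g) * g⁻¹ = a
          group
      · rw [LEBasic.card_map_conj]; exact hH16
    rw [← LEBasic.map_conj_eq_iff_mem_normalizer]
    refine eq_of_le_of_card_ge ?_ (LEBasic.card_map_conj _ _).ge
    rintro _ ⟨x, hx, rfl⟩
    obtain ⟨y, hy, t, ht, rfl⟩ := hD.decomp h hY hx
    show g * (y * t) * g⁻¹ ∈ N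
    rw [← conj_mul]
    exact mul_mem (key Y (hD.Y_le h hY) (fun z hz => hD.Y_elem h h16 hY hz)
      (fun z hz z' hz' => hD.Y_comm h hY hz hz') (hD.A_le_Y h hY) (hD.card_Y h hY).ge y hy)
      (key T (CS_le_NS e) (fun z hz => hD.T_sq h hz) (fun z hz z' hz' => hD.T_comm h hz hz')
        (hD.A_le h) h16.ge t ht)
  have hS1 : S1 = (S : Subgroup G) := h.eq_S_of_normalizer inf_le_left fun g hgS hg =>
    ⟨hgS, hnorm g (hgA g hgS) fun x hx => (mem_normalizer_iff.1 hg x).1 (hNS1 hx)⟩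
  -- an element normalising `S` and `N` moving `A`
  obtain ⟨m, hmA, hmm, hmS⟩ : ∃ m ∈ normalizer (A : Set G), m ∉ centralizer (A : Set G) ∧
      ∀ x ∈ (S : Subgroup G), m * x * m⁻¹ ∈ (S : Subgroup G) := by
    set C := centralizer (A : Set G) with hC
    have hconjS : (S : Subgroup G).map (MulAut.conj n).toMonoidHom ≤ C := by
      rintro _ ⟨x, hx, rfl⟩
      refine mem_centralizer_iff.2 fun a ha => ?_
      have hb : n⁻¹ * a * n ∈ A := (h.set.conj_mem_iff hD.n_norm).2 (by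
        rwa [show n * (n⁻¹ * a * n) * n⁻¹ = a by group])
      show a * (n * x * n⁻¹) = n * x * n⁻¹ * a
      calc a * (n * x * n⁻¹) = n * ((n⁻¹ * a * n) * x) * n⁻¹ := by group
        _ = n * (x * (n⁻¹ * a * n)) * n⁻¹ := by rw [h.comm_S hx hb]
        _ = n * x * n⁻¹ * a := by group
    obtain ⟨Q, hQ⟩ := ((S.isPGroup'.map (MulAut.conj n).toMonoidHom).comap_of_injective C.subtype
      C.subtype_injective : IsPGroup 2 (((S : Subgroup G).map (MulAut.conj n).toMonoidHom).subgroupOf C)).exists_le_sylow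
    obtain ⟨c, hc⟩ := MulAction.exists_smul_eq ↥C Q (S.subtype h.S_le)
    refine ⟨(c : G) * n, mul_mem (centralizer_le_normalizer _ c.2) hD.n_norm, fun h1 => hD.n_move (by
      have := mul_mem (inv_mem c.2) h1
      rwa [inv_mul_cancel_left] at this), fun x hx => ?_⟩
    have h1 : n * x * n⁻¹ ∈ (S : Subgroup G).map (MulAut.conj n).toMonoidHom := ⟨x, hx, rfl⟩
    have h2 : c * ⟨n * x * n⁻¹, hconjS h1⟩ * c⁻¹ ∈ ((S.subtype h.S_le : Sylow 2 ↥C) : Subgroup ↥C) := by
      rw [← hc, Sylow.coe_subgroup_smul]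
      exact ⟨_, hQ h1, rfl⟩
    rw [Sylow.coe_subtype] at h2
    have h3 : (c : G) * (n * x * n⁻¹) * (c : G)⁻¹ ∈ (S : Subgroup G) := h2
    rwa [show (c : G) * n * x * ((c : G) * n)⁻¹ = (c : G) * (n * x * n⁻¹) * (c : G)⁻¹ by group]
  have hmN : m ∈ normalizer (N : Set G) := hnorm m hmA fun x hx => hS1.ge (hmS x hx.1)
  have hS1' : ∀ x ∈ (S : Subgroup G), x ∈ S1 := fun x hx => hS1.ge hx
  -- an element outside `N` with square in `A`
  obtain ⟨g, hg, hgN', hgg⟩ : ∃ g ∈ S1, g ∉ N ∧ g * g ∈ A := by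
    obtain ⟨y, hy, r, hr, hyr⟩ := hD.decomp h hY (hprod g0 hg0 hg0N g0 hg0 hg0N)
    obtain ⟨hTY, hYT⟩ := hout g0 hg0 hg0N
    set r' := g0 * r * g0⁻¹ with hr'
    have hr'Y : r' ∈ Y := hTY r hr
    set y' := g0 * y * g0⁻¹ with hy'
    have hy'T : y' ∈ T := hYT y hy
    have e1 : y * r = y' * r' := by
      rw [hy', hr', conj_mul, ← hyr]; group
    have hyr' : r'⁻¹ * y ∈ A := by
      obtain ⟨a, ha, e2⟩ := hD.swap_mod h (CS_le_NS e hy'T) (hD.Y_le h hY hr'Y)
      have hc := hD.A_central h ha (hD.Y_le h hY (inv_mem hr'Y))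
      have e3 : r'⁻¹ * y = a * (y' * r⁻¹) := by
        calc r'⁻¹ * y = r'⁻¹ * (y * r) * r⁻¹ := by group
          _ = (r'⁻¹ * a) * (r' * y') * r⁻¹ := by rw [e1, e2]; group
          _ = a * (y' * r⁻¹) := by rw [← hc.eq]; group
      refine hD.Y_T h hY (mul_mem (inv_mem hr'Y) hy) ?_
      rw [e3]
      exact mul_mem (hD.A_le h ha) (mul_mem hy'T (inv_mem hr))
    refine ⟨g0 * r, mul_mem hg0 (hNS1 (CS_le_NS e hr)), fun h1 => hg0N ?_, ?_⟩
    · have := mul_mem h1 (inv_mem (CS_le_NS e hr))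
      rwa [mul_inv_cancel_right] at this
    · have e4 : g0 * r * (g0 * r) = r' * (y * r) * r := by rw [hr', ← hyr]; group
      rw [e4, mul_assoc, mul_assoc y, hD.T_sq h hr, mul_one,
        show r' * y = r' * r' * (r'⁻¹ * y) by group, hD.Y_elem h h16 hY hr'Y, one_mul]
      exact hyr'
  obtain ⟨hTY, hYT⟩ := hout g hg hgN'
  -- the elements outside `N` with square in `A`
  have hform : ∀ x ∈ S1, x ∉ N → x * x ∈ A → ∃ t ∈ T, ∃ b ∈ A, x = t * g * t * b := by
    intro x hx hxN hxx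
    have hu : g⁻¹ * x ∈ N := by
      refine hprod g⁻¹ (inv_mem hg) (fun h1 => hgN' ?_) x hx hxN
      simpa using inv_mem h1
    set u := g⁻¹ * x with hu'
    obtain ⟨y, hy, t, ht, hut⟩ := hD.decomp h hY hu
    have hgt : g * t * g⁻¹ ∈ Y := hTY t ht
    -- `g u g⁻¹` and `u` agree modulo `A`
    have h1 : g * u * g⁻¹ * u ∈ A := by
      have e1 : x * x = g * u * g⁻¹ * (g * g) * u := by rw [hu']; group
      rw [e1] at hxx
      have c1 := hD.A_central h hgg hu
      rw [mul_assoc, c1.eq, ← mul_assoc] at hxx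
      have := mul_mem hxx (inv_mem hgg)
      rwa [mul_inv_cancel_right] at this
    have hb0 : (g * t * g⁻¹)⁻¹ * y ∈ A := by
      obtain ⟨a1, ha1, e2⟩ := hD.swap_mod h (CS_le_NS e (hYT y hy)) (hD.Y_le h hY hgt)
      have hya : g * u * g⁻¹ * u = a1 * ((g * t * g⁻¹) * ((g * y * g⁻¹) * y) * t) := by
        rw [hut]
        calc g * (y * t) * g⁻¹ * (y * t) = (g * y * g⁻¹) * (g * t * g⁻¹) * (y * t) := by group
          _ = _ := by rw [e2]; group
      obtain ⟨a2, ha2, e3⟩ := hD.swap_mod h (CS_le_NS e (hYT y hy)) (hD.Y_le h hY hy)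
      set z := (g * t * g⁻¹) * y with hz
      have hzT : z ∈ T := by
        have c2 := hD.A_central h ha2 (hD.Y_le h hY hgt)
        have e4 : g * u * g⁻¹ * u = a1 * (a2 * z * ((g * y * g⁻¹) * t)) := by
          rw [hya, e3, hz, ← mul_assoc (g * t * g⁻¹) a2, ← c2.eq]; group
        rw [e4] at h1
        have h5 : a2 * z * ((g * y * g⁻¹) * t) ∈ A := by
          have := mul_mem (inv_mem ha1) h1
          rwa [inv_mul_cancel_left] at this
        have h6 : a2 * z ∈ T := by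
          have := mul_mem (hD.A_le h h5) (inv_mem (mul_mem (hYT y hy) ht))
          rwa [mul_inv_cancel_right] at this
        have := mul_mem (inv_mem (hD.A_le h ha2)) h6
        rwa [inv_mul_cancel_left] at this
      rw [inv_eq_of_mul_eq_one_right (hD.Y_elem h h16 hY hgt)]
      exact hD.Y_T h hY (mul_mem hgt hy) hzT
    set b0 := (g * t * g⁻¹)⁻¹ * y with hb0def
    refine ⟨t, ht, b0, hb0, ?_⟩
    have hgi : g⁻¹ = g * (g * g) := by
      rw [inv_eq_iff_mul_eq_one, show g * (g * (g * g)) = (g * g) * (g * g) by group, h.sq hgg]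
    have c3 := hD.A_central h hb0 (CS_le_NS e ht)
    have c4 : Commute (g * g) t := hD.A_central h hgg (CS_le_NS e ht)
    calc x = g * (y * t) := by rw [← hut, hu', mul_inv_cancel_left]
      _ = g * (g * t * g⁻¹) * (b0 * t) := by rw [hb0def]; group
      _ = (g * g) * t * g⁻¹ * (t * b0) := by rw [c3.eq]; group
      _ = t * ((g * g) * g⁻¹) * (t * b0) := by rw [c4.eq]; group
      _ = _ := by group
  have hsq : ∀ x ∈ S1, x ∉ N → x * x ∈ A → x * x = g * g := by
    intro x hx hxN hxx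
    obtain ⟨t, ht, b, hb, rfl⟩ := hform x hx hxN hxx
    have htgt : t * g * t ∈ (S : Subgroup G) := mul_mem (mul_mem ht.1 hg.1) ht.1
    calc t * g * t * b * (t * g * t * b) = t * g * t * (b * (t * g * t)) * b := by group
      _ = (t * g * t) * (t * g * t) * (b * b) := by rw [h.comm_S htgt hb]; group
      _ = t * (g * (t * t) * g) * t := by rw [h.sq hb]; group
      _ = g * g := by
          rw [hD.T_sq h ht, mul_one, ← (hD.A_central h hgg (CS_le_NS e ht)).eq, mul_assoc,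
            hD.T_sq h ht, mul_one]
  have hg2 : g * g = 1 := by
    by_contra h1
    refine (h.moving_cycle hmA hmm hgg h1).1 ?_
    have hxS : m * g * m⁻¹ ∈ (S : Subgroup G) := hmS g hg.1
    have hxN : m * g * m⁻¹ ∉ N := fun h2 => hgN' ((mem_normalizer_iff.1 hmN g).2 h2)
    have := hsq _ (hS1' _ hxS) hxN (by rw [conj_mul]; exact (h.set.conj_mem_iff hmA).1 hgg)
    rwa [conj_mul] at this
  have hgA' : g ∉ A := fun h1 => hgN' (hD.A_le_NS h h1)
  -- `g` is conjugate into `T` by an element of `C(A)`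
  obtain ⟨z, hz, hz2, hconj⟩ := ProdFusion.transfer_out (P := S) h.no_normal_two
    (inf_le_left : N ≤ (S : Subgroup G)) hg.1
    (orderOf_eq_prime (by rw [pow_two, hg2]) fun e1 => hgA' (e1 ▸ one_mem A)) hgN' (fun x hx => by
      by_cases hxN : x ∈ N
      · exact Or.inl hxN
      · exact Or.inr (hprod x (hS1' x hx) hxN g hg hgN'))
  have hzz : z * z = 1 := by rw [← pow_two, ← hz2, pow_orderOf_eq_one]
  obtain ⟨c, hc, hct⟩ : ∃ c ∈ centralizer (A : Set G), c * g * c⁻¹ ∈ T := by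
    obtain ⟨k, hk⟩ := isConj_iff.1 hconj
    obtain ⟨n1, hn1, he1⟩ := h.set.control {g} (fun y hy => by obtain rfl := hy; exact hg.1) (g := k)
      (fun y hy => by obtain rfl := hy; rw [hk]; exact hz.1)
    obtain ⟨i, hi⟩ := h.exists_pow_mul hmA hmm hn1
    set c := (m ^ i)⁻¹ * n1 with hc
    have hw : c * g * c⁻¹ = (m ^ i)⁻¹ * z * m ^ i := by
      rw [← hk, he1 g rfl, hc]; group
    have hwN : c * g * c⁻¹ ∈ N := by
      rw [hw]
      have := (mem_normalizer_iff.1 (inv_mem (pow_mem hmN i)) z).1 hz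
      rwa [inv_inv] at this
    rcases hD.invol_mem h h16 hY hwN (by rw [conj_mul, hg2, mul_one, mul_inv_cancel]) with h1 | h1
    · exact ⟨c, hi, h1⟩
    · refine ⟨g * c, mul_mem (h.S_le hg.1) hi, ?_⟩
      rw [show g * c * g * (g * c)⁻¹ = g * (c * g * c⁻¹) * g⁻¹ by group]
      exact hYT _ h1
  set t2 := c * g * c⁻¹ with ht2
  have hcA : ∀ a ∈ A, c * a * c⁻¹ = a := fun a ha => by
    rw [← mem_centralizer_iff.1 hc a ha, mul_inv_cancel_right]
  have ht2A : t2 ∉ A := fun h1 => hgA' (by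
    have e1 : g = c⁻¹ * t2 * c⁻¹⁻¹ := by rw [ht2]; group
    rw [e1]
    have := (h.set.conj_mem_iff (inv_mem (centralizer_le_normalizer _ hc))).1 h1
    exact this)
  let H : Subgroup G :=
    { carrier := {x | x ∈ centralizer (A : Set G) ∧ x * t2 * x⁻¹ * t2⁻¹ ∈ A}
      one_mem' := ⟨one_mem _, by simp⟩
      mul_mem' := fun {x z} hx hz => ⟨mul_mem hx.1 hz.1, by
        rw [show x * z * t2 * (x * z)⁻¹ * t2⁻¹ =
          x * (z * t2 * z⁻¹ * t2⁻¹) * x⁻¹ * (x * t2 * x⁻¹ * t2⁻¹) by group,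
          ← mem_centralizer_iff.1 hx.1 _ hz.2, mul_inv_cancel_right]
        exact mul_mem hz.2 hx.2⟩
      inv_mem' := fun {x} hx => ⟨inv_mem hx.1, by
        rw [show x⁻¹ * t2 * x⁻¹⁻¹ * t2⁻¹ = (x⁻¹ * (x * t2 * x⁻¹ * t2⁻¹) * x⁻¹⁻¹)⁻¹ by group,
          ← mem_centralizer_iff.1 (inv_mem hx.1) _ hx.2, mul_inv_cancel_right]
        exact inv_mem hx.2⟩ }
  have hNH : N ≤ H := fun x hx => ⟨hD.NS_cenA h hx, hD.top.NS_triv h hD.lt hx hct⟩
  have hR64 : ∀ R : Subgroup G, IsPGroup 2 R → R ≤ H → Nat.card R ≤ 64 := by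
    intro R hR hRH
    let φ : ↥R →* ↥A :=
      { toFun := fun x => ⟨x * t2 * (x : G)⁻¹ * t2⁻¹, (hRH x.2).2⟩
        map_one' := Subtype.ext (by simp)
        map_mul' := fun x z => Subtype.ext (by
          push_cast
          rw [show (x : G) * z * t2 * ((x : G) * z)⁻¹ * t2⁻¹ =
            (x : G) * ((z : G) * t2 * (z : G)⁻¹ * t2⁻¹) * (x : G)⁻¹ * ((x : G) * t2 * (x : G)⁻¹ * t2⁻¹)
            by group, ← mem_centralizer_iff.1 (hRH x.2).1 _ (hRH z.2).2, mul_inv_cancel_right,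
            h.comm (hRH z.2).2 (hRH x.2).2]) }
    have h1 := φ.ker.card_mul_index
    rw [Subgroup.index_ker] at h1
    have h3 : Nat.card φ.range ≤ 4 :=
      (Nat.le_of_dvd Nat.card_pos (card_subgroup_dvd_card _)).trans h.card.le
    have h2 : Nat.card φ.ker ≤ 16 := by
      rw [← card_map_of_injective R.subtype_injective]
      refine (hD.top.max t2 (hD.T_sq h hct) (h.CS_le_cenA e hct) ht2A _ ((hR.to_subgroup _).map _) ?_).trans
        h16.le
      rintro _ ⟨x, hx, rfl⟩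
      have h4 : (x : G) * t2 * (x : G)⁻¹ * t2⁻¹ = 1 := congrArg Subtype.val (MonoidHom.mem_ker.1 hx)
      rw [mul_inv_eq_one, mul_inv_eq_iff_eq_mul] at h4
      exact mem_cen.2 h4
    rw [← h1]
    exact (Nat.mul_le_mul h2 h3).trans (by norm_num)
  let N' : Sylow 2 ↥H :=
    { toSubgroup := N.subgroupOf H
      isPGroup' := (NS_two e).comap_of_injective H.subtype H.subtype_injective
      is_maximal' := fun {Q} hQ hle => by
        have h1 : N ≤ Q.map H.subtype := fun s hs => ⟨⟨s, hNH hs⟩, hle hs, rfl⟩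
        have h2 := eq_of_le_of_card_ge h1 ((hR64 _ (hQ.map H.subtype) (map_subtype_le Q)).trans
          (hD.card_NS h h16))
        ext ⟨s, hs⟩
        rw [mem_subgroupOf, h2]
        simp [hs] }
  let P : Subgroup G :=
    { carrier := {x | x ∈ (S : Subgroup G) ∧ x * g * x⁻¹ * g⁻¹ ∈ A}
      one_mem' := ⟨one_mem _, by simp⟩
      mul_mem' := fun {x z} hx hz => ⟨mul_mem hx.1 hz.1, by
        rw [show x * z * g * (x * z)⁻¹ * g⁻¹ =
          x * (z * g * z⁻¹ * g⁻¹) * x⁻¹ * (x * g * x⁻¹ * g⁻¹) by group,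
          ← h.comm_S hx.1 hz.2, mul_inv_cancel_right]
        exact mul_mem hz.2 hx.2⟩
      inv_mem' := fun {x} hx => ⟨inv_mem hx.1, by
        rw [show x⁻¹ * g * x⁻¹⁻¹ * g⁻¹ = (x⁻¹ * (x * g * x⁻¹ * g⁻¹) * x⁻¹⁻¹)⁻¹ by group,
          ← h.comm_S (inv_mem hx.1) hx.2, mul_inv_cancel_right]
        exact inv_mem hx.2⟩ }
  have hPH : P.map (MulAut.conj c).toMonoidHom ≤ H := by
    rintro _ ⟨x, hx, rfl⟩
    refine ⟨mul_mem (mul_mem hc (h.S_le hx.1)) (inv_mem hc), ?_⟩
    show c * x * c⁻¹ * t2 * (c * x * c⁻¹)⁻¹ * t2⁻¹ ∈ A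
    rw [show c * x * c⁻¹ * t2 * (c * x * c⁻¹)⁻¹ * t2⁻¹ = c * (x * g * x⁻¹ * g⁻¹) * c⁻¹ by
      rw [ht2]; group, hcA _ hx.2]
    exact hx.2
  have hP2 : IsPGroup 2 P := S.isPGroup'.to_le fun x hx => hx.1
  obtain ⟨Q, hQ⟩ := ((hP2.map (MulAut.conj c).toMonoidHom).comap_of_injective H.subtype
    H.subtype_injective : IsPGroup 2 ((P.map (MulAut.conj c).toMonoidHom).subgroupOf H)).exists_le_sylow
  obtain ⟨c1, hc1⟩ := MulAction.exists_smul_eq ↥H Q N'
  set d := (c1 : G) * c with hd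
  have hdA : d ∈ centralizer (A : Set G) := mul_mem c1.2.1 hc
  have hdP : ∀ x ∈ P, d * x * d⁻¹ ∈ N := by
    intro x hx
    have h1 : c * x * c⁻¹ ∈ P.map (MulAut.conj c).toMonoidHom := ⟨x, hx, rfl⟩
    have h2 : c1 * ⟨c * x * c⁻¹, hPH h1⟩ * c1⁻¹ ∈ (N' : Subgroup ↥H) := by
      rw [← hc1, Sylow.coe_subgroup_smul]
      exact ⟨_, hQ h1, rfl⟩
    have h3 : (c1 : G) * (c * x * c⁻¹) * (c1 : G)⁻¹ ∈ N := h2
    rwa [hd, show (c1 : G) * c * x * ((c1 : G) * c)⁻¹ = (c1 : G) * (c * x * c⁻¹) * (c1 : G)⁻¹ by group]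
  -- an involution of `P ∩ N` lies in `A`
  have hPN : ∀ u ∈ P, u ∈ N → u * u = 1 → u ∈ A := by
    intro u hu huN huu
    have hui : u⁻¹ = u := inv_eq_of_mul_eq_one_right huu
    have hgi : g⁻¹ = g := inv_eq_of_mul_eq_one_right hg2
    have h1 : u * (g * u * g⁻¹) ∈ A := by
      have := hu.2
      rw [hui, hgi] at this
      rwa [hgi, show u * (g * u * g) = u * g * u * g by group]
    rcases hD.invol_mem h h16 hY huN huu with h2 | h2
    · refine hD.Y_T h hY ?_ h2
      have := mul_mem (hD.A_le_Y h hY h1) (inv_mem (hTY u h2))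
      rwa [mul_inv_cancel_right] at this
    · refine hD.Y_T h hY h2 ?_
      have := mul_mem (hD.A_le h h1) (inv_mem (hYT u h2))
      rwa [mul_inv_cancel_right] at this
  -- count the involutions
  let J : Set G := {x | x ∈ P ∧ x ∉ N ∧ x * x = 1}
  have hJ : 16 ≤ J.ncard := by
    let R : Subgroup G :=
      { carrier := {r | r ∈ T ∧ n * r = r * n}
        one_mem' := ⟨one_mem _, by simp⟩
        mul_mem' := fun {x z} hx hz => ⟨mul_mem hx.1 hz.1,
          ((show Commute n x from hx.2).mul_right (show Commute n z from hz.2)).eq⟩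
        inv_mem' := fun {x} hx => ⟨inv_mem hx.1, (show Commute n x from hx.2).inv_right.eq⟩ }
    have hR4 : 4 ≤ Nat.card R := by
      have h1 : Nat.card ↥T ≤ Nat.card (↥A × ↥R) := by
        refine Nat.card_le_card_of_surjective
          (fun p => (⟨p.1 * p.2, mul_mem (hD.A_le h p.1.2) p.2.2.1⟩ : ↥T)) ?_
        rintro ⟨t, ht⟩
        obtain ⟨a, ha, r, hr, hnr, e1⟩ := hD.T_fixed h ht
        exact ⟨(⟨a, ha⟩, ⟨r, hr, hnr⟩), Subtype.ext e1.symm⟩
      rw [h16, Nat.card_prod, h.card] at h1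
      omega
    have hmem : ∀ p : ↥R × ↥A, (p.1 : G) * g * p.1 * p.2 ∈ J := by
      rintro ⟨⟨r, hrT, -⟩, ⟨b, hb⟩⟩
      have hrS : r * g * r ∈ (S : Subgroup G) := mul_mem (mul_mem hrT.1 hg.1) hrT.1
      have hxx : r * g * r * b * (r * g * r * b) = 1 := by
        calc r * g * r * b * (r * g * r * b) = r * g * r * (b * (r * g * r)) * b := by group
          _ = (r * g * r) * (r * g * r) * (b * b) := by rw [h.comm_S hrS hb]; group
          _ = r * (g * (r * r) * g) * r := by rw [h.sq hb]; group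
          _ = 1 := by rw [hD.T_sq h hrT, mul_one, hg2, mul_one, hD.T_sq h hrT]
      refine ⟨⟨mul_mem hrS (h.set.le hb), ?_⟩, fun h1 => hgN' ?_, hxx⟩
      · show r * g * r * b * g * (r * g * r * b)⁻¹ * g⁻¹ ∈ A
        have hri := hD.T_inv h hrT
        have hgi : g⁻¹ = g := inv_eq_of_mul_eq_one_right hg2
        have e1 : r * g * r * b * g * (r * g * r * b)⁻¹ * g⁻¹ =
            (r * (g * r * g⁻¹)) * (r * (g * r * g⁻¹)) := by
          calc r * g * r * b * g * (r * g * r * b)⁻¹ * g⁻¹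
              = r * g * r * (b * g * b⁻¹) * (r⁻¹ * g⁻¹ * r⁻¹ * g⁻¹) := by group
            _ = r * g * r * g * (r⁻¹ * g⁻¹ * r⁻¹ * g⁻¹) := by rw [h.comm_S hg.1 hb, mul_inv_cancel_right]
            _ = _ := by rw [hri, hgi]; group
        rw [e1]
        exact hD.NS_sq h (mul_mem (CS_le_NS e hrT) (hD.Y_le h hY (hTY r hrT)))
      · have h2 : g = r * (r * g * r * b) * (r * b)⁻¹ := by
          calc g = (r * r) * g := by rw [hD.T_sq h hrT, one_mul]
            _ = _ := by group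
        rw [h2]
        exact mul_mem (mul_mem (CS_le_NS e hrT) h1)
          (inv_mem (mul_mem (CS_le_NS e hrT) (hD.A_le_NS h hb)))
    have hinj : Function.Injective (fun p : ↥R × ↥A => (⟨_, hmem p⟩ : ↥J)) := by
      rintro ⟨⟨r, hrT, hrn⟩, ⟨b, hb⟩⟩ ⟨⟨r', hr'T, hr'n⟩, ⟨b', hb'⟩⟩ hpq
      have e1 : r * g * r * b = r' * g * r' * b' := congrArg Subtype.val hpq
      set s := r' * r with hs
      have hsT : s ∈ T := mul_mem hr'T hrT
      have hsA : s ∈ A := by
        have e2 : g * s * g⁻¹ = s⁻¹ * (s * (g * s * g⁻¹)) := by group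
        have h2 : s * (g * s * g⁻¹) ∈ A := by
          have e3 : s * g * s = g * (b' * b⁻¹) := by
            calc s * g * s = r' * (r * g * r * b) * b⁻¹ * r' := by
                  rw [hs, hD.T_comm h hr'T hrT]
                  nth_rewrite 1 [hD.T_comm h hrT hr'T]
                  group
              _ = (r' * r') * g * r' * ((b' * b⁻¹) * r') := by rw [e1]; group
              _ = g * (b' * b⁻¹) := by
                  rw [(hD.A_central h (mul_mem hb' (inv_mem hb)) (CS_le_NS e hr'T)).eq, hD.T_sq h hr'T,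
                    one_mul, mul_assoc g, ← mul_assoc r', hD.T_sq h hr'T, one_mul]
          rw [show s * (g * s * g⁻¹) = s * g * s * g⁻¹ by group, e3, h.comm_S hg.1 (mul_mem hb' (inv_mem hb)) |>.symm,
            mul_inv_cancel_right]
          exact mul_mem hb' (inv_mem hb)
        refine hD.Y_T h hY ?_ hsT
        have := mul_mem (hD.A_le_Y h hY h2) (inv_mem (hTY s hsT))
        rwa [mul_inv_cancel_right] at this
      have hs1 : s = 1 := by
        by_contra hs1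
        refine (h.moving_cycle hD.n_norm hD.n_move hsA hs1).1 ?_
        rw [((show Commute n r' from hr'n).mul_right (show Commute n r from hrn)).eq, mul_inv_cancel_right]
      have hrr : r = r' := by
        rw [hs, mul_eq_one_iff_eq_inv] at hs1
        rw [hs1, hD.T_inv h hrT]
      subst hrr
      rw [mul_left_cancel_iff] at e1
      subst e1
      rfl
    have := Nat.card_le_card_of_injective _ hinj
    rw [Nat.card_prod, h.card, Nat.card_coe_set_eq] at this
    omega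
  have hhalf : ∀ V : Subgroup G, (∀ v ∈ V, v * v = 1) →
      {x ∈ J | d * x * d⁻¹ ∈ V}.ncard ≤ 4 := by
    intro V hV
    rcases Set.eq_empty_or_nonempty {x ∈ J | d * x * d⁻¹ ∈ V} with he' | ⟨x, hx, hxV⟩
    · rw [he', Set.ncard_empty]; norm_num
    have hsub : {x ∈ J | d * x * d⁻¹ ∈ V} ⊆ (fun a => x * a) '' (A : Set G) := by
      rintro z ⟨hz, hzV⟩
      refine ⟨x * z, hPN _ (mul_mem hx.1 hz.1) (hprod x (hS1' x hx.1.1) hx.2.1 z (hS1' z hz.1.1) hz.2.1) ?_,
        show x * (x * z) = z by rw [← mul_assoc, hx.2.2, one_mul]⟩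
      have h1 := hV _ (mul_mem hxV hzV)
      rw [conj_mul, conj_mul, conj_eq_one_iff] at h1
      exact h1
    refine (Set.ncard_le_ncard hsub).trans ((Set.ncard_image_le (Set.toFinite _)).trans ?_)
    rw [← Nat.card_coe_set_eq, SetLike.coe_sort_coe, h.card]
  have hcov : J ⊆ {x ∈ J | d * x * d⁻¹ ∈ T} ∪ {x ∈ J | d * x * d⁻¹ ∈ Y} := by
    intro x hx
    rcases hD.invol_mem h h16 hY (hdP x hx.1) (by rw [conj_mul, hx.2.2, mul_one, mul_inv_cancel]) with h1 | h1
    · exact Or.inl ⟨hx, h1⟩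
    · exact Or.inr ⟨hx, h1⟩
  have := (Set.ncard_le_ncard hcov).trans ((Set.ncard_union_le _ _).trans
    (add_le_add (hhalf T fun v hv => hD.T_sq h hv) (hhalf Y fun v hv => hD.Y_elem h h16 hY hv)))
  omega

end Deep

end Cfsg.Agent.Gold1169.Two
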