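import Cfsg.Agent.Lib.Gold1169.Two.Exists
import Cfsg.Agent.Lib.Gold1169.Two.EndModule

/-!
No rank two configuration with an involution of `S` outside `A`, given that `C(A) ⧸ O(C(A))` has no
components in the final configuration.
-/

set_option autoImplicit false
set_option linter.style.haveILetI false
set_option linter.unusedSectionVars false

namespace Cfsg.Agent.Gold1169.Two

open Cfsg.Agent.Walter4 (XB)

universe u

/-- No components of `C(A) ⧸ O(C(A))` in the final configuration. -/
def NoCompStmt : Prop :=
  ∀ (G : Type u) [Group G] [Finite G] (S : Sylow 2 G) (A T Y : Subgroup G), Final S A T Y → Ctx S A →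
    ∀ L : Subgroup (XB A), ¬ Cfsg.IsComponent L

theorem twoStmt_of (hnc : NoCompStmt.{u}) : TwoStmt.{u} := by
  intro G _ _ S A hS hL h4 hx
  have h : Ctx S A := ⟨hS, hL, h4⟩
  obtain ⟨T, Y, hF⟩ := h.exists_final hx
  exact hF.false_of h fun hbot => hF.false_of_bot_of h hbot (hnc G S A T Y hF h)

end Cfsg.Agent.Gold1169.Two
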