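import Cfsg.Agent.Lib.Gold1169.Two.Final

/-!
Elementary facts on the group `S` of the configuration.
-/

set_option autoImplicit false
set_option linter.style.haveILetI false
set_option linter.unusedSectionVars false

namespace Cfsg.Agent.Gold1169.Two

open Subgroup
open Cfsg.Agent.Walter4 (cen cenS mem_pre)

universe u

variable {G : Type u} [Group G] [Finite G] {S : Sylow 2 G} {A T Y : Subgroup G}

/-- A proper subgroup has index at least two. -/
theorem two_mul_card_le {H K : Subgroup G} (h : H < K) : 2 * Nat.card H ≤ Nat.card K := by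
  have h1 := PBasic.card_mul_relIndex h.le
  have h2 : H.relIndex K ≠ 1 := fun e => h.not_ge (relIndex_eq_one.1 e)
  have h3 : H.relIndex K ≠ 0 := fun e => by
    have := Nat.card_pos (α := K)
    rw [← h1, e, mul_zero] at this
    exact lt_irrefl 0 this
  rw [← h1, Nat.mul_comm 2]
  exact Nat.mul_le_mul_left _ (by omega)

namespace Final

variable (hF : Final S A T Y)
include hF

theorem inv_T {t : G} (ht : t ∈ T) : t⁻¹ = t := inv_eq_of_mul_eq_one_right (hF.T_sq t ht)

theorem comm_T {t t' : G} (ht : t ∈ T) (ht' : t' ∈ T) : t * t' = t' * t := by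
  have h1 := hF.inv_T (mul_mem ht ht')
  rw [mul_inv_rev, hF.inv_T ht, hF.inv_T ht'] at h1
  exact h1.symm

theorem comm_Y {y y' : G} (hy : y ∈ Y) (hy' : y' ∈ Y) : y * y' = y' * y := by
  have hi : ∀ {z : G}, z ∈ Y → z⁻¹ = z := fun hz => inv_eq_of_mul_eq_one_right (hF.Y_sq _ hz)
  have h1 := hi (mul_mem hy hy')
  rw [mul_inv_rev, hi hy, hi hy'] at h1
  exact h1.symm

theorem T_ne_A : ∃ t ∈ T, t ∉ A := by
  by_contra hno
  push Not at hno
  have h4 : ∀ x ∈ (S : Subgroup G), x ∈ Y := fun x hx => by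
    obtain ⟨t, ht, y, hy, rfl⟩ := hF.prod x hx
    exact mul_mem (hF.A_Y (hno t ht)) hy
  have h5 := Subgroup.card_le_of_le (show (S : Subgroup G) ≤ Y from h4)
  rw [hF.cardS, hF.cardY] at h5
  omega

/-- The centre of `S` lies in `A`. -/
theorem mem_A_of_central {z : G} (hz : z ∈ (S : Subgroup G))
    (hc : ∀ x ∈ (S : Subgroup G), x * z = z * x) : z ∈ A := by
  by_contra hzA
  obtain ⟨t, ht, htA⟩ := hF.T_ne_A
  have hzT : z ∈ T := hF.cen_T t ht htA z hz (hc t (hF.T_le ht)).symm
  have h5 := Subgroup.card_le_of_le (show (S : Subgroup G) ≤ T from fun x hx =>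
    hF.cen_T z hzT hzA x hx (hc x hx))
  rw [hF.cardS, hF.cardT] at h5
  omega

theorem relIndex_T : T.relIndex (S : Subgroup G) = 4 := by
  have := PBasic.card_mul_relIndex hF.T_le
  rw [hF.cardT, hF.cardS] at this
  omega

/-- A subgroup of `S` has at most four times as many elements as its part in `T`. -/
theorem card_le_inf {C : Subgroup G} (hC : C ≤ (S : Subgroup G)) :
    Nat.card C ≤ Nat.card ↥(T ⊓ C) * 4 := by
  have h1 := PBasic.card_mul_relIndex (inf_le_right : T ⊓ C ≤ C)
  rw [inf_relIndex_right] at h1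
  rw [← h1]
  refine Nat.mul_le_mul_left _ ?_
  rw [← hF.relIndex_T]
  exact relIndex_le_of_le_right hC (by rw [hF.relIndex_T]; omega)

/-- The centraliser in `S` of an element outside `A` is abelian. -/
theorem comm_of_comm (h : Ctx S A) {x y z : G} (hx : x ∈ (S : Subgroup G)) (hy : y ∈ (S : Subgroup G))
    (hz : z ∈ (S : Subgroup G)) (hzA : z ∉ A) (hxz : x * z = z * x) (hyz : y * z = z * y) :
    x * y = y * x := by
  haveI : Fact (Nat.Prime 2) := ⟨Nat.prime_two⟩
  by_cases hzT : z ∈ T
  · exact hF.comm_T (hF.cen_T z hzT hzA x hx hxz) (hF.cen_T z hzT hzA y hy hyz)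
  set C : Subgroup G := (S : Subgroup G) ⊓ centralizer ({z} : Set G) with hC
  have hmem : ∀ {w : G}, w ∈ (S : Subgroup G) → w * z = z * w → w ∈ C := fun hw e =>
    ⟨hw, mem_centralizer_singleton_iff.2 e⟩
  have hCT : T ⊓ C ≤ A := fun t ht => by
    by_contra htA
    exact hzT (hF.cen_T t ht.1 htA z hz (mem_centralizer_singleton_iff.1 ht.2.2).symm)
  have hCle : Nat.card C ≤ 16 := by
    have hCS : C ≤ (S : Subgroup G) := inf_le_left
    have h1 := hF.card_le_inf hCS
    have h2 := Subgroup.card_le_of_le hCT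
    rw [h.card] at h2
    omega
  set D : Subgroup G := C ⊓ centralizer (C : Set G) with hD
  have hAD : A ≤ D := fun a ha => ⟨hmem (h.set.le ha) (h.comm_S hz ha), mem_centralizer_iff.2 fun w hw =>
    (h.comm_S hw.1 ha).symm⟩
  have hzD : z ∈ D := ⟨hmem hz rfl, mem_centralizer_iff.2 fun w hw => mem_centralizer_singleton_iff.1 hw.2⟩
  have hAD' : A < D := lt_of_le_not_ge hAD fun h' => hzA (h' hzD)
  have h8 := two_mul_card_le hAD'
  rw [h.card] at h8
  by_contra hne
  have hxD : x ∉ D := fun h' => hne ((mem_centralizer_iff.1 h'.2 y (hmem hy hyz)).symm)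
  set E : Subgroup G := C ⊓ centralizer ({x} : Set G) with hE
  have hDE : D < E := lt_of_le_not_ge
    (fun d hd => ⟨hd.1, mem_centralizer_singleton_iff.2 (mem_centralizer_iff.1 hd.2 x (hmem hx hxz)).symm⟩)
    fun h' => hxD (h' ⟨hmem hx hxz, mem_centralizer_singleton_iff.2 rfl⟩)
  have hEC : E < C := lt_of_le_not_ge inf_le_left fun h' =>
    hne (mem_centralizer_singleton_iff.1 (h' (hmem hy hyz)).2).symm
  have h16 := two_mul_card_le hDE
  have h32 := two_mul_card_le hEC
  omega

/-- Elements of `S` centralising `A` are determined modulo the core. -/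
theorem eq_one_of_q (h : Ctx S A) {x : G} (hx : x ∈ (S : Subgroup G))
    (hq : OddDown.CoreSep.q (cenS A) ⟨x, h.S_le hx⟩ = 1) : x = 1 :=
  haveI : Fact (Nat.Prime 2) := ⟨Nat.prime_two⟩
  PBasic.eq_one_of_isPGroup_of_coprime S.isPGroup' hx
    (PBasic.coprime_orderOf_of_mem (Walter4.cor_coprime A) ((q_eq_one (h.S_le hx)).1 hq))

end Final

end Cfsg.Agent.Gold1169.Two
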