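import Cfsg.Agent.Lib.Gold1169.Two.Elem

/-!
`N = N_S(T)` modulo `A` is elementary, the sum of `T ⧸ A` and of `Y ⧸ A`, where `Y` is the part on which `n`
has no fixed point; `Y` is abelian of order 16 and pairs with `T ⧸ A` into `A`.
-/

set_option autoImplicit false
set_option linter.style.haveILetI false
set_option linter.unusedSectionVars false

namespace Cfsg.Agent.Gold1169.Two

open Subgroup
open Cfsg.Agent.Walter4 (cen cenS ocen cor XB pre CA mem_pre cor_zpowers pre_le)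
open Cfsg.Agent.OddDown.CoreSep (q im mem_im)
open scoped commutatorElement

universe u

attribute [local instance] FittingCores.pPrimeCore_normal

variable {G : Type u} [Group G] [Finite G] {S : Sylow 2 G} {A : Subgroup G}

/-- The product of the three conjugates. -/
def sigma (n y : G) : G := y * (n * y * n⁻¹) * (n * (n * y * n⁻¹) * n⁻¹)

/-- The part of `N_S(T)` without fixed points of `n` modulo `A`. -/
def YSet (S : Sylow 2 G) (A : Subgroup G) (e n : G) : Set G := {y | y ∈ NS S e ∧ sigma n y ∈ A}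

/-- The bijection `a ↦ [n, a]` of `A`. -/
theorem Ctx.exists_comm_eq (h : Ctx S A) {n : G} (hn : n ∈ normalizer (A : Set G))
    (hnc : n ∉ centralizer (A : Set G)) {d : G} (hd : d ∈ A) : ∃ a ∈ A, n * a * n⁻¹ * a⁻¹ = d := by
  let φ : ↥A → ↥A := fun a => ⟨n * a * n⁻¹ * (a : G)⁻¹,
    mul_mem ((h.set.conj_mem_iff hn).1 a.2) (inv_mem a.2)⟩
  have hinj : Function.Injective φ := by
    intro a b hab
    have h1 : n * a * n⁻¹ * (a : G)⁻¹ = n * b * n⁻¹ * (b : G)⁻¹ := congrArg Subtype.val hab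
    rw [h.inv_eq a.2, h.inv_eq b.2] at h1
    by_contra hne
    have hab1 : (a : G) * b ≠ 1 := fun e => hne (Subtype.ext (by
      rw [mul_eq_one_iff_eq_inv.1 e, h.inv_eq b.2]))
    refine (h.moving_cycle hn hnc (mul_mem a.2 b.2) hab1).1 ?_
    have c1 : Commute (n * (b : G) * n⁻¹) a := h.comm ((h.set.conj_mem_iff hn).1 b.2) a.2
    calc n * ((a : G) * b) * n⁻¹ = (n * a * n⁻¹) * (n * b * n⁻¹) * ((a : G) * a) := by
          rw [h.sq a.2, mul_one]; group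
      _ = (n * a * n⁻¹) * ((n * b * n⁻¹) * a) * a := by group
      _ = (n * a * n⁻¹) * ((a : G) * (n * b * n⁻¹)) * a := by rw [c1.eq]
      _ = (n * a * n⁻¹ * a) * ((n * b * n⁻¹) * a) := by group
      _ = (n * b * n⁻¹ * b) * ((n * b * n⁻¹) * a) := by rw [h1]
      _ = (n * b * n⁻¹) * ((b : G) * (n * b * n⁻¹)) * a := by group
      _ = (n * b * n⁻¹) * (n * b * n⁻¹) * ((b : G) * a) := by
          rw [h.comm b.2 ((h.set.conj_mem_iff hn).1 b.2)]; group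
      _ = (a : G) * b := by rw [h.sq ((h.set.conj_mem_iff hn).1 b.2), one_mul, h.comm b.2 a.2]
  obtain ⟨a, ha⟩ := (Finite.injective_iff_surjective.1 hinj) ⟨d, hd⟩
  exact ⟨a, a.2, congrArg Subtype.val ha⟩

namespace Deep

variable {e n : G} (hD : Deep S A e n) (h : Ctx S A)
include hD h

theorem A_le : A ≤ CS S e := h.le_CS hD.top.spec.2.1

theorem A_le_NS : A ≤ NS S e := (hD.A_le h).trans (CS_le_NS e)

theorem NS_cenA {g : G} (hg : g ∈ NS S e) : g ∈ centralizer (A : Set G) := h.S_le hg.1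

theorem A_central {a g : G} (ha : a ∈ A) (hg : g ∈ NS S e) : Commute a g :=
  mem_centralizer_iff.1 (hD.NS_cenA h hg) a ha

theorem T_sq {t : G} (ht : t ∈ CS S e) : t * t = 1 := hD.top.elem h hD.lt ht

theorem T_inv {t : G} (ht : t ∈ CS S e) : t⁻¹ = t := inv_eq_of_mul_eq_one_right (hD.T_sq h ht)

theorem T_comm {x y : G} (hx : x ∈ CS S e) (hy : y ∈ CS S e) : x * y = y * x :=
  hD.top.T_comm h hD.lt hx hy

theorem comm_e_mem {g : G} (hg : g ∈ NS S e) : g * e * g⁻¹ * e⁻¹ ∈ A :=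
  hD.top.NS_triv h hD.lt hg hD.top.self_mem

theorem comm_e_mul {x y : G} (hx : x ∈ NS S e) (hy : y ∈ NS S e) :
    x * y * e * (x * y)⁻¹ * e⁻¹ = (x * e * x⁻¹ * e⁻¹) * (y * e * y⁻¹ * e⁻¹) := by
  have c1 := hD.A_central h (hD.comm_e_mem h hy) hx
  calc x * y * e * (x * y)⁻¹ * e⁻¹
      = x * (y * e * y⁻¹ * e⁻¹) * x⁻¹ * (x * e * x⁻¹ * e⁻¹) := by group
    _ = (y * e * y⁻¹ * e⁻¹) * (x * e * x⁻¹ * e⁻¹) := by rw [← c1.eq, mul_inv_cancel_right]
    _ = _ := h.comm (hD.comm_e_mem h hy) (hD.comm_e_mem h hx)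

theorem mem_T_of_theta {g : G} (hg : g ∈ NS S e) (h1 : g * e * g⁻¹ * e⁻¹ = 1) : g ∈ CS S e := by
  rw [mul_inv_eq_one, mul_inv_eq_iff_eq_mul] at h1
  exact ⟨hg.1, mem_cen.2 h1⟩

theorem n_NS_mem {g : G} (hg : g ∈ NS S e) : n * g * n⁻¹ ∈ NS S e :=
  (mem_normalizer_iff.1 hD.n_NS g).1 hg

theorem n_T_mem {t : G} (ht : t ∈ CS S e) : n * t * n⁻¹ ∈ CS S e :=
  (mem_normalizer_iff.1 hD.n_T t).1 ht

theorem n_A_mem {a : G} (ha : a ∈ A) : n * a * n⁻¹ ∈ A := (h.set.conj_mem_iff hD.n_norm).1 ha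

theorem theta_n {g : G} :
    (n * g * n⁻¹) * e * (n * g * n⁻¹)⁻¹ * e⁻¹ = n * (g * e * g⁻¹ * e⁻¹) * n⁻¹ := by
  have h1 : n⁻¹ * e * n = e := by rw [mul_assoc, ← hD.n_e, inv_mul_cancel_left]
  have h2 : n * e⁻¹ * n⁻¹ = e⁻¹ := by
    rw [(show Commute n e from hD.n_e).inv_right.eq, mul_inv_cancel_right]
  calc (n * g * n⁻¹) * e * (n * g * n⁻¹)⁻¹ * e⁻¹ = n * g * (n⁻¹ * e * n) * g⁻¹ * n⁻¹ * e⁻¹ := by group
    _ = n * g * e * g⁻¹ * n⁻¹ * (n * e⁻¹ * n⁻¹) := by rw [h1, h2]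
    _ = _ := by group

/-- `N ⧸ A` has exponent two. -/
theorem NS_sq {x : G} (hx : x ∈ NS S e) : x * x ∈ A := by
  have hxx : x * x ∈ CS S e := hD.mem_T_of_theta h (mul_mem hx hx) (by
    rw [hD.comm_e_mul h hx hx, h.sq (hD.comm_e_mem h hx)])
  by_contra hA
  have hxT : x ∈ CS S e := hD.top.NS_mem_of_comm h hD.lt hx hxx hA (by group)
  exact hA ((hD.T_sq h hxT).symm ▸ one_mem A)

/-- `N ⧸ A` is abelian. -/
theorem NS_comm {x y : G} (hx : x ∈ NS S e) (hy : y ∈ NS S e) : x * y * x⁻¹ * y⁻¹ ∈ A := by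
  have h1 := hD.NS_sq h (mul_mem hx hy)
  have h2 := hD.NS_sq h hx
  have h3 := hD.NS_sq h hy
  have e1 : x * y * x⁻¹ * y⁻¹ = (x * y * (x * y)) * (y⁻¹ * (x * x)⁻¹ * y) * (y * y)⁻¹ := by group
  rw [e1]
  refine mul_mem (mul_mem h1 ?_) (inv_mem h3)
  rw [mul_assoc, (hD.A_central h (inv_mem h2) hy).eq, inv_mul_cancel_left]
  exact inv_mem h2

theorem swap_mod {x y : G} (hx : x ∈ NS S e) (hy : y ∈ NS S e) :
    ∃ a ∈ A, x * y = a * (y * x) :=
  ⟨_, hD.NS_comm h hx hy, by group⟩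

/-- `n³` centralises `N`. -/
theorem n_cube {g : G} (hg : g ∈ NS S e) : n ^ 3 * g * (n ^ 3)⁻¹ = g := by
  set w := n ^ 3 with hw
  have hwo : Odd (orderOf w) := hD.n_odd.of_dvd_nat (orderOf_pow_dvd 3)
  have hwA : ∀ a ∈ A, w * a * w⁻¹ = a := fun a ha => by
    rw [← mem_centralizer_iff.1 (h.pow_three_mem hD.n_norm hD.n_move) a ha, mul_inv_cancel_right]
  -- an element moved by `w` by a fixed involution is fixed
  have key : ∀ x d : G, d * d = 1 → w * x * w⁻¹ = x * d → w * d * w⁻¹ = d → d = 1 := by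
    intro x d hd hx hwd
    have hit : ∀ m : ℕ, w ^ m * x * (w ^ m)⁻¹ = x * d ^ m := by
      intro m
      induction m with
      | zero => simp
      | succ m ih =>
        have hdm : w * d ^ m * w⁻¹ = d ^ m := by rw [conj_pow, hwd]
        calc w ^ (m + 1) * x * (w ^ (m + 1))⁻¹ = w * (w ^ m * x * (w ^ m)⁻¹) * w⁻¹ := by
              rw [pow_succ']; group
          _ = (w * x * w⁻¹) * (w * d ^ m * w⁻¹) := by rw [ih]; group
          _ = x * d ^ (m + 1) := by rw [hx, hdm, pow_succ', mul_assoc]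
    have h1 := hit (orderOf w)
    rw [pow_orderOf_eq_one, one_mul, inv_one, mul_one, left_eq_mul] at h1
    exact KindPf.eq_one_of_pow_odd hwo hd h1
  have hwT : ∀ t ∈ CS S e, w * t * w⁻¹ = t := by
    intro t ht
    set d := t⁻¹ * (w * t * w⁻¹) with hd
    have hpow : ∀ m : ℕ, ∀ s ∈ CS S e, n ^ m * s * (n ^ m)⁻¹ * s⁻¹ ∈ A := by
      intro m
      induction m with
      | zero => intro s _; simp
      | succ m ih =>
        intro s hs
        have e1 : n ^ (m + 1) * s * (n ^ (m + 1))⁻¹ * s⁻¹ =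
            (n * (n ^ m * s * (n ^ m)⁻¹ * s⁻¹) * n⁻¹) * (n * s * n⁻¹ * s⁻¹) := by
          rw [pow_succ']; group
        rw [e1]
        exact mul_mem (hD.n_A_mem h (ih s hs)) (hD.n_triv s hs)
    have hdA : d ∈ A := by
      have h1 := hpow 3 t ht
      rw [hd, show t⁻¹ * (w * t * w⁻¹) = t⁻¹ * (w * t * w⁻¹ * t⁻¹) * t by group, mul_assoc,
        (hD.A_central h h1 (CS_le_NS e ht)).eq, inv_mul_cancel_left]
      exact h1
    have h1 := key t d (h.sq hdA) (by rw [hd, mul_inv_cancel_left]) (hwA d hdA)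
    rw [hd, inv_mul_eq_one] at h1
    exact h1.symm
  have hwN : ∀ x ∈ NS S e, w * x * w⁻¹ ∈ NS S e := fun x hx =>
    (mem_normalizer_iff.1 (pow_mem hD.n_NS 3) x).1 hx
  set d := g⁻¹ * (w * g * w⁻¹) with hd
  have hdN : d ∈ NS S e := mul_mem (inv_mem hg) (hwN g hg)
  have hdT : d ∈ CS S e := by
    refine hD.mem_T_of_theta h hdN ?_
    have h3 : (w * g * w⁻¹) * e * (w * g * w⁻¹)⁻¹ * e⁻¹ = g * e * g⁻¹ * e⁻¹ := by
      rw [show w * g * w⁻¹ = n * (n * (n * g * n⁻¹) * n⁻¹) * n⁻¹ by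
          simp only [hw, pow_succ, pow_zero, one_mul, mul_inv_rev, mul_assoc],
        hD.theta_n h, hD.theta_n h, hD.theta_n h]
      have := hwA _ (hD.comm_e_mem h hg)
      simpa only [hw, pow_succ, pow_zero, one_mul, mul_inv_rev, mul_assoc] using this
    have h4 := hD.comm_e_mul h hg hdN
    rw [show g * d = w * g * w⁻¹ by rw [hd, mul_inv_cancel_left], h3, left_eq_mul] at h4
    exact h4
  have h1 := key g d (hD.T_sq h hdT) (by rw [hd, mul_inv_cancel_left]) (hwT d hdT)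
  rw [hd, inv_mul_eq_one] at h1
  exact h1.symm

theorem sigma_mem_T {g : G} (hg : g ∈ NS S e) : sigma n g ∈ CS S e := by
  have h1 := hD.n_NS_mem h hg
  have h2 := hD.n_NS_mem h h1
  refine hD.mem_T_of_theta h (mul_mem (mul_mem hg h1) h2) ?_
  rw [sigma, hD.comm_e_mul h (mul_mem hg h1) h2, hD.comm_e_mul h hg h1, hD.theta_n h, hD.theta_n h,
    hD.theta_n h]
  exact h.orbit_prod hD.n_norm hD.n_move (hD.comm_e_mem h hg)

/-- `sigma` is multiplicative modulo `A`. -/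
theorem sigma_mul {x y : G} (hx : x ∈ NS S e) (hy : y ∈ NS S e) :
    ∃ a ∈ A, sigma n (x * y) = a * (sigma n x * sigma n y) := by
  set x1 := n * x * n⁻¹ with hx1
  set x2 := n * x1 * n⁻¹ with hx2
  set y1 := n * y * n⁻¹ with hy1
  set y2 := n * y1 * n⁻¹ with hy2
  have hx1N : x1 ∈ NS S e := hD.n_NS_mem h hx
  have hx2N : x2 ∈ NS S e := hD.n_NS_mem h hx1N
  have hy1N : y1 ∈ NS S e := hD.n_NS_mem h hy
  obtain ⟨a1, ha1, e1⟩ := hD.swap_mod h hy hx1N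
  obtain ⟨a2, ha2, e2⟩ := hD.swap_mod h (mul_mem hy hy1N) hx2N
  refine ⟨a1 * a2, mul_mem ha1 ha2, ?_⟩
  have c1 := hD.A_central h ha1 hx
  have c2 := hD.A_central h ha2 (mul_mem hx hx1N)
  calc sigma n (x * y) = x * (y * x1) * y1 * (x2 * y2) := by
        rw [sigma, hx2, hy2, hx1, hy1]; group
    _ = x * a1 * (x1 * y) * y1 * (x2 * y2) := by rw [e1]; group
    _ = a1 * (x * x1) * ((y * y1) * x2) * y2 := by rw [← c1.eq]; group
    _ = a1 * ((x * x1) * a2) * (x2 * (y * y1)) * y2 := by rw [e2]; group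
    _ = _ := by rw [← c2.eq, sigma, sigma, hx2, hy2, hx1, hy1]; group

theorem sigma_A {a : G} (ha : a ∈ A) : sigma n a = 1 := h.orbit_prod hD.n_norm hD.n_move ha

theorem sigma_T {t : G} (ht : t ∈ CS S e) : sigma n t * t⁻¹ ∈ A := by
  have h1 := hD.n_triv t ht
  have h2 := hD.n_triv _ (hD.n_T_mem h ht)
  set t1 := n * t * n⁻¹ with ht1
  have e1 : sigma n t * t⁻¹ =
      t * t1 * ((n * t1 * n⁻¹ * t1⁻¹) * t1) * t⁻¹ := by rw [sigma, ht1]; group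
  have c := hD.A_central h h2 (CS_le_NS e (hD.n_T_mem h ht))
  have c' := hD.A_central h h2 (CS_le_NS e ht)
  rw [e1, c.eq, show t * t1 * (t1 * (n * t1 * n⁻¹ * t1⁻¹)) * t⁻¹ =
    t * (t1 * t1) * ((n * t1 * n⁻¹ * t1⁻¹) * t⁻¹) by group, hD.T_sq h (hD.n_T_mem h ht), mul_one,
    c'.inv_right.eq, mul_inv_cancel_left]
  exact h2

/-- The subgroup `Y`. -/
theorem exists_Y : ∃ Y : Subgroup G, (Y : Set G) = YSet S A e n := by
  refine ⟨{
    carrier := YSet S A e n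
    one_mem' := ⟨one_mem _, by rw [hD.sigma_A h (one_mem A)]; exact one_mem A⟩
    mul_mem' := fun {x y} hx hy => ?_
    inv_mem' := fun {x} hx => ?_ }, rfl⟩
  · obtain ⟨a, ha, e1⟩ := hD.sigma_mul h hx.1 hy.1
    exact ⟨mul_mem hx.1 hy.1, by rw [e1]; exact mul_mem ha (mul_mem hx.2 hy.2)⟩
  · refine ⟨inv_mem hx.1, ?_⟩
    obtain ⟨a, ha, e1⟩ := hD.sigma_mul h hx.1 (inv_mem hx.1)
    rw [mul_inv_cancel, hD.sigma_A h (one_mem A)] at e1
    rw [show sigma n x⁻¹ = (a * sigma n x)⁻¹ * (a * (sigma n x * sigma n x⁻¹)) by group, ← e1, mul_one]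
    exact inv_mem (mul_mem ha hx.2)

variable {Y : Subgroup G} (hY : (Y : Set G) = YSet S A e n)
include hY

theorem mem_Y {y : G} : y ∈ Y ↔ y ∈ NS S e ∧ sigma n y ∈ A := Set.ext_iff.1 hY y

theorem A_le_Y : A ≤ Y := fun a ha =>
  (hD.mem_Y h hY).2 ⟨hD.A_le_NS h ha, by rw [hD.sigma_A h ha]; exact one_mem A⟩

theorem Y_le : Y ≤ NS S e := fun _ hy => ((hD.mem_Y h hY).1 hy).1

theorem Y_T {y : G} (hy : y ∈ Y) (hyT : y ∈ CS S e) : y ∈ A := by
  have h1 := A.mul_mem (A.inv_mem (hD.sigma_T h hyT)) ((hD.mem_Y h hY).1 hy).2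
  rwa [show (sigma n y * y⁻¹)⁻¹ * sigma n y = y by group] at h1

theorem theta_Y {y : G} (hy : y ∈ Y) (h1 : y * e * y⁻¹ * e⁻¹ = 1) : y ∈ A :=
  hD.Y_T h hY hy (hD.mem_T_of_theta h (hD.Y_le h hY hy) h1)

/-- `N = Y T`. -/
theorem decomp {g : G} (hg : g ∈ NS S e) : ∃ y ∈ Y, ∃ t ∈ CS S e, g = y * t := by
  have hs := hD.sigma_mem_T h hg
  set s := sigma n g with hsdef
  refine ⟨g * s, (hD.mem_Y h hY).2 ⟨mul_mem hg (CS_le_NS e hs), ?_⟩, s, hs,
    by rw [mul_assoc, hD.T_sq h hs, mul_one]⟩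
  obtain ⟨a, ha, e1⟩ := hD.sigma_mul h hg (CS_le_NS e hs)
  have h1 := hD.sigma_T h hs
  rw [e1, ← hsdef, show a * (s * sigma n s) = a * (s * (sigma n s * s⁻¹) * s) by group,
    ← (hD.A_central h h1 (CS_le_NS e hs)).eq, mul_assoc (sigma n s * s⁻¹), hD.T_sq h hs, mul_one]
  exact mul_mem ha h1

theorem surj_Y {a : G} (ha : a ∈ A) : ∃ y ∈ Y, y * e * y⁻¹ * e⁻¹ = a := by
  obtain ⟨g, hg, hge⟩ := hD.surj a ha
  obtain ⟨y, hy, t, ht, rfl⟩ := hD.decomp h hY hg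
  refine ⟨y, hy, ?_⟩
  rw [hD.comm_e_mul h (hD.Y_le h hY hy) (CS_le_NS e ht)] at hge
  rwa [mem_cen.1 ht.2, mul_inv_cancel_right, mul_inv_cancel, mul_one] at hge

theorem n_Y {y : G} (hy : y ∈ Y) : n * y * n⁻¹ ∈ Y := by
  obtain ⟨hyN, hs⟩ := (hD.mem_Y h hY).1 hy
  refine (hD.mem_Y h hY).2 ⟨hD.n_NS_mem h hyN, ?_⟩
  rw [show sigma n (n * y * n⁻¹) = n * sigma n y * n⁻¹ by simp only [sigma]; group]
  exact hD.n_A_mem h hs

theorem NS_normalizes {g y : G} (hg : g ∈ NS S e) (hy : y ∈ Y) : g * y * g⁻¹ ∈ Y := by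
  rw [show g * y * g⁻¹ = (g * y * g⁻¹ * y⁻¹) * y by group]
  exact mul_mem (hD.A_le_Y h hY (hD.NS_comm h hg (hD.Y_le h hY hy))) hy

theorem card_Y : Nat.card Y = 16 := by
  let θ : ↥Y →* ↥A :=
    { toFun := fun y => ⟨y * e * (y : G)⁻¹ * e⁻¹, hD.comm_e_mem h (hD.Y_le h hY y.2)⟩
      map_one' := Subtype.ext (by simp)
      map_mul' := fun x y => Subtype.ext (hD.comm_e_mul h (hD.Y_le h hY x.2) (hD.Y_le h hY y.2)) }
  have hker : θ.ker = A.subgroupOf Y := by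
    refine le_antisymm (fun y hy => ?_) fun y hy => ?_
    · exact hD.theta_Y h hY y.2 (congrArg Subtype.val (MonoidHom.mem_ker.1 hy))
    · refine MonoidHom.mem_ker.2 (Subtype.ext ?_)
      show (y : G) * e * (y : G)⁻¹ * e⁻¹ = 1
      rw [(mem_cen.1 ((hD.A_le h (show (y : G) ∈ A from hy)).2)), mul_inv_cancel_right, mul_inv_cancel]
  have h1 := θ.ker.card_mul_index
  rw [Subgroup.index_ker, MonoidHom.range_eq_top.2 fun a => ?_, card_top, h.card, hker,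
    Nat.card_congr (subgroupOfEquivOfLe (hD.A_le_Y h hY)).toEquiv, h.card] at h1
  · omega
  · obtain ⟨y, hy, hye⟩ := hD.surj_Y h hY a.2
    exact ⟨⟨y, hy⟩, Subtype.ext hye⟩

theorem moves_Y {y : G} (hy : y ∈ Y) (hyA : y ∉ A) : y * e * y⁻¹ * e⁻¹ ≠ 1 := fun h1 =>
  hyA (hD.theta_Y h hY hy h1)

/-- The cosets of `A` in `Y`. -/
theorem Y_cases {y0 : G} (hy0 : y0 ∈ Y) (hy0A : y0 ∉ A) {y : G} (hy : y ∈ Y) :
    ∃ a ∈ A, y = a ∨ y = y0 * a ∨ y = (n * y0 * n⁻¹) * a ∨ y = y0 * (n * y0 * n⁻¹) * a := by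
  have hy1 := hD.n_Y h hY hy0
  have hα := hD.comm_e_mem h (hD.Y_le h hY hy0)
  have hα1 := hD.moves_Y h hY hy0 hy0A
  have hβ := hD.n_A_mem h hα
  have hba := (h.moving_cycle hD.n_norm hD.n_move hα hα1).1
  have key : ∀ z ∈ Y, y * e * y⁻¹ * e⁻¹ = z * e * z⁻¹ * e⁻¹ → z⁻¹ * y ∈ A := fun z hz he' => by
    refine hD.theta_Y h hY (mul_mem (inv_mem hz) hy) ?_
    have h1 := hD.comm_e_mul h (hD.Y_le h hY hz) (hD.Y_le h hY (mul_mem (inv_mem hz) hy))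
    rw [mul_inv_cancel_left, he', left_eq_mul] at h1
    exact h1
  rcases h.cases_four hα hβ hα1 (fun e1 => hα1 (conj_eq_one_iff.1 e1)) (Ne.symm hba)
    (hD.comm_e_mem h (hD.Y_le h hY hy)) with e1 | e1 | e1 | e1
  · exact ⟨y, hD.theta_Y h hY hy e1, Or.inl rfl⟩
  · exact ⟨_, key y0 hy0 e1, Or.inr (Or.inl (mul_inv_cancel_left _ _).symm)⟩
  · rw [← hD.theta_n h] at e1
    exact ⟨_, key _ hy1 e1, Or.inr (Or.inr (Or.inl (mul_inv_cancel_left _ _).symm))⟩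
  · rw [← hD.theta_n h, ← hD.comm_e_mul h (hD.Y_le h hY hy0) (hD.Y_le h hY hy1)] at e1
    exact ⟨_, key _ (mul_mem hy0 hy1) e1, Or.inr (Or.inr (Or.inr (mul_inv_cancel_left _ _).symm))⟩

/-- `Y` is abelian. -/
theorem Y_comm {x y : G} (hx : x ∈ Y) (hy : y ∈ Y) : x * y = y * x := by
  by_cases hxA : x ∈ A
  · exact hD.A_central h hxA (hD.Y_le h hY hy)
  have hx1 := hD.n_Y h hY hx
  set x1 := n * x * n⁻¹ with hx1def
  have hxN := hD.Y_le h hY hx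
  have hx1N := hD.Y_le h hY hx1
  set c := x * x1 * x⁻¹ * x1⁻¹ with hc
  have hcA : c ∈ A := hD.NS_comm h hxN hx1N
  -- `x2 = (x x1)⁻¹ a`
  set x2 := n * x1 * n⁻¹ with hx2
  set a := sigma n x with ha
  have haA : a ∈ A := ((hD.mem_Y h hY).1 hx).2
  have e2 : x2 = (x * x1)⁻¹ * a := by rw [ha, sigma, hx2, hx1def]; group
  have hnc : n * c * n⁻¹ = c := by
    have ca : Commute a x1 := hD.A_central h haA hx1N
    have cc : Commute c x1⁻¹ := hD.A_central h hcA (inv_mem hx1N)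
    calc n * c * n⁻¹ = x1 * x2 * x1⁻¹ * x2⁻¹ := by rw [hc, hx2, hx1def]; group
      _ = x1 * x1⁻¹ * x⁻¹ * (a * x1⁻¹) * (a⁻¹ * (x * x1)) := by rw [e2]; group
      _ = x⁻¹ * x1⁻¹ * x * x1 := by rw [ca.inv_right.eq]; group
      _ = x1⁻¹ * (x⁻¹ * c * x) * x1 := by rw [hc]; group
      _ = c := by
        rw [mul_assoc x⁻¹, (hD.A_central h hcA hxN).eq, inv_mul_cancel_left, mul_assoc,
          (hD.A_central h hcA hx1N).eq, inv_mul_cancel_left]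
  have hc1 : c = 1 := by
    by_contra hc1
    exact (h.moving_cycle hD.n_norm hD.n_move hcA hc1).1 hnc
  rw [hc, mul_inv_eq_one, mul_inv_eq_iff_eq_mul] at hc1
  obtain ⟨b, hb, e1 | e1 | e1 | e1⟩ := hD.Y_cases h hY hx hxA hy <;> rw [e1]
  · exact ((hD.A_central h hb hxN).symm).eq
  · exact ((Commute.refl x).mul_right (hD.A_central h hb hxN).symm).eq
  · exact ((show Commute x x1 from hc1).mul_right (hD.A_central h hb hxN).symm).eq
  · exact (((Commute.refl x).mul_right (show Commute x x1 from hc1)).mul_right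
      (hD.A_central h hb hxN).symm).eq

/-- `Y` pairs non-degenerately with `T ⧸ A`. -/
theorem pair {y t : G} (hy : y ∈ Y) (hyA : y ∉ A) (ht : t ∈ CS S e) (htA : t ∉ A) : y * t ≠ t * y :=
  fun h1 => hyA (hD.Y_T h hY hy (hD.top.NS_mem_of_comm h hD.lt (hD.Y_le h hY hy) ht htA h1))

/-- Squares of `Y` and commutators with a fixed element agree if they do at one point. -/
theorem sq_eq_comm {r : G} (hr : r ∈ CS S e) (hnr : n * r = r * n) {y0 : G} (hy0 : y0 ∈ Y)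
    (hy0A : y0 ∉ A) (he0 : y0 * y0 = y0 * r * y0⁻¹ * r⁻¹) {y : G} (hy : y ∈ Y) :
    y * y = y * r * y⁻¹ * r⁻¹ := by
  have hmul : ∀ x ∈ Y, ∀ z ∈ Y, x * x = x * r * x⁻¹ * r⁻¹ → z * z = z * r * z⁻¹ * r⁻¹ →
      x * z * (x * z) = x * z * r * (x * z)⁻¹ * r⁻¹ := by
    intro x hx z hz ex ez
    have hzA : z * r * z⁻¹ * r⁻¹ ∈ A := hD.top.NS_triv h hD.lt (hD.Y_le h hY hz) hr
    have hxA : x * r * x⁻¹ * r⁻¹ ∈ A := hD.top.NS_triv h hD.lt (hD.Y_le h hY hx) hr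
    calc x * z * (x * z) = x * x * (z * z) := by
          rw [mul_assoc, ← mul_assoc z x z, hD.Y_comm h hY hz hx]; group
      _ = (z * r * z⁻¹ * r⁻¹) * (x * r * x⁻¹ * r⁻¹) := by rw [ex, ez, h.comm hxA hzA]
      _ = x * (z * r * z⁻¹ * r⁻¹) * x⁻¹ * (x * r * x⁻¹ * r⁻¹) := by
          rw [← (hD.A_central h hzA (hD.Y_le h hY hx)).eq, mul_inv_cancel_right]
      _ = _ := by group
  have hA : ∀ a ∈ A, a * a = a * r * a⁻¹ * r⁻¹ := fun a ha => by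
    rw [h.sq ha, (hD.A_central h ha (CS_le_NS e hr)).eq, mul_inv_cancel_right, mul_inv_cancel]
  have h1 : (n * y0 * n⁻¹) * (n * y0 * n⁻¹) = (n * y0 * n⁻¹) * r * (n * y0 * n⁻¹)⁻¹ * r⁻¹ := by
    have e1 : n⁻¹ * r * n = r := by rw [mul_assoc, ← hnr, inv_mul_cancel_left]
    have e2 : n * r⁻¹ * n⁻¹ = r⁻¹ := by
      rw [(show Commute n r from hnr).inv_right.eq, mul_inv_cancel_right]
    calc (n * y0 * n⁻¹) * (n * y0 * n⁻¹) = n * (y0 * y0) * n⁻¹ := by group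
      _ = n * y0 * r * y0⁻¹ * n⁻¹ * (n * r⁻¹ * n⁻¹) := by rw [he0]; group
      _ = n * y0 * (n⁻¹ * r * n) * y0⁻¹ * n⁻¹ * r⁻¹ := by rw [e1, e2]
      _ = _ := by group
  have hy1 := hD.n_Y h hY hy0
  obtain ⟨b, hb, e1 | e1 | e1 | e1⟩ := hD.Y_cases h hY hy0 hy0A hy <;> rw [e1]
  · exact hA b hb
  · exact hmul _ hy0 _ (hD.A_le_Y h hY hb) he0 (hA b hb)
  · exact hmul _ hy1 _ (hD.A_le_Y h hY hb) h1 (hA b hb)
  · exact hmul _ (mul_mem hy0 hy1) _ (hD.A_le_Y h hY hb) (hmul _ hy0 _ hy1 he0 h1) (hA b hb)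

/-- `Y` is elementary or its involutions lie in `A`. -/
theorem Y_type : (∀ y ∈ Y, y * y = 1) ∨ ∀ y ∈ Y, y * y = 1 → y ∈ A := by
  by_cases hex : ∃ y0 ∈ Y, y0 ∉ A ∧ y0 * y0 = 1
  · obtain ⟨y0, hy0, hy0A, he0⟩ := hex
    refine Or.inl fun y hy => ?_
    have := hD.sq_eq_comm h hY (one_mem (CS S e)) (by rw [mul_one, one_mul]) hy0 hy0A
      (by rw [he0, mul_one, mul_inv_cancel, inv_one, mul_one]) hy
    rwa [mul_one, mul_inv_cancel, inv_one, mul_one] at this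
  · exact Or.inr fun y hy hyy => by_contra fun hyA => hex ⟨y, hy, hyA, hyy⟩

omit hY in
/-- `T` is `A` times the fixed points of `n`. -/
theorem T_fixed {t : G} (ht : t ∈ CS S e) : ∃ a ∈ A, ∃ r ∈ CS S e, n * r = r * n ∧ t = a * r := by
  obtain ⟨a, ha, hae⟩ := h.exists_comm_eq hD.n_norm hD.n_move (hD.n_triv t ht)
  refine ⟨a, ha, a⁻¹ * t, mul_mem (inv_mem (hD.A_le h ha)) ht, ?_, (mul_inv_cancel_left a t).symm⟩
  have h1 := hD.T_comm h (mul_mem (hD.n_T_mem h ht) (inv_mem ht)) ht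
  have h2 : n * a * n⁻¹ = (n * t * n⁻¹ * t⁻¹) * a := by rw [← hae]; group
  rw [← mul_inv_eq_iff_eq_mul]
  calc n * (a⁻¹ * t) * n⁻¹ = (n * a * n⁻¹)⁻¹ * (n * t * n⁻¹) := by group
    _ = a⁻¹ * ((n * t * n⁻¹ * t⁻¹)⁻¹ * (n * t * n⁻¹)) := by rw [h2]; group
    _ = a⁻¹ * t := by group

end Deep

end Cfsg.Agent.Gold1169.Two
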