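import Cfsg.Agent.Lib.Gold1169.Two.Frame
import Cfsg.Agent.S0215

/-!
The case `T = S`: `A` has an `N(A)`-equivariant retraction, so the complement `R` is strongly closed, and a
four-group of `R` together with `A` gives a family whose closure is absurd.
-/

set_option autoImplicit false
set_option linter.style.haveILetI false
set_option linter.unusedSectionVars false

namespace Cfsg.Agent.Gold1169.Two

open Subgroup
open Cfsg.Agent.Walter4 (cen cenS ocen cor XB pre CA mem_pre cor_zpowers pre_le)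
open Cfsg.Agent.OddDown.CoreSep (q im mem_im)
open scoped commutatorElement

universe u

attribute [local instance] FittingCores.pPrimeCore_normal

variable {G : Type u} [Group G] [Finite G] {S : Sylow 2 G} {A : Subgroup G}

namespace Ctx

variable (h : Ctx S A)
include h

/-- The points of `A#` form an orbit of `n`. -/
theorem orbit_prod {n : G} (hn : n ∈ normalizer (A : Set G)) (hnc : n ∉ centralizer (A : Set G)) {a : G}
    (ha : a ∈ A) : a * (n * a * n⁻¹) * (n * (n * a * n⁻¹) * n⁻¹) = 1 := by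
  by_cases ha1 : a = 1
  · simp [ha1]
  obtain ⟨-, e⟩ := h.moving_cycle hn hnc ha ha1
  rw [e, h.sq (mul_mem ha ((h.set.conj_mem_iff hn).1 ha))]

theorem pow_three_mem {n : G} (hn : n ∈ normalizer (A : Set G)) (hnc : n ∉ centralizer (A : Set G)) :
    n ^ 3 ∈ centralizer (A : Set G) := by
  refine mem_centralizer_iff.2 fun a ha => ?_
  have hb : n * a * n⁻¹ ∈ A := (h.set.conj_mem_iff hn).1 ha
  have h1 := h.orbit_prod hn hnc ha
  have h2 := h.orbit_prod hn hnc hb
  have hc : n * (n * a * n⁻¹) * n⁻¹ ∈ A := (h.set.conj_mem_iff hn).1 hb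
  have hd : n * (n * (n * a * n⁻¹) * n⁻¹) * n⁻¹ ∈ A := (h.set.conj_mem_iff hn).1 hc
  have e : n * (n * (n * a * n⁻¹) * n⁻¹) * n⁻¹ = a := by
    rw [mul_assoc, h.comm ha (mul_mem hb hc)] at h1
    exact mul_left_cancel (h2.trans h1.symm)
  refine (mul_inv_eq_iff_eq_mul.1 ?_).symm
  calc n ^ 3 * a * (n ^ 3)⁻¹ = n * (n * (n * a * n⁻¹) * n⁻¹) * n⁻¹ := by
        simp only [pow_succ, pow_zero, one_mul, mul_inv_rev, mul_assoc]
    _ = a := e

/-- `N(A) = C(A)⟨n⟩`. -/
theorem exists_pow_mul {n g : G} (hn : n ∈ normalizer (A : Set G)) (hnc : n ∉ centralizer (A : Set G))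
    (hg : g ∈ normalizer (A : Set G)) : ∃ i : ℕ, (n ^ i)⁻¹ * g ∈ centralizer (A : Set G) := by
  obtain ⟨a, ha, ha1⟩ := A.bot_or_exists_ne_one.resolve_left h.ne_bot
  set b := n * a * n⁻¹ with hb
  have hbA : b ∈ A := (h.set.conj_mem_iff hn).1 ha
  have hb1 : b ≠ 1 := fun e => ha1 (conj_eq_one_iff.1 e)
  obtain ⟨hba, e2⟩ := h.moving_cycle hn hnc ha ha1
  rw [← hb] at hba e2
  obtain ⟨i, hi⟩ : ∃ i : ℕ, g * a * g⁻¹ = n ^ i * a * (n ^ i)⁻¹ := by
    rcases h.cases_four ha hbA ha1 hb1 (Ne.symm hba) ((h.set.conj_mem_iff hg).1 ha) with e | e | e | e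
    · exact absurd (conj_eq_one_iff.1 e) ha1
    · exact ⟨0, by rw [e, pow_zero, one_mul, inv_one, mul_one]⟩
    · exact ⟨1, by rw [e, pow_one]⟩
    · exact ⟨2, by rw [e, ← e2, hb, pow_two]; group⟩
  refine ⟨i, h.centralizes_of_fix (mul_mem (inv_mem (pow_mem hn i)) hg) ha ha1 ?_⟩
  calc (n ^ i)⁻¹ * g * a * ((n ^ i)⁻¹ * g)⁻¹ = (n ^ i)⁻¹ * (g * a * g⁻¹) * n ^ i := by group
    _ = a := by rw [hi]; group

end Ctx

/-- An equivariant retraction of `C(A)` onto `A`. -/
structure Retr (A : Subgroup G) (π : G → G) : Prop where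
  mem : ∀ x ∈ centralizer (A : Set G), π x ∈ A
  mul : ∀ x ∈ centralizer (A : Set G), ∀ y ∈ centralizer (A : Set G), π (x * y) = π x * π y
  id : ∀ a ∈ A, π a = a
  equiv : ∀ g ∈ normalizer (A : Set G), ∀ x ∈ centralizer (A : Set G), π (g * x * g⁻¹) = g * π x * g⁻¹

theorem Retr.odd_eq_one {π : G → G} (hπ : Retr A π) (h : Ctx S A) {x : G}
    (hx : x ∈ centralizer (A : Set G)) (ho : Odd (orderOf x)) : π x = 1 := by
  have h1 : ∀ m : ℕ, π (x ^ m) = π x ^ m := by
    intro m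
    induction m with
    | zero => rw [pow_zero, pow_zero, hπ.id 1 (one_mem A)]
    | succ m ih => rw [pow_succ, pow_succ, hπ.mul _ (pow_mem hx m) _ hx, ih]
  have h2 := h1 (orderOf x)
  rw [pow_orderOf_eq_one, hπ.id 1 (one_mem A)] at h2
  refine KindPf.eq_one_of_pow_odd ho (h.sq (hπ.mem x hx)) h2.symm

namespace Frame

variable {e : G} {L : Subgroup (XB (zpowers e))} {n : G} (hF : Frame S A e L n) (h : Ctx S A)
include hF h

theorem R_le_cenA : RS S e L ≤ centralizer (A : Set G) := inf_le_left.trans (h.CS_le_cenA e)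

theorem A_le_CS : A ≤ CS S e := h.le_CS hF.top.spec.2.1

/-- The retraction when `T = S`. -/
theorem exists_retr (hTS : CS S e = (S : Subgroup G)) :
    ∃ π : G → G, Retr A π ∧ ∀ r ∈ RS S e L, π r = 1 := by
  classical
  haveI : Fact (Nat.Prime 2) := ⟨Nat.prime_two⟩
  letI : CommGroup ↥A :=
    { (inferInstance : Group ↥A) with mul_comm := fun a b => Subtype.ext (h.comm a.2 b.2) }
  set C := centralizer (A : Set G) with hC
  set R := RS S e L with hR
  have hSC : (S : Subgroup G) ≤ C := h.S_le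
  have hdec : ∀ s : ↥((S : Subgroup G).subgroupOf C), ∃ a : ↥A, (a : G)⁻¹ * ((s : ↥C) : G) ∈ R := by
    intro s
    obtain ⟨a, ha, r, hr, e1⟩ := hF.prod ((s : ↥C) : G) (by rw [hTS]; exact mem_subgroupOf.1 s.2)
    exact ⟨⟨a, ha⟩, by rw [e1, inv_mul_cancel_left]; exact hr⟩
  choose f hf using hdec
  have huniq : ∀ (s : ↥((S : Subgroup G).subgroupOf C)) (a : ↥A),
      (a : G)⁻¹ * ((s : ↥C) : G) ∈ R → f s = a := by
    intro s a ha
    have h1 := R.mul_mem (hf s) (R.inv_mem ha)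
    rw [show ((f s : ↥A) : G)⁻¹ * ((s : ↥C) : G) * ((a : G)⁻¹ * ((s : ↥C) : G))⁻¹ =
      ((f s : ↥A) : G)⁻¹ * a by group] at h1
    have h2 : ((f s : ↥A) : G)⁻¹ * a ∈ A ⊓ R := ⟨A.mul_mem (A.inv_mem (f s).2) a.2, h1⟩
    rw [hF.meet, mem_bot, inv_mul_eq_one] at h2
    exact Subtype.ext h2
  let φ : ↥((S : Subgroup G).subgroupOf C) →* ↥A :=
    { toFun := f
      map_one' := huniq 1 1 (by simp)
      map_mul' := fun s t => huniq (s * t) (f s * f t) (by
        have ht : Commute ((s : ↥C) : G) (f t : G) :=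
          (mem_centralizer_iff.1 ((s : ↥C)).2 _ (f t).2).symm
        have e1 : ((f s * f t : ↥A) : G)⁻¹ * (((s * t : ↥((S : Subgroup G).subgroupOf C)) : ↥C) : G) =
            ((f s : ↥A) : G)⁻¹ * ((s : ↥C) : G) * (((f t : ↥A) : G)⁻¹ * ((t : ↥C) : G)) := by
          rw [show (f s * f t : ↥A) = f t * f s from mul_comm _ _]
          push_cast
          rw [mul_inv_rev]
          calc ((f s : ↥A) : G)⁻¹ * ((f t : ↥A) : G)⁻¹ * (((s : ↥C) : G) * ((t : ↥C) : G))
              = ((f s : ↥A) : G)⁻¹ * (((f t : ↥A) : G)⁻¹ * ((s : ↥C) : G)) * ((t : ↥C) : G) := by group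
            _ = ((f s : ↥A) : G)⁻¹ * (((s : ↥C) : G) * ((f t : ↥A) : G)⁻¹) * ((t : ↥C) : G) := by
                rw [(ht.inv_right).eq]
            _ = _ := by group
        rw [e1]
        exact R.mul_mem (hf s) (hf t)) }
  let τ₀ : ↥C →* ↥A := MonoidHom.transfer φ
  let τ : G → G := fun x => if hx : x ∈ C then (τ₀ ⟨x, hx⟩ : G) else 1
  have hτA : ∀ x, τ x ∈ A := fun x => by
    simp only [τ]
    split
    · exact (τ₀ _).2
    · exact one_mem A
  have hτm : ∀ x ∈ C, ∀ y ∈ C, τ (x * y) = τ x * τ y := fun x hx y hy => by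
    simp only [τ, dif_pos hx, dif_pos hy, dif_pos (mul_mem hx hy)]
    rw [← Subgroup.coe_mul, ← map_mul]
    rfl
  have hidx : Odd ((S : Subgroup G).subgroupOf C).index :=
    Nat.odd_iff.2 (Nat.two_dvd_ne_zero.1 (S.subtype hSC).not_dvd_index)
  have hτid : ∀ a ∈ A, τ a = a := by
    intro a ha
    have haC : a ∈ C := h.set.le ha |> fun h' => hSC h'
    have key : ∀ (k : ℕ) (g₀ : ↥C), g₀⁻¹ * (⟨a, haC⟩ : ↥C) ^ k * g₀ ∈ (S : Subgroup G).subgroupOf C →
        g₀⁻¹ * (⟨a, haC⟩ : ↥C) ^ k * g₀ = (⟨a, haC⟩ : ↥C) ^ k := fun k g₀ _ => by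
      have hc : Commute (g₀ : ↥C) ((⟨a, haC⟩ : ↥C) ^ k) :=
        Commute.pow_right (Subtype.ext (mem_centralizer_iff.1 g₀.2 a ha).symm) k
      rw [mul_assoc, ← hc.eq, inv_mul_cancel_left]
    simp only [τ, dif_pos haC]
    rw [show τ₀ ⟨a, haC⟩ = _ from MonoidHom.transfer_eq_pow φ ⟨a, haC⟩ key]
    have hpow : (⟨a, haC⟩ : ↥C) ^ ((S : Subgroup G).subgroupOf C).index = ⟨a, haC⟩ := by
      obtain ⟨j, hj⟩ := hidx
      rw [hj, pow_succ, pow_mul, pow_two, show (⟨a, haC⟩ : ↥C) * ⟨a, haC⟩ = 1 from Subtype.ext (h.sq ha),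
        one_pow, one_mul]
    refine congrArg Subtype.val (huniq _ ⟨a, ha⟩ ?_ : φ _ = ⟨a, ha⟩)
    show a⁻¹ * (((⟨a, haC⟩ : ↥C) ^ ((S : Subgroup G).subgroupOf C).index : ↥C) : G) ∈ R
    rw [hpow]
    show a⁻¹ * a ∈ R
    rw [inv_mul_cancel]
    exact one_mem R
  have hconjC : ∀ g ∈ normalizer (A : Set G), ∀ x ∈ C, g * x * g⁻¹ ∈ C := fun g hg x hx => by
    refine mem_centralizer_iff.2 fun a ha => ?_
    have hb : g⁻¹ * a * g ∈ A := (h.set.conj_mem_iff hg).2 (by
      rwa [show g * (g⁻¹ * a * g) * g⁻¹ = a by group])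
    calc a * (g * x * g⁻¹) = g * ((g⁻¹ * a * g) * x) * g⁻¹ := by group
      _ = g * (x * (g⁻¹ * a * g)) * g⁻¹ := by rw [mem_centralizer_iff.1 hx _ hb]
      _ = g * x * g⁻¹ * a := by group
  have hτC : ∀ c ∈ C, ∀ x ∈ C, τ (c * x * c⁻¹) = τ x := fun c hc x hx => by
    have h1 := hτm _ (mul_mem (mul_mem hc hx) (inv_mem hc)) c hc
    rw [inv_mul_cancel_right, hτm c hc x hx, h.comm (hτA c) (hτA x)] at h1
    exact (mul_right_cancel h1).symm
  have hn := hF.n_norm
  have hni := inv_mem hn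
  set d : G → G := fun x => n⁻¹ * x * n with hd
  have hdC : ∀ x ∈ C, d x ∈ C := fun x hx => by
    have := hconjC _ hni x hx
    rwa [inv_inv] at this
  have hdA : ∀ a ∈ A, d a ∈ A := fun a ha => by
    have := (h.set.conj_mem_iff hni).1 ha
    rwa [inv_inv] at this
  set π : G → G := fun x => τ x * (n * τ (d x) * n⁻¹) * (n * (n * τ (d (d x)) * n⁻¹) * n⁻¹) with hπ
  have hcA : ∀ a ∈ A, n * a * n⁻¹ ∈ A := fun a ha => (h.set.conj_mem_iff hn).1 ha
  have hπA : ∀ x, π x ∈ A := fun x =>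
    mul_mem (mul_mem (hτA _) (hcA _ (hτA _))) (hcA _ (hcA _ (hτA _)))
  have hπC : ∀ c ∈ C, ∀ x ∈ C, π (c * x * c⁻¹) = π x := fun c hc x hx => by
    have e1 : ∀ y z : G, d (y * z * y⁻¹) = d y * d z * (d y)⁻¹ := fun y z => by simp only [hd]; group
    simp only [hπ, e1]
    rw [hτC c hc x hx, hτC _ (hdC c hc) _ (hdC x hx), hτC _ (hdC _ (hdC c hc)) _ (hdC _ (hdC x hx))]
  have hπn : ∀ x ∈ C, π (n * x * n⁻¹) = n * π x * n⁻¹ := fun x hx => by
    have hx' := hconjC _ hn x hx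
    have hdx : d (n * x * n⁻¹) = x := by simp only [hd]; group
    have e3 : τ (d (d x)) = τ (n * x * n⁻¹) := by
      rw [← hτC _ (h.pow_three_mem hn hF.n_move) _ (hdC _ (hdC x hx))]
      refine congrArg τ ?_
      simp only [hd]
      group
    have h3 : ∀ a ∈ A, n * (n * (n * a * n⁻¹) * n⁻¹) * n⁻¹ = a := fun a ha => by
      have := mem_centralizer_iff.1 (h.pow_three_mem hn hF.n_move) a ha
      calc n * (n * (n * a * n⁻¹) * n⁻¹) * n⁻¹ = n ^ 3 * a * (n ^ 3)⁻¹ := by
            simp only [pow_succ, pow_zero, one_mul, mul_inv_rev, mul_assoc]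
        _ = a := by rw [← this, mul_inv_cancel_right]
    have hp := hcA _ (hτA x)
    have hp2 := hcA _ (hcA _ (hτA (d x)))
    simp only [hπ, hdx]
    rw [e3, conj_mul_three (p := τ x) (q := n * τ (d x) * n⁻¹), h3 _ (hτA _), mul_assoc (τ (n * x * n⁻¹)),
      h.comm (hτA _) (mul_mem hp hp2)]
  refine ⟨π, ⟨fun x _ => hπA x, fun x hx y hy => ?_, fun a ha => ?_, fun g hg x hx => ?_⟩, fun r hr => ?_⟩
  · have e1 : ∀ y z : G, d (y * z) = d y * d z := fun y z => by simp only [hd]; group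
    simp only [hπ, e1]
    rw [hτm x hx y hy, hτm _ (hdC x hx) _ (hdC y hy), hτm _ (hdC _ (hdC x hx)) _ (hdC _ (hdC y hy))]
    have c1 : Commute (τ y) (n * τ (d x) * n⁻¹) := h.comm (hτA _) (hcA _ (hτA _))
    have c2 : Commute (τ y * (n * τ (d y) * n⁻¹)) (n * (n * τ (d (d x)) * n⁻¹) * n⁻¹) :=
      h.comm (mul_mem (hτA _) (hcA _ (hτA _))) (hcA _ (hcA _ (hτA _)))
    calc τ x * τ y * (n * (τ (d x) * τ (d y)) * n⁻¹) *
          (n * (n * (τ (d (d x)) * τ (d (d y))) * n⁻¹) * n⁻¹)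
        = τ x * (τ y * (n * τ (d x) * n⁻¹)) * (n * τ (d y) * n⁻¹) *
          (n * (n * τ (d (d x)) * n⁻¹) * n⁻¹) * (n * (n * τ (d (d y)) * n⁻¹) * n⁻¹) := by group
      _ = τ x * (n * τ (d x) * n⁻¹) * ((τ y * (n * τ (d y) * n⁻¹)) *
          (n * (n * τ (d (d x)) * n⁻¹) * n⁻¹)) * (n * (n * τ (d (d y)) * n⁻¹) * n⁻¹) := by
            rw [c1.eq]; group
      _ = _ := by rw [c2.eq]; group
  · simp only [hπ]
    rw [hτid a ha, hτid _ (hdA a ha), hτid _ (hdA _ (hdA a ha)),
      show n * d a * n⁻¹ = a by simp only [hd]; group,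
      show n * (n * d (d a) * n⁻¹) * n⁻¹ = a by simp only [hd]; group, h.sq ha, one_mul]
  · obtain ⟨i, hi⟩ := h.exists_pow_mul hn hF.n_move hg
    set c := (n ^ i)⁻¹ * g with hc
    have hpow : ∀ j : ℕ, ∀ y ∈ C, π (n ^ j * y * (n ^ j)⁻¹) = n ^ j * π y * (n ^ j)⁻¹ := by
      intro j
      induction j with
      | zero => intro y _; simp
      | succ j ih =>
        intro y hy
        rw [show n ^ (j + 1) * y * (n ^ (j + 1))⁻¹ = n * (n ^ j * y * (n ^ j)⁻¹) * n⁻¹ by
            rw [pow_succ']; group,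
          hπn _ (hconjC _ (pow_mem hn j) y hy), ih y hy]
        rw [pow_succ']; group
    have e1 : g = n ^ i * c := by rw [hc, mul_inv_cancel_left]
    have e2 : c * π x * c⁻¹ = π x := by
      rw [← mem_centralizer_iff.1 hi _ (hπA x), mul_inv_cancel_right]
    calc π (g * x * g⁻¹) = π (n ^ i * (c * x * c⁻¹) * (n ^ i)⁻¹) := by rw [e1]; congr 1; group
      _ = n ^ i * π x * (n ^ i)⁻¹ := by
          rw [hpow i _ (mul_mem (mul_mem hi hx) (inv_mem hi)), hπC c hi x hx]
      _ = n ^ i * (c * π x * c⁻¹) * (n ^ i)⁻¹ := by rw [e2]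
      _ = g * π x * g⁻¹ := by rw [e1]; group
  · have e1 : d r = r := by
      simp only [hd]
      rw [mul_assoc, ← hF.n_R r hr, inv_mul_cancel_left]
    simp only [hπ, e1]
    exact h.orbit_prod hn hF.n_move (hτA r)
where
  conj_mul_three {n p q r : G} : n * (p * q * r) * n⁻¹ = (n * p * n⁻¹) * (n * q * n⁻¹) * (n * r * n⁻¹) := by
    group

theorem closed_R (hTS : CS S e = (S : Subgroup G)) {π : G → G} (hπ : Retr A π)
    (hπR : ∀ r ∈ RS S e L, π r = 1) : Cfsg.IsStronglyClosed (RS S e L) (S : Subgroup G) := by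
  refine ⟨inf_le_left.trans inf_le_left, fun x hx g hg => ?_⟩
  have hxS : x ∈ (S : Subgroup G) := hx.1.1
  obtain ⟨n', hn', he⟩ := h.set.control {x} (fun y hy => by obtain rfl := hy; exact hxS) (g := g)
    (fun y hy => by obtain rfl := hy; exact hg)
  obtain ⟨a, ha, r, hr, e1⟩ := hF.prod _ (show g * x * g⁻¹ ∈ CS S e by rw [hTS]; exact hg)
  have h2 : π (g * x * g⁻¹) = 1 := by
    rw [he x rfl, hπ.equiv n' hn' x (hF.R_le_cenA h hx), hπR x hx, mul_one, mul_inv_cancel]
  rw [e1, hπ.mul a (h.set.le ha |> fun h' => h.S_le h') r (hF.R_le_cenA h hr), hπ.id a ha, hπR r hr,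
    mul_one] at h2
  rw [e1, h2, one_mul]
  exact hr

/-- A moved component is fixed by an involution of `R` commuting with its point. -/
theorem fixes_R {π : G → G} (hπ : Retr A π) (hπR : ∀ r ∈ RS S e L, π r = 1) {x : G} (hx2 : x * x = 1)
    (hxC : x ∈ centralizer (A : Set G)) (hxA : x ∉ A) {v : G} (hv : v ∈ RS S e L) (hv2 : v * v = 1)
    (hvx : v * x = x * v) {L' : Subgroup (XB (zpowers x))} (hL' : Moved A (zpowers x) L') :
    v ∈ pre (zpowers x) (centralizer (L' : Set (XB (zpowers x)))) := by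
  haveI : Fact (Nat.Prime 2) := ⟨Nat.prime_two⟩
  have hB := h.loc_invol hx2 hxC hxA
  obtain ⟨hAL, hCA⟩ := h.torus_eq hB hL'
  obtain ⟨K, _, _, ρ, TK, P, hk⟩ := exists_kmap h hB hL'
  obtain ⟨U, t, htU⟩ := h.loc.torus (zpowers x) hB L' hL'
  have hUA : U = A := eq_of_le_of_card_ge htU.le (h.card.trans_le htU.four)
  subst hUA
  have htm : t ∉ centralizer (U : Set G) := by
    intro htc
    obtain ⟨a, ha, ha1⟩ := U.bot_or_exists_ne_one.resolve_left h.ne_bot
    obtain ⟨b, hb, hb1, hba⟩ := h.exists_ne a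
    obtain ⟨i, hi⟩ := htU.trans a ha ha1 b hb hb1
    refine hba (hi.symm.trans ?_)
    rw [← mem_centralizer_iff.1 (pow_mem htc i) a ha, mul_inv_cancel_right]
  -- the kernel of the action is killed by `π`
  have hπker : ∀ c ∈ centralizer (U : Set G),
      c ∈ pre (zpowers x) (centralizer (L' : Set (XB (zpowers x)))) → π c = 1 := by
    intro c hcA hc
    have h1 : c * t * c⁻¹ * t⁻¹ ∈ cor (zpowers x) := comm_mem_cor hc htU.mem
    have h2 : t * c⁻¹ * t⁻¹ ∈ centralizer (U : Set G) := by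
      refine mem_centralizer_iff.2 fun a ha => ?_
      have hb : t⁻¹ * a * t ∈ U := (h.set.conj_mem_iff htU.norm).2 (by
        rwa [show t * (t⁻¹ * a * t) * t⁻¹ = a by group])
      calc a * (t * c⁻¹ * t⁻¹) = t * ((t⁻¹ * a * t) * c⁻¹) * t⁻¹ := by group
        _ = t * (c⁻¹ * (t⁻¹ * a * t)) * t⁻¹ := by rw [mem_centralizer_iff.1 (inv_mem hcA) _ hb]
        _ = t * c⁻¹ * t⁻¹ * a := by group
    have h3 : π (c * (t * c⁻¹ * t⁻¹)) = 1 := hπ.odd_eq_one h (mul_mem hcA h2) (by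
      rw [show c * (t * c⁻¹ * t⁻¹) = c * t * c⁻¹ * t⁻¹ by group]
      exact ClosedAbelian.odd_orderOf_of_mem (Walter4.cor_odd _) h1)
    have hp := hπ.mem c hcA
    have h5 : π c⁻¹ = (π c)⁻¹ := by
      have := hπ.mul c hcA c⁻¹ (inv_mem hcA)
      rw [mul_inv_cancel, hπ.id 1 (one_mem _)] at this
      exact (inv_eq_of_mul_eq_one_right this.symm).symm
    rw [hπ.mul _ hcA _ h2, hπ.equiv t htU.norm _ (inv_mem hcA), h5, h.inv_eq hp] at h3
    by_contra hne
    refine (h.moving_cycle htU.norm htm hp hne).1 ?_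
    exact (mul_left_cancel (h3.trans (h.sq hp).symm))
  obtain ⟨That, hT, hAT, hTA⟩ := hk.sylow
  have hTK : (TK : Subgroup K) ≤ P := by
    intro y hy
    by_contra hyP
    obtain ⟨k, hk'⟩ := TK.isPGroup' ⟨y, hy⟩
    have hk'' : y ^ 2 ^ k = 1 := congrArg Subtype.val hk'
    obtain ⟨z, hz, hzP, hzz⟩ : ∃ z ∈ (TK : Subgroup K), z ∉ P ∧ z * z ∈ P := by
      by_contra hno
      push Not at hno
      have : ∀ j : ℕ, y ^ 2 ^ j ∉ P := by
        intro j
        induction j with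
        | zero => rwa [pow_zero, pow_one]
        | succ j ih =>
          rw [pow_succ, pow_mul, pow_two]
          exact hno _ (pow_mem hy _) ih
      exact this k (hk''.symm ▸ one_mem P)
    obtain ⟨al, hal, hze⟩ : z * z ∈ (U.subgroupOf (pre (zpowers x) L')).map ρ := hk.map.symm ▸ hzz
    have hala : (al : G) ∈ U := hal
    rw [hT] at hz
    obtain ⟨zl, hzl, rfl⟩ := hz
    have hzC := hTA zl hzl
    set c : ↥(pre (zpowers x) L') := al⁻¹ * (zl * zl) with hc
    have hcC : (c : G) ∈ centralizer (U : Set G) :=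
      mul_mem (inv_mem (h.set.le hala |> fun h' => h.S_le h')) (mul_mem hzC hzC)
    have hc1 : π (c : G) = 1 := hπker _ hcC ((hk.ker c).1 (by
      rw [hc, map_mul, map_inv, hze, map_mul, inv_mul_cancel]))
    have e1 : π ((zl : G) * zl) = al := by
      rw [show (zl : G) * zl = (al : G) * (c : G) by rw [hc]; push_cast; group,
        hπ.mul _ (h.set.le hala |> fun h' => h.S_le h') _ hcC, hπ.id _ hala, hc1, mul_one]
    rw [hπ.mul _ hzC _ hzC, h.sq (hπ.mem _ hzC)] at e1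
    refine hzP ((hk.facts.mem_iff _ (hT ▸ mem_map_of_mem ρ hzl)).1 ?_)
    rw [← hze, show al = 1 from Subtype.ext e1.symm, map_one]
  -- the action of `v` is inner
  have hvC := hF.R_le_cenA h hv
  have hvB : v ∈ cenS (zpowers x) := mem_cenS_zpowers.2 hvx
  have hO : zpowers v ≤ cenS (zpowers x) := zpowers_le.2 hvB
  have hOn : ∀ o : G, ∀ ho : o ∈ zpowers v,
      q (cenS (zpowers x)) ⟨o, hO ho⟩ ∈ normalizer (L' : Set (XB (zpowers x))) := fun o ho =>
    h.normalizes hB hL' (centralizer_le_normalizer _ ((zpowers_le.2 hvC) ho)) (hO ho)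
  obtain ⟨Φ, hΦ⟩ := hk.exists_action h hB hL' (zpowers v) hO hOn
  set vO : ↥(zpowers v) := ⟨v, mem_zpowers v⟩ with hvO
  have hfix : ∀ pk ∈ P, Φ vO pk = pk := by
    intro pk hpk
    rw [← hk.map] at hpk
    obtain ⟨al, hal, rfl⟩ := hpk
    rw [hΦ]
    refine congrArg ρ (Subtype.ext ?_)
    show v * (al : G) * v⁻¹ = al
    rw [← mem_centralizer_iff.1 hvC (al : G) (show (al : G) ∈ U from hal), mul_inv_cancel_right]
  have hsq : Φ vO * Φ vO = 1 := by
    rw [← map_mul, show vO * vO = 1 from Subtype.ext hv2, map_one]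
  obtain ⟨pk, hpk, hinn⟩ := hk.facts.inner (Φ vO) hsq hfix fun y hy => by
    rw [hfix y (hTK hy), mul_inv_cancel]
    exact one_mem _
  rw [← hk.map] at hpk
  obtain ⟨al, hal, rfl⟩ := hpk
  have hala : (al : G) ∈ U := hal
  have halC : (al : G) ∈ centralizer (U : Set G) := h.S_le (h.set.le hala)
  set w : G := (al : G)⁻¹ * v with hw
  have hwC : w ∈ cenS (zpowers x) := mul_mem (inv_mem (pre_le al.2)) hvB
  have hwN : w ∈ normalizer (U : Set G) := centralizer_le_normalizer _ (mul_mem (inv_mem halC) hvC)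
  have hwc : w ∈ pre (zpowers x) (centralizer (L' : Set (XB (zpowers x)))) := by
    refine mem_pre.2 ⟨hwC, mem_centralizer_of_mod hL'.1 (h.normalizes hB hL' hwN hwC) fun z hz => ?_⟩
    obtain ⟨⟨y, hyC⟩, rfl⟩ := QuotientGroup.mk'_surjective _ z
    set yl : ↥(pre (zpowers x) L') := ⟨y, mem_pre.2 ⟨hyC, hz⟩⟩
    have h1 : ρ (⟨v * y * v⁻¹, normalizes_pre hvB (hOn v (mem_zpowers v)) yl.2⟩) = ρ (al * yl * al⁻¹) := by
      rw [← hΦ vO yl, hinn, MulAut.conj_apply, map_mul, map_mul, map_inv]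
    have hwy : w * y * w⁻¹ ∈ pre (zpowers x) L' := normalizes_pre hwC (h.normalizes hB hL' hwN hwC) yl.2
    have h2 : ρ (⟨w * y * w⁻¹, hwy⟩ * yl⁻¹) = 1 := by
      have e2 : (⟨w * y * w⁻¹, hwy⟩ : ↥(pre (zpowers x) L')) =
          al⁻¹ * ⟨v * y * v⁻¹, normalizes_pre hvB (hOn v (mem_zpowers v)) yl.2⟩ * al :=
        Subtype.ext (by
          show w * y * w⁻¹ = (al : G)⁻¹ * (v * y * v⁻¹) * al
          rw [hw]; group)
      rw [e2, map_mul, map_mul, map_mul, map_inv, map_inv, h1, map_mul, map_mul, map_inv]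
      group
    obtain ⟨_, h4⟩ := mem_pre.1 ((hk.ker _).1 h2)
    rw [← map_inv (q (cenS (zpowers x))), ← map_inv (q (cenS (zpowers x))), ← map_mul, ← map_mul, ← map_mul]
    exact h4
  have hp := hπker w (mul_mem (inv_mem halC) hvC) hwc
  rw [hw, hπ.mul _ (inv_mem halC) v hvC, hπR v hv, mul_one, hπ.id _ (inv_mem hala), inv_eq_one] at hp
  rwa [hw, hp, inv_one, one_mul] at hwc

/-- No configuration with `T = S`. -/
theorem false_of_split (hTS : CS S e = (S : Subgroup G)) : False := by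
  haveI := h.set.simple
  haveI : Fact (Nat.Prime 2) := ⟨Nat.prime_two⟩
  obtain ⟨π, hπ, hπR⟩ := hF.exists_retr h hTS
  obtain ⟨he2, heC, heA, -⟩ := hF.top.spec
  have he1 : e ≠ 1 := hF.top.spec.ne_one
  -- a second involution of `R`
  obtain ⟨v, hvR, hv2, hv1, hve⟩ : ∃ v ∈ RS S e L, v * v = 1 ∧ v ≠ 1 ∧ v ≠ e := by
    by_contra hno
    push Not at hno
    obtain ⟨N, hN, hodd, hcomm⟩ := Cfsg.Agent.S0215.result S e
      (orderOf_eq_prime (by rw [pow_two, he2]) he1) hF.top.memS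
      fun g hg => hno _ ((hF.closed_R h hTS hπ hπR).2 e hF.mem_R g hg) (by
        rw [conj_mul, he2, mul_one, mul_inv_cancel]) fun e' => he1 (conj_eq_one_iff.1 e')
    rcases hN.eq_bot_or_eq_top with hb | ht
    · refine h.set.cen_ne_top he1 (eq_top_iff.2 fun g _ => mem_centralizer_singleton_iff.2 ?_)
      have := hcomm g
      rw [hb, mem_bot] at this
      exact (commutatorElement_eq_one_iff_mul_comm.1 this).symm
    · rw [ht, card_top] at hodd
      have := orderOf_dvd_natCard e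
      rw [orderOf_eq_prime (by rw [pow_two, he2]) he1] at this
      exact (Nat.not_even_iff_odd.2 hodd) (even_iff_two_dvd.2 this)
  have hev : e * v = v * e := (mem_cen.1 (hvR.1.2)).symm
  set V := ext (zpowers e) v hv2 (mem_centralizer_iff.2 fun z hz => by
    obtain ⟨i, rfl⟩ := mem_zpowers_iff.1 hz
    exact (Commute.zpow_left hev i).eq) with hV
  have hzp : ∀ z ∈ zpowers e, z = 1 ∨ z = e := fun z hz => by
    obtain ⟨i, rfl⟩ := mem_zpowers_iff.1 hz
    rcases Int.even_or_odd i with ⟨j, rfl⟩ | ⟨j, rfl⟩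
    · exact Or.inl (by rw [← two_mul, zpow_mul, zpow_two, he2, one_zpow])
    · exact Or.inr (by rw [zpow_add, zpow_mul, zpow_two, he2, one_zpow, one_mul, zpow_one])
  have hVR : V ≤ RS S e L := by
    intro z hz
    rcases hz with hz | hz
    · rcases hzp z hz with e1 | e1 <;> rw [e1]
      exacts [one_mem _, hF.mem_R]
    · rcases hzp _ hz with e1 | e1
      · rw [mul_eq_one_iff_eq_inv.1 e1]; exact inv_mem hvR
      · rw [eq_mul_inv_of_mul_eq e1]; exact mul_mem hF.mem_R (inv_mem hvR)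
  have hV4 : 4 ≤ Nat.card V := by
    have hsub : ({1, e, v, e * v} : Set G) ⊆ (V : Set G) := by
      rintro z (e1 | e1 | e1 | e1) <;> (try rw [Set.mem_singleton_iff] at e1) <;> rw [e1]
      exacts [one_mem V, le_ext (mem_zpowers e), mem_ext, mul_mem (le_ext (mem_zpowers e)) mem_ext]
    have h1 : e * v ≠ 1 := fun e1 => hve (mul_left_cancel (e1.trans he2.symm))
    have h2 : e * v ≠ e := fun e1 => hv1 (mul_left_cancel (e1.trans (mul_one e).symm))
    have h3 : e * v ≠ v := fun e1 => he1 (mul_right_cancel (e1.trans (one_mul v).symm))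
    have := Set.ncard_le_ncard hsub
    rwa [Set.ncard_insert_of_notMem (by simp [Ne.symm he1, Ne.symm hv1, Ne.symm h1]),
      Set.ncard_eq_three.2 ⟨e, v, e * v, fun e1 => hve e1.symm, Ne.symm h2, Ne.symm h3, rfl⟩,
      ← Nat.card_coe_set_eq] at this
  have hVC : V ≤ centralizer (A : Set G) := hVR.trans (hF.R_le_cenA h)
  have hVn : V ≤ normalizer (A : Set G) := hVC.trans (centralizer_le_normalizer _)
  set E := A ⊔ V with hE
  have hEmem : ∀ x ∈ E, ∃ a ∈ A, ∃ w ∈ V, x = a * w := fun x hx =>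
    (SolvBasic.mem_sup_iff_of_le_normalizer hVn).1 hx
  have hcev : ∀ z ∈ V, Commute z e ∧ z * z = 1 ∧ Commute z v := by
    have hee : Commute e e := Commute.refl e
    have hve' : Commute v e := hev.symm
    intro z hz
    rcases hz with hz | hz
    · rcases hzp z hz with e1 | e1 <;> rw [e1]
      · exact ⟨Commute.one_left _, one_mul 1, Commute.one_left _⟩
      · exact ⟨hee, he2, hev⟩
    · rcases hzp _ hz with e1 | e1
      · have : z = v := (mul_eq_one_iff_eq_inv.1 e1).trans (inv_eq_of_mul_eq_one_right hv2)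
        subst this
        exact ⟨hve', hv2, Commute.refl _⟩
      · have : z = e * v := by
          rw [eq_mul_inv_of_mul_eq e1, inv_eq_of_mul_eq_one_right hv2]
        subst this
        refine ⟨hee.mul_left hve', ?_, (show Commute e v from hev).mul_left (Commute.refl v)⟩
        calc e * v * (e * v) = e * (v * e) * v := by group
          _ = e * e * (v * v) := by rw [← hev]; group
          _ = 1 := by rw [he2, hv2, one_mul]
  have hVc : ∀ y ∈ V, ∀ z ∈ V, Commute y z := by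
    intro y hy z hz
    obtain ⟨he', -, hv'⟩ := hcev y hy
    rcases hz with hz | hz
    · rcases hzp z hz with e1 | e1 <;> rw [e1]
      exacts [Commute.one_right _, he']
    · rcases hzp _ hz with e1 | e1
      · rw [mul_eq_one_iff_eq_inv.1 e1]; exact hv'.inv_right
      · rw [eq_mul_inv_of_mul_eq e1]; exact he'.mul_right hv'.inv_right
  have hAV : ∀ a ∈ A, ∀ z ∈ V, Commute a z := fun a ha z hz => mem_centralizer_iff.1 (hVC hz) a ha
  have hEc : ∀ x ∈ E, ∀ y ∈ E, x * y = y * x := by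
    intro x hx y hy
    obtain ⟨a, ha, w, hw, rfl⟩ := hEmem x hx
    obtain ⟨b, hb, z, hz, rfl⟩ := hEmem y hy
    exact (((show Commute a b from h.comm ha hb).mul_right (hAV a ha z hz)).mul_left
      ((hAV b hb w hw).symm.mul_right (hVc w hw z hz))).eq
  have hEsq : ∀ x ∈ E, x * x = 1 := by
    intro x hx
    obtain ⟨a, ha, w, hw, rfl⟩ := hEmem x hx
    calc a * w * (a * w) = a * (w * a) * w := by group
      _ = a * a * (w * w) := by rw [← (hAV a ha w hw).eq]; group
      _ = 1 := by rw [h.sq ha, (hcev w hw).2.1, one_mul]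
  have hea : Cfsg.IsElementaryAbelian 2 E :=
    ⟨⟨⟨fun x y => Subtype.ext (hEc x x.2 y y.2)⟩⟩, fun x hx => by rw [pow_two]; exact hEsq x hx⟩
  have hdisj : ∀ z ∈ V, z ∈ A → z = 1 := fun z hz hzA => by
    have h1 : z ∈ A ⊓ RS S e L := ⟨hzA, hVR hz⟩
    rwa [hF.meet, mem_bot] at h1
  have hbig : 8 ≤ Nat.card E := by
    have h3 := (A.subgroupOf E).card_mul_index
    rw [Nat.card_congr (subgroupOfEquivOfLe (show A ≤ E from le_sup_left)).toEquiv, h.card] at h3
    have h4 : (A.subgroupOf E).index ≠ 1 := fun e1 => he1 (hdisj e (le_ext (mem_zpowers e))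
      ((subgroupOf_eq_top.1 (index_eq_one.1 e1)) (mem_sup_right (le_ext (mem_zpowers e)))))
    have h5 := Subgroup.index_ne_zero_of_finite (H := A.subgroupOf E)
    have h6 : 4 * 2 ≤ 4 * (A.subgroupOf E).index := Nat.mul_le_mul_left 4 (by omega)
    omega
  have hEC : E ≤ centralizer (A : Set G) := sup_le (fun a ha => h.S_le (h.set.le ha)) hVC
  have hmoved : ∀ x ∈ E, x ≠ 1 → ∀ L' : Subgroup (XB (zpowers x)), Moved A (zpowers x) L' → Fixes V L' := by
    intro x hx hx1 L' hm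
    have hxA : x ∉ A := fun hxA =>
      h.not_moved (zpowers_le.2 hxA) (fun e1 => hx1 (zpowers_eq_bot.1 e1)) L' hm
    refine fixes_of_le fun z hz => ?_
    exact hF.fixes_R h hπ hπR (hEsq x hx) (hEC hx) hxA (hVR hz) ((hcev z hz).2.1)
      (hEc z (mem_sup_right hz) x hx) hm
  have hFam : Fam E {A, V} := by
    refine ⟨hea, hbig, ?_, ?_, fun P hP y hy hy1 L' hL' => ?_, fun x hx hx1 L' hL' => ?_⟩
    · rintro P (rfl | rfl)
      exacts [le_sup_left, le_sup_right]
    · rintro P (rfl | rfl)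
      exacts [h.card.ge, hV4]
    · rcases hP with rfl | rfl
      · exact Or.inl (h.fixes_A hy hy1 hL' le_rfl)
      by_cases hm : Moved A (zpowers y) L'
      · exact Or.inl (hmoved y (mem_sup_right hy) hy1 L' hm)
      · refine Or.inr ⟨A, le_sup_left, fun x hx => ?_, fixes_of_not_moved hL' hm le_rfl⟩
        obtain ⟨a, ha, w, hw, rfl⟩ := hEmem x hx
        exact ⟨w, hw, a, ha, (hAV a ha w hw).eq⟩
    · by_cases hm : Moved A (zpowers x) L'
      · exact Or.inl ⟨V, Or.inr rfl, hmoved x hx hx1 L' hm⟩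
      · exact Or.inl ⟨A, Or.inl rfl, fixes_of_not_moved hL' hm le_rfl⟩
  refine h.false_of_fam hFam le_sup_left fun hbot => h.false_of_core (M := centralizer (V : Set G))
    (fun htop => h.set.cen_ne_top he1 (top_le_iff.1 (htop.ge.trans
      (centralizer_le (Set.singleton_subset_iff.2 (le_ext (mem_zpowers e))))))) fun a ha ha1 => ?_
  have hEn : E ≤ normalizer (ocen a : Set G) := fun z hz =>
    (OddDown.CoreSep.core_props a).2.1 (mem_cen.2 (mem_centralizer_iff.1 (hEC hz) a ha).symm)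
  have hAfac : ocen a ≤ Walter4.Blocks.factor A a := by
    intro o ho
    have haA' : A ≤ normalizer (ocen a : Set G) := le_sup_left.trans hEn
    obtain ⟨d, hd, r, hr, rfl⟩ := CoprimeAct.exists_commutator_mul haA'
      (Walter4.ea_cop h.set.ea le_rfl (Walter4.ocen_coprime a))
      (Or.inl (Walter4.ea_solvable h.set.ea le_rfl)) ho
    refine mul_mem (mem_sup_left hd) (mem_sup_right ⟨hr.1, ?_⟩)
    refine Walter4.mem_cor_of_mem_core (hx := hr.2) (Walter4.mem_cor (B₁ := zpowers a)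
      (zpowers_le.2 (h.set.le_cenS le_rfl ha)) (h.set.isPGroup.to_le (zpowers_le.2 ha))
      (by rw [cor_zpowers]; exact hr.1) hr.2 fun L' hL' => ?_)
    have hLB : L' ≤ centralizer (im (cenS A) (zpowers a) : Set (XB A)) :=
      (not_not.1 fun hn => h.not_moved le_rfl h.ne_bot L' ⟨hL', hn⟩).trans
        (centralizer_le (Walter4.im_mono (zpowers_le.2 ha)))
    intro l hl
    exact mem_centralizer_singleton_iff.2 (mem_centralizer_iff.1 (Walter4.cor_centralizes
      (zpowers_le.2 (h.set.le_cenS le_rfl ha)) (h.set.isPGroup.to_le (zpowers_le.2 ha)) hL' hLB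
      (mem_im (show r ∈ cor (zpowers a) by rw [cor_zpowers]; exact hr.1) hr.2)) l hl)
  have hth : ⁅ocen a, V⁆ = ⊥ := by
    refine le_bot_iff.1 (le_trans ?_ (hbot a (mem_sup_left ha) ha1).le)
    have hle : ⁅ocen a, V⁆ ≤ ocen a := CoprimeAct.commutator_le_left (le_sup_right.trans hEn)
    refine _root_.le_inf hle (le_iInf fun P => ?_)
    rcases P.2 with hP | hP <;> rw [hP]
    · exact hle.trans hAfac
    · exact le_sup_left
  exact commutator_eq_bot_iff_le_centralizer.1 hth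

end Frame

end Cfsg.Agent.Gold1169.Two
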